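import Cfsg.Prelude
import Mathlib.GroupTheory.SpecificGroups.Alternating.Simple
import Cfsg.Agent.Components.Basic
import Cfsg.Agent.Components.Standard

/-! Point stabilizers in alternating groups as standard subgroups. -/

set_option autoImplicit false

open Equiv Equiv.Perm Finset

namespace Cfsg.Agent.Components.AltStd

variable {α : Type*} [Fintype α] [DecidableEq α]

/-- The even permutations supported on `s`. -/
abbrev onSet (s : Finset α) : Subgroup ↥(alternatingGroup α) := (alternatingGroup.ofSubtype s).range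

theorem mem_onSet {s : Finset α} {k : ↥(alternatingGroup α)} :
    k ∈ onSet s ↔ (k : Perm α).support ⊆ s := alternatingGroup.mem_range_ofSubtype_iff s k

/-- The three-cycle `a ↦ c ↦ b ↦ a`. -/
def cyc3 (a b c : α) (hab : a ≠ b) (hac : a ≠ c) (hbc : b ≠ c) : ↥(alternatingGroup α) :=
  ⟨swap a b * swap a c, (isThreeCycle_swap_mul_swap_same hab hac hbc).mem_alternatingGroup⟩

theorem cyc3_mem {s : Finset α} {a b c : α} (hab : a ≠ b) (hac : a ≠ c) (hbc : b ≠ c)
    (ha : a ∈ s) (hb : b ∈ s) (hc : c ∈ s) : cyc3 a b c hab hac hbc ∈ onSet s := by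
  rw [mem_onSet]
  intro x hx
  by_contra hxs
  apply mem_support.mp hx
  have hxa : x ≠ a := fun e => hxs (e ▸ ha)
  have hxb : x ≠ b := fun e => hxs (e ▸ hb)
  have hxc : x ≠ c := fun e => hxs (e ▸ hc)
  show swap a b (swap a c x) = x
  rw [swap_apply_of_ne_of_ne hxa hxc, swap_apply_of_ne_of_ne hxa hxb]

theorem cyc3_apply {a b c : α} (hab : a ≠ b) (hac : a ≠ c) (hbc : b ≠ c) :
    (cyc3 a b c hab hac hbc : Perm α) a = c ∧ (cyc3 a b c hab hac hbc : Perm α) c = b ∧
      (cyc3 a b c hab hac hbc : Perm α) b = a := by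
  refine ⟨?_, ?_, ?_⟩ <;> simp [cyc3, swap_apply_of_ne_of_ne, hab.symm, hac.symm, hbc, hbc.symm]

theorem exists_avoid {s : Finset α} {k : ℕ} (h : k < #s) (t : Finset α) (ht : #t ≤ k) :
    ∃ x ∈ s, x ∉ t := exists_mem_notMem_of_card_lt_card (lt_of_le_of_lt ht h)

theorem onSet_injective {s t : Finset α} (hs : 3 ≤ #s) (h : onSet s ≤ onSet t) : s ⊆ t := by
  intro a ha
  obtain ⟨b, hb, hb'⟩ := exists_avoid (k := 1) (by omega : 1 < #s) {a} (by simp)
  obtain ⟨c, hc, hc'⟩ := exists_avoid (k := 2) (by omega : 2 < #s) {a, b} card_le_two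
  simp only [mem_insert, mem_singleton, not_or] at hb' hc'
  have hab : a ≠ b := Ne.symm hb'
  have hac : a ≠ c := Ne.symm hc'.1
  have hbc : b ≠ c := Ne.symm hc'.2
  refine mem_onSet.mp (h (cyc3_mem hab hac hbc ha hb hc)) ?_
  rw [mem_support, (cyc3_apply hab hac hbc).1]
  exact Ne.symm hac

theorem centralizer_onSet {s : Finset α} (hs : 4 ≤ #s) :
    Subgroup.centralizer (onSet s : Set ↥(alternatingGroup α)) = onSet sᶜ := by
  apply le_antisymm
  · intro k hk
    rw [mem_onSet]
    intro x hx
    rw [mem_compl]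
    intro hxs
    obtain ⟨b, hb, hb'⟩ := exists_avoid (k := 2) (by omega : 2 < #s) {x, (k : Perm α) x} card_le_two
    obtain ⟨c, hc, hc'⟩ := exists_avoid (k := 3) (by omega : 3 < #s) {x, (k : Perm α) x, b}
      card_le_three
    simp only [mem_insert, mem_singleton, not_or] at hb' hc'
    have hxb : x ≠ b := Ne.symm hb'.1
    have hxc : x ≠ c := Ne.symm hc'.1
    have hbc : b ≠ c := Ne.symm hc'.2.2
    have hcomm := congrArg (fun σ : ↥(alternatingGroup α) => (σ : Perm α) x)
      (Subgroup.mem_centralizer_iff.mp hk _ (cyc3_mem hxb hxc hbc hxs hb hc))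
    simp only [Subgroup.coe_mul, Perm.mul_apply, (cyc3_apply hxb hxc hbc).1] at hcomm
    have hfix : (cyc3 x b c hxb hxc hbc : Perm α) ((k : Perm α) x) = (k : Perm α) x := by
      show swap x b (swap x c ((k : Perm α) x)) = (k : Perm α) x
      rw [swap_apply_of_ne_of_ne (mem_support.mp hx) (Ne.symm hc'.2.1),
        swap_apply_of_ne_of_ne (mem_support.mp hx) (Ne.symm hb'.2)]
    rw [hfix] at hcomm
    exact hxc ((k : Perm α).injective hcomm)
  · intro k hk
    rw [Subgroup.mem_centralizer_iff]
    intro l hl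
    have h1 := mem_onSet.mp hl
    have h2 := mem_onSet.mp hk
    have hd : (l : Perm α).Disjoint (k : Perm α) := by
      rw [disjoint_iff_disjoint_support]
      exact Finset.disjoint_of_subset_left h1 (Finset.disjoint_of_subset_right h2 disjoint_compl_right)
    exact Subtype.ext hd.commute.eq

theorem map_conj_onSet (s : Finset α) (g : ↥(alternatingGroup α)) :
    (onSet s).map (MulAut.conj g).toMonoidHom = onSet (s.image (g : Perm α)) := by
  ext k
  rw [Subgroup.mem_map_equiv, mem_onSet, mem_onSet]
  simp only [MulAut.conj_symm_apply, Subgroup.coe_mul, Subgroup.coe_inv]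
  rw [show ((g : Perm α)⁻¹ * (k : Perm α) * (g : Perm α)) =
    (g : Perm α)⁻¹ * (k : Perm α) * (g : Perm α)⁻¹⁻¹ by rw [inv_inv], support_conj]
  simp only [Finset.subset_iff, Finset.mem_map, Equiv.coe_toEmbedding, forall_exists_index, and_imp,
    forall_apply_eq_imp_iff₂, mem_image]
  constructor
  · intro h x hx
    exact ⟨_, h x hx, by simp⟩
  · intro h x hx
    obtain ⟨y, hy, rfl⟩ := h hx
    simpa using hy

theorem mem_normalizer_onSet_iff {s : Finset α} (hs : 3 ≤ #s) (g : ↥(alternatingGroup α)) :
    g ∈ Subgroup.normalizer (onSet s : Set ↥(alternatingGroup α)) ↔ s.image (g : Perm α) = s := by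
  have hc : #(s.image (g : Perm α)) = #s := card_image_of_injective _ (g : Perm α).injective
  constructor
  · intro hg
    have h : (onSet s).map (MulAut.conj g).toMonoidHom = onSet s := by
      ext k
      rw [Subgroup.mem_map_equiv, MulAut.conj_symm_apply]
      simpa [mul_assoc] using Subgroup.mem_normalizer_iff.mp hg (g⁻¹ * k * g)
    rw [map_conj_onSet] at h
    exact subset_antisymm (onSet_injective (hc ▸ hs) h.le) (onSet_injective hs h.ge)
  · intro h
    apply mem_normalizer_of_map_conj_eq
    rw [map_conj_onSet, h]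

theorem image_compl_eq (s : Finset α) (g : Perm α) : sᶜ.image g = (s.image g)ᶜ := by
  ext x
  simp only [mem_image, mem_compl, not_exists, not_and]
  constructor
  · rintro ⟨y, hy, rfl⟩ z hz he
    exact hy (g.injective he ▸ hz)
  · intro h
    exact ⟨g⁻¹ x, fun hm => h _ hm (by simp), by simp⟩

theorem even_perm_sq_eq_one {σ : Perm α} (hs : Perm.sign σ = 1) (h2 : σ ^ 2 = 1)
    (hc : #σ.support ≤ 3) : σ = 1 := by
  by_contra hne
  have h1 : 2 ≤ #σ.support := two_le_card_support_of_ne_one hne
  rcases (by omega : #σ.support = 2 ∨ #σ.support = 3) with h | h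
  · obtain ⟨a, b, hab, rfl⟩ := card_support_eq_two.mp h
    rw [sign_swap hab] at hs
    exact absurd hs (by decide)
  · have h3 := (card_support_eq_three_iff.mp h).orderOf
    have := orderOf_dvd_of_pow_eq_one h2
    rw [h3] at this
    omega

/-- A set of more than half the points, whose complement has four points, gives a standard
subgroup. -/
theorem isStandard_onSet (s : Finset α) (hs : 5 ≤ #s) (hc : #sᶜ = 4)
    (hbig : Fintype.card α < 2 * #s) : Cfsg.IsStandardSubgroup (onSet s) := by
  refine ⟨?_, ?_, ?_, ?_⟩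
  · apply isQuasisimple_of_equiv (MonoidHom.ofInjective alternatingGroup.ofSubtype_injective)
    haveI : IsSimpleGroup ↥(alternatingGroup ↥s) :=
      alternatingGroup.isSimpleGroup (by simpa using hs)
    apply isQuasisimple_of_isSimpleGroup
    intro h
    have := alternatingGroup.isMulCommutative_iff_card_le_three.mp h
    simp at this
    omega
  · rw [centralizer_onSet (by omega)]
    constructor
    · obtain ⟨a, ha⟩ := card_pos.mp (show 0 < #sᶜ by omega)
      obtain ⟨b, hb, hb'⟩ := exists_avoid (k := 1) (by omega : 1 < #sᶜ) {a} (by simp)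
      obtain ⟨c, hcm, hc'⟩ := exists_avoid (k := 2) (by omega : 2 < #sᶜ) {a, b} card_le_two
      obtain ⟨d, hd, hd'⟩ := exists_avoid (k := 3) (by omega : 3 < #sᶜ) {a, b, c} card_le_three
      simp only [mem_insert, mem_singleton, not_or] at hb' hc' hd'
      let σ : ↥(alternatingGroup α) := ⟨swap a b * swap c d, by
        rw [mem_alternatingGroup, map_mul, sign_swap (Ne.symm hb'), sign_swap (Ne.symm hd'.2.2)]
        rfl⟩
      have hσ : σ ∈ onSet sᶜ := by
        rw [mem_onSet]
        intro x hx
        by_contra hxs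
        apply mem_support.mp hx
        have hxa : x ≠ a := fun e => hxs (e ▸ ha)
        have hxb : x ≠ b := fun e => hxs (e ▸ hb)
        have hxc : x ≠ c := fun e => hxs (e ▸ hcm)
        have hxd : x ≠ d := fun e => hxs (e ▸ hd)
        show swap a b (swap c d x) = x
        rw [swap_apply_of_ne_of_ne hxc hxd, swap_apply_of_ne_of_ne hxa hxb]
      have hσ1 : σ ≠ 1 := by
        intro e
        have h := congrArg (fun τ : ↥(alternatingGroup α) => (τ : Perm α) a) e
        simp only [σ, Perm.mul_apply, Subgroup.coe_one, Perm.one_apply] at h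
        rw [swap_apply_of_ne_of_ne (Ne.symm hc'.1) (Ne.symm hd'.1), swap_apply_left] at h
        exact hb' h
      have hσ2 : σ ^ 2 = 1 := by
        apply Subtype.ext
        show (swap a b * swap c d) ^ 2 = 1
        have hd2 : Perm.Disjoint (swap a b) (swap c d) := by
          rw [disjoint_iff_disjoint_support, support_swap (Ne.symm hb'),
            support_swap (Ne.symm hd'.2.2)]
          simp [Ne.symm hc'.1, Ne.symm hc'.2, Ne.symm hd'.1, Ne.symm hd'.2.1, hc'.1, hc'.2, hd'.1,
            hd'.2.1]
        rw [hd2.commute.mul_pow, sq, sq, swap_mul_self, swap_mul_self, mul_one]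
      rw [even_iff_two_dvd]
      have : orderOf (⟨σ, hσ⟩ : ↥(onSet sᶜ)) = 2 :=
        orderOf_eq_prime (Subtype.ext hσ2) (fun e => hσ1 (congrArg Subtype.val e))
      exact this ▸ orderOf_dvd_natCard _
    · intro g hg
      rw [mem_normalizer_onSet_iff (by omega), image_compl_eq, compl_inj_iff] at hg
      rw [Nat.odd_iff, ← Nat.two_dvd_ne_zero]
      intro hev
      obtain ⟨⟨k, hk⟩, hk2⟩ := exists_prime_orderOf_dvd_card' 2 hev
      obtain ⟨hk1, hk'⟩ := hk
      rw [map_conj_onSet] at hk'
      have hsub : (k : Perm α).support ⊆ sᶜ ∩ sᶜ.image (g : Perm α) :=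
        subset_inter (mem_onSet.mp hk1) (mem_onSet.mp hk')
      have h3 : #(sᶜ ∩ sᶜ.image (g : Perm α)) ≤ 3 := by
        by_contra h4
        have e1 : sᶜ ∩ sᶜ.image (g : Perm α) = sᶜ :=
          eq_of_subset_of_card_le inter_subset_left (by omega)
        have e2 : sᶜ ∩ sᶜ.image (g : Perm α) = sᶜ.image (g : Perm α) :=
          eq_of_subset_of_card_le inter_subset_right
            (by rw [card_image_of_injective _ (g : Perm α).injective]; omega)
        apply hg
        have := e2.symm.trans e1
        rwa [image_compl_eq, compl_inj_iff] at this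
      have hko : orderOf k = 2 := (Subgroup.orderOf_coe _).trans hk2
      have hkne : k ≠ 1 := fun e => by simp [e] at hko
      apply hkne
      apply Subtype.ext
      refine even_perm_sq_eq_one k.2 ?_ ((card_le_card hsub).trans h3)
      have := congrArg Subtype.val (pow_orderOf_eq_one k)
      simpa [hko] using this
  · intro g hne hbot
    rw [map_conj_onSet] at hne hbot
    set t := s.image (g : Perm α) with ht
    have hts : #t = #s := card_image_of_injective _ (g : Perm α).injective
    have hst : s ≠ t := fun e => hne (congrArg onSet e.symm)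
    obtain ⟨a, ha⟩ : (s ∩ t).Nonempty := by
      rw [← card_pos]
      have := card_union_add_card_inter s t
      have := card_le_univ (s ∪ t)
      omega
    obtain ⟨has, hat⟩ := mem_inter.mp ha
    obtain ⟨d, hd, hds⟩ : ∃ d ∈ t, d ∉ s := by
      by_contra! h
      exact hst (eq_of_subset_of_card_le h hts.ge).symm
    obtain ⟨e, het, he'⟩ := exists_avoid (k := 2) (by omega : 2 < #t) {a, d} card_le_two
    obtain ⟨b, hb, hb'⟩ := exists_avoid (k := 3) (by omega : 3 < #s) {a, d, e} card_le_three
    obtain ⟨c, hcs, hc'⟩ := exists_avoid (k := 4) (by omega : 4 < #s) {a, d, e, b} card_le_four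
    simp only [mem_insert, mem_singleton, not_or] at he' hb' hc'
    have hab : a ≠ b := Ne.symm hb'.1
    have hac : a ≠ c := Ne.symm hc'.1
    have hbc : b ≠ c := Ne.symm hc'.2.2.2
    have had : a ≠ d := fun e => hds (e ▸ has)
    have hae : a ≠ e := Ne.symm he'.1
    have hde : d ≠ e := Ne.symm he'.2
    have hmem := Subgroup.commutator_mem_commutator (cyc3_mem hab hac hbc has hb hcs)
      (cyc3_mem (s := t) had hae hde hat hd het)
    rw [hbot, Subgroup.mem_bot, commutatorElement_eq_one_iff_mul_comm] at hmem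
    have h := congrArg (fun σ : ↥(alternatingGroup α) => (σ : Perm α) a) hmem
    simp only [Subgroup.coe_mul, Perm.mul_apply, (cyc3_apply hab hac hbc).1,
      (cyc3_apply had hae hde).1] at h
    have h1 : (cyc3 a b c hab hac hbc : Perm α) e = e := by
      show swap a b (swap a c e) = e
      rw [swap_apply_of_ne_of_ne he'.1 (Ne.symm hc'.2.2.1),
        swap_apply_of_ne_of_ne he'.1 (Ne.symm hb'.2.2)]
    have h2 : (cyc3 a d e had hae hde : Perm α) c = c := by
      show swap a d (swap a e c) = c
      rw [swap_apply_of_ne_of_ne hc'.1 hc'.2.2.1, swap_apply_of_ne_of_ne hc'.1 hc'.2.1]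
    rw [h1, h2] at h
    exact hc'.2.2.1 h.symm
  · ext g
    rw [centralizer_onSet (by omega), mem_normalizer_onSet_iff (by omega),
      mem_normalizer_onSet_iff (by omega), image_compl_eq, compl_inj_iff]

end Cfsg.Agent.Components.AltStd
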