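import Mathlib.GroupTheory.PGroup
import Mathlib.GroupTheory.SpecificGroups.Cyclic
import Mathlib.GroupTheory.Index
import Mathlib.Tactic

/-!
Non-cyclic abelian subgroups of order eight.
-/

set_option autoImplicit false
set_option linter.unusedSectionVars false

namespace Cfsg.Agent.Components.Eight

variable {S : Type*} [Group S]

/-- `Y` has no non-cyclic abelian subgroup of order `8`. -/
def NoEight (Y : Subgroup S) : Prop :=
  ∀ A : Subgroup S, A ≤ Y → IsMulCommutative A → Nat.card A = 8 → IsCyclic A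

theorem NoEight.mono {Y W : Subgroup S} (h : NoEight Y) (hWY : W ≤ Y) : NoEight W :=
  fun A hA => h A (hA.trans hWY)

theorem comm_of {A : Subgroup S} (h : IsMulCommutative A) {a b : S} (ha : a ∈ A) (hb : b ∈ A) :
    a * b = b * a :=
  congrArg Subtype.val (h.is_comm.comm ⟨a, ha⟩ ⟨b, hb⟩)

theorem commutative_of {A : Subgroup S} (h : ∀ a ∈ A, ∀ b ∈ A, a * b = b * a) : IsMulCommutative A :=
  ⟨⟨fun a b => Subtype.ext (h _ a.2 _ b.2)⟩⟩

/-- Doubling an abelian subgroup. -/
theorem exists_double [Finite S] (K : Subgroup S) (hK : ∀ a ∈ K, ∀ b ∈ K, a * b = b * a) {y : S}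
    (hy : ∀ a ∈ K, y * a = a * y) (hy2 : y * y ∈ K) (hyK : y ∉ K) :
    ∃ L : Subgroup S, K ≤ L ∧ y ∈ L ∧ (∀ a ∈ L, ∀ b ∈ L, a * b = b * a) ∧
      Nat.card L = 2 * Nat.card K ∧ ∀ a, a ∈ L ↔ a ∈ K ∨ y⁻¹ * a ∈ K := by
  classical
  have hyinv : ∀ a ∈ K, y⁻¹ * a = a * y⁻¹ := fun a ha =>
    (Commute.inv_left (show Commute y a from hy a ha)).eq
  let L : Subgroup S :=
    { carrier := {a | a ∈ K ∨ y⁻¹ * a ∈ K}
      one_mem' := Or.inl K.one_mem
      mul_mem' := by
        rintro a b (ha | ha) (hb | hb)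
        · exact Or.inl (K.mul_mem ha hb)
        · refine Or.inr ?_
          rw [← mul_assoc, hyinv a ha, mul_assoc]
          exact K.mul_mem ha hb
        · refine Or.inr ?_
          rw [← mul_assoc]
          exact K.mul_mem ha hb
        · refine Or.inl ?_
          have : a * b = y * y * (y⁻¹ * a) * (y⁻¹ * b) := by
            rw [mul_assoc y y, hy _ ha]
            group
          rw [this]
          exact K.mul_mem (K.mul_mem hy2 ha) hb
      inv_mem' := by
        rintro a (ha | ha)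
        · exact Or.inl (K.inv_mem ha)
        · refine Or.inr ?_
          have : y⁻¹ * a⁻¹ = (y⁻¹ * a)⁻¹ * (y * y)⁻¹ := by
            have e := hy _ (K.inv_mem ha)
            calc y⁻¹ * a⁻¹ = y⁻¹ * ((y⁻¹ * a)⁻¹ * y⁻¹) := by group
              _ = (y⁻¹ * a)⁻¹ * y⁻¹ * y⁻¹ := by
                rw [← mul_assoc, hyinv _ (K.inv_mem ha)]
              _ = (y⁻¹ * a)⁻¹ * (y * y)⁻¹ := by group
          rw [this]
          exact K.mul_mem (K.inv_mem ha) (K.inv_mem hy2) }
  have hmem : ∀ a, a ∈ L ↔ a ∈ K ∨ y⁻¹ * a ∈ K := fun a => Iff.rfl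
  have hKL : K ≤ L := fun a ha => Or.inl ha
  have hyL : y ∈ L := Or.inr (by rw [inv_mul_cancel]; exact K.one_mem)
  refine ⟨L, hKL, hyL, ?_, ?_, hmem⟩
  · intro a ha b hb
    have key : ∀ c ∈ L, (∀ k ∈ K, c * k = k * c) ∧ c * y = y * c := by
      rintro c (hc | hc)
      · exact ⟨fun k hk => hK c hc k hk, (hy c hc).symm⟩
      · have e : c = y * (y⁻¹ * c) := by group
        refine ⟨fun k hk => ?_, ?_⟩
        · rw [e, mul_assoc, hK _ hc k hk, ← mul_assoc, hy k hk, mul_assoc]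
        · rw [e, mul_assoc, ← hy _ hc]
    rcases hb with hb | hb
    · exact (key a ha).1 b hb
    · have e : b = y * (y⁻¹ * b) := by group
      rw [e, ← mul_assoc, (key a ha).2, mul_assoc, (key a ha).1 _ hb, ← mul_assoc]
  · have e : L ≃ K ⊕ K :=
      { toFun := fun a => if h : (a : S) ∈ K then Sum.inl ⟨a, h⟩
          else Sum.inr ⟨y⁻¹ * a, a.2.resolve_left h⟩
        invFun := fun s => match s with
          | Sum.inl k => ⟨k, hKL k.2⟩
          | Sum.inr k => ⟨y * k, Or.inr (by rw [inv_mul_cancel_left]; exact k.2)⟩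
        left_inv := fun a => by
          by_cases h : (a : S) ∈ K
          · simp [h]
          · simp [h]
        right_inv := fun s => by
          rcases s with ⟨k, hk⟩ | ⟨k, hk⟩
          · simp [hk]
          · have : y * k ∉ K := fun h => hyK (by
              have := K.mul_mem h (K.inv_mem hk); rwa [mul_inv_cancel_right] at this)
            simp [this] }
    rw [Nat.card_congr e, Nat.card_sum]
    ring

theorem double_le [Finite S] {K L Y : Subgroup S} {y : S} (hmem : ∀ a, a ∈ L ↔ a ∈ K ∨ y⁻¹ * a ∈ K)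
    (hK : K ≤ Y) (hy : y ∈ Y) : L ≤ Y := by
  intro a ha
  rcases (hmem a).1 ha with h | h
  · exact hK h
  · have := Y.mul_mem hy (hK h)
    rwa [mul_inv_cancel_left] at this

/-- The four-group generated by two commuting involutions. -/
theorem exists_four [Finite S] {z e : S} (hz : z * z = 1) (hz1 : z ≠ 1) (he : e * e = 1)
    (he1 : e ≠ 1) (hez : e ≠ z) (hc : e * z = z * e) :
    ∃ K : Subgroup S, (∀ a ∈ K, ∀ b ∈ K, a * b = b * a) ∧ Nat.card K = 4 ∧ (∀ a ∈ K, a * a = 1) ∧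
      (∀ a, a ∈ K ↔ a = 1 ∨ a = z ∨ a = e ∨ a = e * z) := by
  obtain ⟨K₁, -, hzK, hK₁, hc₁, hm₁⟩ := exists_double (⊥ : Subgroup S)
    (fun a ha b hb => by rw [Subgroup.mem_bot.1 ha, Subgroup.mem_bot.1 hb]) (y := z)
    (fun a ha => by rw [Subgroup.mem_bot.1 ha]; simp) (by rw [hz]; exact Subgroup.one_mem _)
    (by rwa [Subgroup.mem_bot])
  have hm₁' : ∀ a, a ∈ K₁ ↔ a = 1 ∨ a = z := fun a => by
    rw [hm₁, Subgroup.mem_bot, Subgroup.mem_bot, inv_mul_eq_one]
    exact or_congr_right eq_comm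
  obtain ⟨K, -, -, hK, hc₂, hm⟩ := exists_double K₁ hK₁ (y := e)
    (fun a ha => by
      rcases (hm₁' a).1 ha with rfl | rfl
      · simp
      · exact hc)
    (by rw [he]; exact K₁.one_mem)
    (fun h => by
      rcases (hm₁' e).1 h with h | h
      · exact he1 h
      · exact hez h)
  have hmem : ∀ a, a ∈ K ↔ a = 1 ∨ a = z ∨ a = e ∨ a = e * z := fun a => by
    rw [hm, hm₁', hm₁', inv_mul_eq_iff_eq_mul, inv_mul_eq_iff_eq_mul, mul_one, or_assoc]
  refine ⟨K, hK, ?_, fun a ha => ?_, hmem⟩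
  · rw [hc₂, hc₁, Subgroup.card_bot]
  · rcases (hmem a).1 ha with rfl | rfl | rfl | rfl
    · simp
    · exact hz
    · exact he
    · rw [mul_assoc, ← mul_assoc z e z, ← hc, mul_assoc, hz, mul_one, he]

/-- An abelian group containing a four-group is not cyclic. -/
theorem not_isCyclic_of_four [Finite S] {A K : Subgroup S} (hKA : K ≤ A) (hK4 : Nat.card K = 4)
    (hK2 : ∀ a ∈ K, a * a = 1) : ¬ IsCyclic A := by
  intro h
  haveI : IsCyclic K := Subgroup.isCyclic_of_le hKA
  obtain ⟨g, hg⟩ := IsCyclic.exists_generator (α := K)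
  have h4 : orderOf g = 4 := by rw [orderOf_eq_card_of_forall_mem_zpowers hg, hK4]
  have h2 : g ^ 2 = 1 := Subtype.ext (by rw [pow_two]; exact hK2 _ g.2)
  have := orderOf_dvd_of_pow_eq_one h2
  rw [h4] at this
  exact absurd (Nat.le_of_dvd (by norm_num) this) (by norm_num)

/-- A four-group and a commuting element with square in it give a non-cyclic abelian subgroup of order 8. -/
theorem not_noEight_of_four [Finite S] {Y K : Subgroup S} (hKY : K ≤ Y)
    (hK : ∀ a ∈ K, ∀ b ∈ K, a * b = b * a) (hK4 : Nat.card K = 4) (hK2 : ∀ a ∈ K, a * a = 1) {y : S}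
    (hyY : y ∈ Y) (hy : ∀ a ∈ K, y * a = a * y) (hy2 : y * y ∈ K) (hyK : y ∉ K) : ¬ NoEight Y := by
  obtain ⟨A, hKA, -, hA, hcA, hm⟩ := exists_double K hK hy hy2 hyK
  intro h
  exact not_isCyclic_of_four hKA hK4 hK2
    (h A (double_le hm hKY hyY) (commutative_of hA) (by rw [hcA, hK4]))

/-- Three commuting elements generating an elementary or `4 × 2` group of order 8. -/
theorem not_noEight_of_pair [Finite S] {Y : Subgroup S} {z a b : S} (hz : z * z = 1) (hz1 : z ≠ 1)
    (hzY : z ∈ Y) (haY : a ∈ Y) (hbY : b ∈ Y) (haz : a * z = z * a) (hbz : b * z = z * b)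
    (hab : a * b = b * a) (ha2 : a * a = 1 ∨ a * a = z) (hb2 : b * b = 1 ∨ b * b = z)
    (ha : a ≠ 1) (ha' : a ≠ z) (hb : b ≠ 1) (hb' : b ≠ z) (hba : b ≠ a) (hba' : b ≠ a * z) :
    ¬ NoEight Y := by
  have main : ∀ e y : S, e ∈ Y → y ∈ Y → e * e = 1 → e ≠ 1 → e ≠ z → e * z = z * e → y * z = z * y →
      y * e = e * y → (y * y = 1 ∨ y * y = z) → y ≠ 1 → y ≠ z → y ≠ e → y ≠ e * z → ¬ NoEight Y := by
    intro e y heY hyY he he1 hez hcez hcyz hcye hy2 h1 h2 h3 h4
    obtain ⟨K, hK, hK4, hK2, hm⟩ := exists_four hz hz1 he he1 hez hcez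
    refine not_noEight_of_four (fun k hk => ?_) hK hK4 hK2 hyY (fun k hk => ?_) ?_ ?_
    · rcases (hm k).1 hk with rfl | rfl | rfl | rfl
      · exact Y.one_mem
      · exact hzY
      · exact heY
      · exact Y.mul_mem heY hzY
    · rcases (hm k).1 hk with rfl | rfl | rfl | rfl
      · simp
      · exact hcyz
      · exact hcye
      · exact ((show Commute y e from hcye).mul_right hcyz).eq
    · rcases hy2 with h | h
      · exact (hm _).2 (Or.inl h)
      · exact (hm _).2 (Or.inr (Or.inl h))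
    · intro h
      rcases (hm y).1 h with h | h | h | h
      exacts [h1 h, h2 h, h3 h, h4 h]
  have hzz : ∀ x : S, x * z * z = x := fun x => by rw [mul_assoc, hz, mul_one]
  rcases ha2 with ha2 | ha2
  · exact main a b haY hbY ha2 ha ha' haz hbz hab.symm hb2 hb hb' hba hba'
  rcases hb2 with hb2 | hb2
  · exact main b a hbY haY hb2 hb hb' hbz haz hab (Or.inr ha2) ha ha' (Ne.symm hba)
      (fun h => hba' (by rw [h, hzz]))
  · -- `a * b` is an involution
    have e : a * b * (a * b) = 1 := by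
      rw [mul_assoc, ← mul_assoc b a b, ← hab, mul_assoc a b b, hb2, ← mul_assoc, ha2, hz]
    have cb : ∀ w, a * b = w → b = a⁻¹ * w := fun w h => by rw [← h, inv_mul_cancel_left]
    have hainv : a⁻¹ = a * z := inv_eq_of_mul_eq_one_right (by rw [← mul_assoc, ha2, hz])
    refine main (a * b) a (Y.mul_mem haY hbY) haY e (fun h => hba' ?_) (fun h => hba ?_)
      (by rw [mul_assoc, hbz, ← mul_assoc, haz, mul_assoc]) haz
      (by rw [mul_assoc, hab]) (Or.inr ha2) ha ha' (fun h => hb ?_) (fun h => hb' ?_)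
    · rw [cb 1 h, mul_one, hainv]
    · rw [cb z h, hainv, hzz]
    · exact mul_left_cancel (a := a) (by rw [mul_one]; exact h.symm)
    · have h1 : a * (b * z) = a * 1 := by rw [mul_one, ← mul_assoc]; exact h.symm
      exact mul_right_cancel (b := z) (by rw [mul_left_cancel h1, hz])

/-- In a `2`-group, a proper overgroup contains an element outside with square inside, central modulo
the subgroup when that is normal. -/
theorem exists_sq_mem [Finite S] {K D : Subgroup S} (hD : IsPGroup 2 D) (hlt : ¬ D ≤ K)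
    (hn : ∀ d ∈ D, ∀ k ∈ K, k ∈ D → d * k * d⁻¹ ∈ K) :
    ∃ y ∈ D, y ∉ K ∧ y * y ∈ K ∧ ∀ d ∈ D, d * y * d⁻¹ * y⁻¹ ∈ K := by
  set N : Subgroup ↥D := K.subgroupOf D
  haveI : N.Normal := ⟨fun k hk d => hn d d.2 k hk k.2⟩
  haveI : Fact (Nat.Prime 2) := ⟨Nat.prime_two⟩
  haveI : Nontrivial (↥D ⧸ N) := by
    rw [QuotientGroup.nontrivial_iff, Ne, Subgroup.subgroupOf_eq_top]
    exact hlt
  have hq : IsPGroup 2 (↥D ⧸ N) := hD.to_quotient N
  haveI := hq.center_nontrivial
  obtain ⟨c, hc⟩ := exists_prime_orderOf_dvd_card' (G := Subgroup.center (↥D ⧸ N)) 2 (by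
    obtain ⟨k, hk⟩ := IsPGroup.iff_card.1 (hq.to_subgroup (Subgroup.center (↥D ⧸ N)))
    have := Finite.one_lt_card (α := Subgroup.center (↥D ⧸ N))
    rcases k with _ | k
    · omega
    · rw [hk]; exact dvd_pow_self 2 (Nat.succ_ne_zero k))
  obtain ⟨y, hy⟩ := QuotientGroup.mk_surjective (c : ↥D ⧸ N)
  refine ⟨y, y.2, fun h => ?_, ?_, fun d hd => ?_⟩
  · have : c = 1 := Subtype.ext (hy.symm.trans ((QuotientGroup.eq_one_iff y).2 h))
    rw [this, orderOf_one] at hc
    omega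
  · have h2 := congrArg Subtype.val (pow_orderOf_eq_one c)
    rw [hc, Subgroup.coe_pow, ← hy, ← QuotientGroup.mk_pow, Subgroup.coe_one, QuotientGroup.eq_one_iff,
      pow_two] at h2
    exact h2
  · have h2 := Subgroup.mem_center_iff.1 c.2 (QuotientGroup.mk ⟨d, hd⟩)
    rw [← hy] at h2
    have : (⟨d, hd⟩ * y * (⟨d, hd⟩ : ↥D)⁻¹ * y⁻¹ : ↥D) ∈ N := by
      rw [← QuotientGroup.eq_one_iff, QuotientGroup.mk_mul, QuotientGroup.mk_mul, QuotientGroup.mk_mul,
        h2, QuotientGroup.mk_inv, QuotientGroup.mk_inv]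
      group
    exact this

/-- An element of odd order moving `x` to `w * x`, with `w ^ 2 = 1` commuting with it, fixes `x`. -/
theorem fixed_of_odd {h x w : S} (hodd : Odd (orderOf h)) (hx : h * x * h⁻¹ = w * x)
    (hw : h * w * h⁻¹ = w) (hw2 : w * w = 1) : w = 1 := by
  have e : ∀ k : ℕ, h ^ k * x * (h ^ k)⁻¹ = w ^ k * x := by
    intro k
    induction k with
    | zero => simp
    | succ k ih =>
      have hw' : h * w ^ k * h⁻¹ = w ^ k := by rw [← conj_pow, hw]
      calc h ^ (k + 1) * x * (h ^ (k + 1))⁻¹ = h * (h ^ k * x * (h ^ k)⁻¹) * h⁻¹ := by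
            rw [pow_succ']; group
        _ = (h * w ^ k * h⁻¹) * (h * x * h⁻¹) := by rw [ih]; group
        _ = w ^ (k + 1) * x := by rw [hw', hx, ← mul_assoc, ← pow_succ]
  have h1 := e (orderOf h)
  rw [pow_orderOf_eq_one, one_mul, inv_one, mul_one] at h1
  obtain ⟨j, hj⟩ := hodd
  rw [hj, pow_add, pow_mul, pow_two, hw2, one_pow, one_mul, pow_one] at h1
  exact mul_right_cancel (b := x) (by rw [one_mul]; exact h1.symm)

/-- The same, with all the data in an `H`-fixed set. -/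
theorem centralizes_of_sq {H : Subgroup S} (hH : ∀ h ∈ H, Odd (orderOf h)) {x : S}
    (hx : ∀ h ∈ H, (h * x * h⁻¹ * x⁻¹) * (h * x * h⁻¹ * x⁻¹) = 1 ∧
      ∀ k ∈ H, k * (h * x * h⁻¹ * x⁻¹) * k⁻¹ = h * x * h⁻¹ * x⁻¹) :
    ∀ h ∈ H, h * x = x * h := by
  intro h hh
  have e := fixed_of_odd (x := x) (hH h hh) (w := h * x * h⁻¹ * x⁻¹) (by group) ((hx h hh).2 h hh) (hx h hh).1
  exact mul_inv_eq_iff_eq_mul.1 (mul_inv_eq_one.1 e)

end Cfsg.Agent.Components.Eight
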