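import Cfsg.Agent.Components.EightClassify
import Cfsg.Agent.Core.MinimalNormal
import Cfsg.Agent.Core.Hall
import Cfsg.Agent.Fusion.EssentialFour

/-!
Solvable groups with trivial `O_{2'}` and a non-cyclic abelian subgroup of order eight, minimal with
respect to subgroups of `2`-power index.
-/

set_option autoImplicit false
set_option linter.unusedSectionVars false
set_option linter.style.haveILetI false

namespace Cfsg.Agent.Components.Eight

open scoped commutatorElement

variable {S : Type*} [Group S] [Finite S]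

/-- Four-group kernels of abelian groups of order eight. -/
theorem four_kernel {A G : Type*} [Group A] [Group G] [Finite A] (hA : Nat.card A = 8)
    (hAc : ∀ a b : A, a * b = b * a) (f : A →* G) (V : Subgroup G)
    (hV : Nat.card V = 4) (hn : ∀ a : A, ∀ v ∈ V, f a * v * (f a)⁻¹ ∈ V) :
    4 ≤ Nat.card ((Subgroup.centralizer (V : Set G)).comap f) := by
  classical
  haveI : Finite V := Nat.finite_of_card_ne_zero (by rw [hV]; norm_num)
  let T := {v : V // v ≠ 1}
  have hconj : ∀ a : A, ∀ v : T,
      (⟨f a * ((v : V) : G) * (f a)⁻¹, hn a _ v.1.2⟩ : V) ≠ 1 := fun a v h =>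
    v.2 (Subtype.ext (conj_eq_one_iff.1 (congrArg Subtype.val h)))
  let σ : A → Equiv.Perm T := fun a =>
    { toFun := fun v => ⟨⟨f a * ((v : V) : G) * (f a)⁻¹, hn a _ v.1.2⟩, hconj a v⟩
      invFun := fun v => ⟨⟨f a⁻¹ * ((v : V) : G) * (f a⁻¹)⁻¹, hn a⁻¹ _ v.1.2⟩, hconj a⁻¹ v⟩
      left_inv := fun v => Subtype.ext (Subtype.ext (by simp only [map_inv]; group))
      right_inv := fun v => Subtype.ext (Subtype.ext (by simp only [map_inv]; group)) }
  let ρ : A →* Equiv.Perm T :=
    MonoidHom.mk' σ fun a b => Equiv.ext fun v => Subtype.ext (Subtype.ext (by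
      show f (a * b) * _ * (f (a * b))⁻¹ = f a * (f b * _ * (f b)⁻¹) * (f a)⁻¹
      rw [map_mul]; group))
  have hT : Nat.card T = 3 := by
    haveI := Fintype.ofFinite V
    rw [Nat.card_eq_fintype_card, Fintype.card_subtype_compl, Fintype.card_subtype_eq,
      ← Nat.card_eq_fintype_card, hV]
  have h6 : Nat.card ρ.range ∣ 6 := by
    have := Subgroup.card_subgroup_dvd_card ρ.range
    rwa [Nat.card_perm, hT] at this
  have h8 : Nat.card ρ.range ∣ 8 := hA ▸ Subgroup.card_range_dvd ρ
  have h2 : Nat.card ρ.range ∣ 2 := Nat.dvd_gcd h6 h8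
  have hmul := Subgroup.card_mul_index ρ.ker
  rw [Subgroup.index_ker, hA] at hmul
  have hle : ρ.ker ≤ (Subgroup.centralizer (V : Set G)).comap f := by
    intro a ha
    rw [Subgroup.mem_comap, Subgroup.mem_centralizer_iff]
    intro v hv
    by_cases hv1 : v = 1
    · simp [hv1]
    have e := congrArg (fun w : T => ((w : V) : G))
      (Equiv.ext_iff.1 (MonoidHom.mem_ker.1 ha) ⟨⟨v, hv⟩, fun h => hv1 (congrArg Subtype.val h)⟩)
    exact (mul_inv_eq_iff_eq_mul.1 (show f a * v * (f a)⁻¹ = v from e)).symm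
  refine le_trans ?_ (Subgroup.card_le_of_le hle)
  have := Nat.le_of_dvd (by norm_num) h2
  by_contra hlt
  have h3 : Nat.card ρ.ker * Nat.card ρ.range ≤ 3 * 2 := Nat.mul_le_mul (by omega) this
  omega

/-- A normal self-centralising subgroup which is four or quaternion forces all non-cyclic abelian
subgroups of order eight into itself. -/
theorem le_of_four {Q : Subgroup S} (hn : Q.Normal) (hC : Subgroup.centralizer (Q : Set S) ≤ Q)
    (h4 : Nat.card Q = 4) (h2 : ∀ a ∈ Q, a * a = 1) {A : Subgroup S} (hAc : IsMulCommutative A)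
    (hA : Nat.card A = 8) : False := by
  classical
  have hk := four_kernel hA (fun a b => Subtype.ext (comm_of hAc a.2 b.2)) A.subtype Q h4
    (fun a v hv => hn.conj_mem v hv _)
  rw [← Subgroup.card_map_of_injective A.subtype_injective] at hk
  set K := ((Subgroup.centralizer (Q : Set S)).comap A.subtype).map A.subtype
  have hKQ : K ≤ Q := (Subgroup.map_comap_le _ _).trans hC
  have he : K = Q := Subgroup.eq_of_le_of_card_ge hKQ (by omega)
  have hQA : Q ≤ A := he ▸ Subgroup.map_subtype_le _
  have hAQ : A ≤ Q := fun a ha => hC (Subgroup.mem_centralizer_iff.2 fun q hq => comm_of hAc (hQA hq) ha)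
  have := Subgroup.card_le_of_le hAQ
  omega

theorem le_of_quaternion {Q : Subgroup S} (hn : Q.Normal) (hC : Subgroup.centralizer (Q : Set S) ≤ Q)
    {z : S} (hQ : IsQ Q z) {A : Subgroup S} (hAc : IsMulCommutative A) (hAn : ¬ IsCyclic A)
    (hA : Nat.card A = 8) : False := by
  classical
  have hzc : ∀ g : S, g * z * g⁻¹ = z := by
    intro g
    by_contra hne
    have h1 : g * z * g⁻¹ ≠ 1 := fun e => hQ.ne (conj_eq_one_iff.1 e)
    have e := hQ.sq_eq _ (hn.conj_mem z hQ.mem g) h1 hne
    rw [show g * z * g⁻¹ * (g * z * g⁻¹) = g * (z * z) * g⁻¹ by group, hQ.sq, mul_one, mul_inv_cancel] at e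
    exact hQ.ne e.symm
  set N := Subgroup.zpowers z
  have hNm : ∀ k, k ∈ N ↔ k = 1 ∨ k = z := zpowers_of_sq hQ.sq
  haveI : N.Normal := ⟨fun k hk g => by
    rcases (hNm k).1 hk with e | e <;> rw [e]
    · simp
    · rw [hzc]; exact Subgroup.mem_zpowers z⟩
  -- the image of `Q`
  set g : ↥Q →* S ⧸ N := (QuotientGroup.mk' N).comp Q.subtype with hg
  have hNQ : N ≤ Q := Subgroup.zpowers_le.2 hQ.mem
  have hker : Nat.card g.ker = 2 := by
    rw [show g.ker = N.subgroupOf Q by
      rw [hg, ← MonoidHom.comap_ker, QuotientGroup.ker_mk']; rfl,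
      Nat.card_congr (Subgroup.subgroupOfEquivOfLe hNQ).toEquiv, Nat.card_zpowers]
    exact orderOf_eq_prime (by rw [pow_two]; exact hQ.sq) hQ.ne
  have hV : Nat.card g.range = 4 := by
    have := Subgroup.card_mul_index g.ker
    rw [Subgroup.index_ker, hker, hQ.card] at this
    omega
  have hk := four_kernel hA (fun a b => Subtype.ext (comm_of hAc a.2 b.2))
    ((QuotientGroup.mk' N).comp A.subtype) g.range hV (by
      rintro a _ ⟨q, rfl⟩
      exact ⟨⟨a * q * (a : S)⁻¹, hn.conj_mem _ q.2 _⟩, rfl⟩)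
  rw [← Subgroup.card_map_of_injective A.subtype_injective] at hk
  set K := ((Subgroup.centralizer (g.range : Set (S ⧸ N))).comap
    ((QuotientGroup.mk' N).comp A.subtype)).map A.subtype with hKdef
  have hKQ : K ≤ Q := by
    rintro _ ⟨a, ha, rfl⟩
    have hc : ∀ q ∈ Q, (a : S) * q * (a : S)⁻¹ = q ∨ (a : S) * q * (a : S)⁻¹ = q * z := by
      intro q hq
      have e := Subgroup.mem_centralizer_iff.1 ha (g ⟨q, hq⟩) ⟨_, rfl⟩
      have e' : (q * a)⁻¹ * ((a : S) * q) ∈ N := QuotientGroup.eq.1 e
      rcases (hNm _).1 e' with e2 | e2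
      · left; rw [inv_mul_eq_one] at e2; rw [← e2, mul_inv_cancel_right]
      · right
        rw [inv_mul_eq_iff_eq_mul] at e2
        have hz : (a : S) * z = z * a := mul_inv_eq_iff_eq_mul.1 (hzc a)
        rw [e2, mul_assoc q, hz, ← mul_assoc, mul_inv_cancel_right]
    obtain ⟨y₀, hy₀, hy₀c⟩ := hQ.inner hc
    have := Q.mul_mem hy₀ (hC (Subgroup.mem_centralizer_iff.2 fun q hq => (hy₀c q hq).symm))
    rw [mul_inv_cancel_left] at this
    exact this
  have hKA : K ≤ A := Subgroup.map_subtype_le _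
  -- `A ∩ Q = {1, z, i, i z}`
  obtain ⟨i, hi, hi1, hi2⟩ : ∃ i ∈ K, i ≠ 1 ∧ i ≠ z := by
    by_contra h
    push Not at h
    have hle : K ≤ N := fun k hk => (hNm k).2 (or_iff_not_imp_left.2 fun h1 => h k hk h1)
    have := Subgroup.card_le_of_le hle
    rw [Nat.card_zpowers, orderOf_eq_prime (by rw [pow_two]; exact hQ.sq) hQ.ne] at this
    omega
  have hiA := hKA hi
  have hiQ := hKQ hi
  have hcases : ∀ k ∈ Q, k ∈ A → k = 1 ∨ k = z ∨ k = i ∨ k = i * z := fun k hk hk' =>
    hQ.comm_cases hiQ hk hi1 hi2 (comm_of hAc hiA hk')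
  have hAQ : ¬ A ≤ Q := by
    intro h
    have h' : A = Q := Subgroup.eq_of_le_of_card_ge h (by rw [hA, hQ.card])
    obtain ⟨a, ha, b, hb, hab⟩ := hQ.noncomm
    exact hab (comm_of hAc (h'.symm ▸ ha) (h'.symm ▸ hb))
  obtain ⟨y, hy, hyQ, hy2, -⟩ := exists_sq_mem (IsPGroup.of_card (n := 3) (p := 2) hA) hAQ
    (fun d _ k hk _ => hn.conj_mem k hk d)
  have hyy : y * y = 1 ∨ y * y = z := by
    rcases hcases _ hy2 (A.mul_mem hy hy) with e | e | e | e
    · exact Or.inl e
    · exact Or.inr e
    all_goals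
      exfalso
      apply hAn
      have h4 : y ^ 4 = z := by
        rw [show (4 : ℕ) = 2 * 2 from rfl, pow_mul, pow_two y, pow_two, e]
        first
          | exact hQ.sq_eq i hiQ hi1 hi2
          | (rw [mul_assoc, ← mul_assoc z, ← hQ.central i hiQ, mul_assoc i z z, hQ.sq, mul_one]
             exact hQ.sq_eq i hiQ hi1 hi2)
      have h8 : orderOf y = 2 ^ (2 + 1) := by
        haveI : Fact (Nat.Prime 2) := ⟨Nat.prime_two⟩
        refine orderOf_eq_prime_pow ?_ ?_
        · rw [show 2 ^ 2 = 4 from rfl, h4]; exact hQ.ne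
        · rw [show 2 ^ (2 + 1) = 4 * 2 from rfl, pow_mul, h4, pow_two, hQ.sq]
      have he : Subgroup.zpowers y = A := Subgroup.eq_of_le_of_card_ge (Subgroup.zpowers_le.2 hy)
        (by rw [hA, Nat.card_zpowers, h8]; norm_num)
      rw [← he]; infer_instance
  -- `y` fixes `i`
  have hyi : y * i = i * y := comm_of hAc hy hiA
  obtain ⟨j, hj, hij⟩ : ∃ j ∈ Q, i * j ≠ j * i := by
    by_contra h
    push Not at h
    have hsub : (Q : Set S) ⊆ ({1, z, i, i * z} : Finset S) := by
      intro q hq
      simpa using hQ.comm_cases hiQ hq hi1 hi2 (h q hq)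
    have h' := (Set.ncard_le_ncard hsub).trans_eq (Set.ncard_coe_finset _)
    have hle : ({1, z, i, i * z} : Finset S).card ≤ 4 := Finset.card_le_four
    have h'' : Nat.card Q = (Q : Set S).ncard := Nat.card_coe_set_eq _
    rw [hQ.card] at h''
    omega
  have hboth : ∀ c ∈ Q, i * c = c * i → j * c = c * j → c = 1 ∨ c = z := by
    intro c hc e1 e2
    rcases hQ.comm_cases hiQ hc hi1 hi2 e1 with e | e | e | e
    · exact Or.inl e
    · exact Or.inr e
    · rw [e] at e2; exact absurd e2.symm hij
    · rw [e] at e2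
      refine absurd ?_ hij
      have e' : j * i * z = i * j * z := by
        rw [mul_assoc, e2, mul_assoc i z j, ← hQ.central j hj, ← mul_assoc]
      exact (mul_right_cancel e').symm
  have hcQ : ∀ c : S, c * i = i * c → c * j = j * c → c ∈ Q := by
    intro c e1 e2
    refine hC (Subgroup.mem_centralizer_iff.2 fun q hq => ?_)
    have hK' : Q ⊓ Subgroup.centralizer ({c} : Set S) = Q := hQ.closure_eq inf_le_left
      (a := i) (b := j) ⟨hiQ, Subgroup.mem_centralizer_singleton_iff.2 e1.symm⟩
      ⟨hj, Subgroup.mem_centralizer_singleton_iff.2 e2.symm⟩ hij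
    exact Subgroup.mem_centralizer_singleton_iff.1 (hK'.symm ▸ hq : q ∈ Q ⊓ Subgroup.centralizer ({c} : Set S)).2
  set j' := y * j * y⁻¹ with hj'
  have hj'Q : j' ∈ Q := hn.conj_mem j hj y
  have hij' : i * j' ≠ j' * i := fun h => hij (by
    calc i * j = y⁻¹ * (y * i * y⁻¹ * j') * y := by rw [hj']; group
      _ = y⁻¹ * (i * j') * y := by rw [hyi, mul_inv_cancel_right]
      _ = y⁻¹ * (j' * i) * y := by rw [h]
      _ = j * (y⁻¹ * i * y) := by rw [hj']; group
      _ = j * i := by rw [mul_assoc y⁻¹, ← hyi, inv_mul_cancel_left])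
  have hj1 : j ≠ 1 := fun h => hij (by simp [h])
  have hj2 : j ≠ z := fun h => hij (by rw [h, hQ.central i hiQ])
  by_cases hc : j * j' = j' * j
  · rcases hQ.comm_cases hj hj'Q hj1 hj2 hc with e | e | e | e
    · exact hj1 (conj_eq_one_iff.1 e)
    · refine hj2 ?_
      calc j = y⁻¹ * j' * y := by rw [hj']; group
        _ = y⁻¹ * z * y⁻¹⁻¹ := by rw [e, inv_inv]
        _ = z := hzc y⁻¹
    · exact hyQ (hcQ y hyi (mul_inv_eq_iff_eq_mul.1 e))
    · have h1 : i * y ∈ Q := hcQ (i * y) (by rw [mul_assoc, hyi]) (mul_inv_eq_iff_eq_mul.1 (by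
        rw [show i * y * j * (i * y)⁻¹ = i * j' * i⁻¹ by rw [hj']; group, e,
          show i * (j * z) * i⁻¹ = i * j * i⁻¹ * (i * z * i⁻¹) by group, hzc, hQ.conj_eq hiQ hj hij,
          mul_assoc, hQ.sq, mul_one]))
      exact hyQ (by have := Q.mul_mem (Q.inv_mem hiQ) h1; rwa [inv_mul_cancel_left] at this)
  · -- `j' = i j u`
    have e1 : j' * i * j'⁻¹ = i * z := hQ.conj_eq hj'Q hiQ (Ne.symm hij')
    have e2 : j' * j * j'⁻¹ = j * z := hQ.conj_eq hj'Q hj (Ne.symm hc)
    have d1 : i * j * i * (i * j)⁻¹ = i * z := by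
      rw [show i * j * i * (i * j)⁻¹ = i * (j * i * j⁻¹) * i⁻¹ by group,
        hQ.conj_eq hj hiQ (Ne.symm hij), show i * (i * z) * i⁻¹ = i * (i * z * i⁻¹) by group, hzc]
    have d2 : i * j * j * (i * j)⁻¹ = j * z := by
      rw [show i * j * j * (i * j)⁻¹ = i * j * i⁻¹ by group, hQ.conj_eq hiQ hj hij]
    have key : ∀ x, i * j * x * (i * j)⁻¹ = j' * x * j'⁻¹ → x * ((i * j)⁻¹ * j') = (i * j)⁻¹ * j' * x := by
      intro x h
      calc x * ((i * j)⁻¹ * j') = (i * j)⁻¹ * (i * j * x * (i * j)⁻¹) * j' := by group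
        _ = (i * j)⁻¹ * (j' * x * j'⁻¹) * j' := by rw [h]
        _ = (i * j)⁻¹ * j' * x := by group
    have hu := hboth _ (Q.mul_mem (Q.inv_mem (Q.mul_mem hiQ hj)) hj'Q) (key i (d1.trans e1.symm))
      (key j (d2.trans e2.symm))
    set u := (i * j)⁻¹ * j' with hudef
    have eu : j' = i * j * u := by rw [hudef, mul_inv_cancel_left]
    have huz : u * u = 1 ∧ y * u * y⁻¹ = u := by
      rcases hu with e | e <;> rw [e]
      · exact ⟨one_mul 1, by group⟩
      · exact ⟨hQ.sq, hzc y⟩
    have ej : y * j' * y⁻¹ = j := by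
      rw [hj', show y * (y * j * y⁻¹) * y⁻¹ = y * y * j * (y * y)⁻¹ by group]
      rcases hyy with e | e <;> rw [e]
      · group
      · rw [show z * j = j * z from (hQ.central j hj).symm, mul_inv_cancel_right]
    rw [eu, show y * (i * j * u) * y⁻¹ = (y * i * y⁻¹) * (y * j * y⁻¹) * (y * u * y⁻¹) by group, ← hj',
      huz.2, hyi, mul_inv_cancel_right, eu, mul_assoc i (i * j * u) u, mul_assoc (i * j) u u, huz.1,
      mul_one, ← mul_assoc, hQ.sq_eq i hiQ hi1 hi2] at ej
    exact hQ.ne (mul_right_cancel (b := j) (by rw [one_mul]; exact ej))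

/-- The main statement. -/
theorem structure_minimal [Group.IsSolvable S] (hO : Cfsg.pPrimeCore 2 S = ⊥)
    (h8 : ∃ A : Subgroup S, IsMulCommutative ↥A ∧ ¬ IsCyclic ↥A ∧ Nat.card ↥A = 8)
    (hmin : ∀ R : Subgroup S, R ≠ ⊤ → (∃ k : ℕ, R.index = 2 ^ k) → NoEight R)
    (X : Sylow 2 S) :
    (X : Subgroup S).Normal ∧
      (IsMulCommutative ↥X ∨
        (Cfsg.IsExtraspecial 2 ↥X ∧ 32 ≤ Nat.card ↥X) ∨
        (∃ (X₀ : Subgroup S) (k : ℕ), X₀ ≤ (X : Subgroup S) ∧ X₀.relIndex (X : Subgroup S) = 2 ∧
          Nonempty (↥X₀ ≃* QuaternionGroup (2 ^ (k + 1))) ∧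
          X₀ ⊔ ((X : Subgroup S) ⊓ Subgroup.centralizer (X₀ : Set S)) = (X : Subgroup S)) ∨
        (Cfsg.IsSpecial 2 ↥X ∧ Nat.card ↥(Subgroup.center ↥X) = 4)) := by
  classical
  haveI : Fact (Nat.Prime 2) := ⟨Nat.prime_two⟩
  obtain ⟨A, hAc, hAn, hA8⟩ := h8
  set Q := Cfsg.pCore 2 S with hQdef
  have hQ2 : IsPGroup 2 Q := Core.isPGroup_pCore 2 S
  haveI hQn : Q.Normal := by rw [hQdef]; infer_instance
  have hCQ : Subgroup.centralizer (Q : Set S) ≤ Q := Core.centralizer_pCore_le_of_isSolvable hO
  obtain ⟨H, hHπ, hHidx⟩ := Core.exists_isPiHall_of_isSolvable (G := S) {p : ℕ | p ≠ 2}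
  have hHcard : ¬ 2 ∣ Nat.card H := fun h => hHπ 2 Nat.prime_two h rfl
  have hH : ∀ h ∈ H, Odd (orderOf h) := by
    intro h hh
    rw [← Nat.not_even_iff_odd, even_iff_two_dvd]
    intro hd
    exact hHcard (hd.trans (by rw [← Subgroup.orderOf_mk h hh]; exact orderOf_dvd_natCard _))
  obtain ⟨k₀, hk₀⟩ : ∃ k, H.index = 2 ^ k :=
    ⟨_, Nat.eq_prime_pow_of_unique_prime_dvd Subgroup.index_ne_zero_of_finite fun {d} hd hdv => by
      by_contra hne
      exact hHidx d hd hne hdv⟩
  have hidx : ∀ R : Subgroup S, H ≤ R → ∃ k, R.index = 2 ^ k := by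
    intro R hR
    have := Subgroup.index_dvd_of_le hR
    rw [hk₀] at this
    obtain ⟨j, -, hj⟩ := (Nat.dvd_prime_pow Nat.prime_two).1 this
    exact ⟨j, hj⟩
  have hHQ : H ≤ Subgroup.normalizer (Q : Set S) := fun h _ => by
    rw [Subgroup.normalizer_eq_top]; exact Subgroup.mem_top h
  by_cases hQN : NoEight Q
  · -- impossible
    exfalso
    set Y := ⁅Q, H⁆
    have hYQ : Y ≤ Q := Coprime.commutator_le_of_le_normalizer hHQ
    have hY : Small Y := classify hH (hQ2.to_le hYQ) (Subgroup.normalizer_commutator_ge_right Q H)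
      (commutator_idem hH hQ2 hHQ) (hQN.mono hYQ)
    rcases small hH hQ2 hHQ hQN hY with hc | ⟨⟨h4, h2⟩, -⟩ | ⟨⟨z, hq⟩, -⟩
    · -- `H = 1`, so `S` is a `2`-group
      have hHQ' : H ≤ Q := fun h hh =>
        hCQ (Subgroup.mem_centralizer_iff.2 fun q hq => hc q hq h hh)
      have hH1 : H = ⊥ := (Subgroup.eq_bot_iff_forall _).2 fun h hh => by
        obtain ⟨j, hj⟩ := (IsPGroup.iff_orderOf (p := 2)).1 hQ2 ⟨h, hHQ' hh⟩
        rw [Subgroup.orderOf_mk] at hj
        have := hH h hh
        rcases j with _ | j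
        · rw [pow_zero, orderOf_eq_one_iff] at hj; exact hj
        · rw [hj, pow_succ'] at this
          exact absurd this (by simp [parity_simps])
      rw [hH1, Subgroup.index_bot] at hk₀
      have htop : Q = ⊤ := Core.pCore_eq_top (IsPGroup.of_card hk₀)
      exact hAn (hQN A (htop ▸ le_top) hAc hA8)
    · exact le_of_four hQn hCQ h4 h2 hAc hA8
    · exact le_of_quaternion hQn hCQ hq hAc hAn hA8
  · -- `S = Q H`
    have htop : Q ⊔ H = ⊤ := by
      by_contra hne
      exact hQN ((hmin _ hne (hidx _ le_sup_right)).mono le_sup_left)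
    have hQH : Q ⊓ H = ⊥ := Coprime.inf_eq_bot_of_coprime (coprime_two hH hQ2)
    have hcard : Nat.card S = Nat.card Q * Nat.card H := by
      rw [← Coprime.card_sup hHQ hQH, htop, Subgroup.card_top]
    have hXQ : (X : Subgroup S) = Q := by
      have hle : Q ≤ X := Core.pCore_le_sylow X
      refine (Subgroup.eq_of_le_of_card_ge hle ?_).symm
      have hd := Subgroup.card_subgroup_dvd_card (X : Subgroup S)
      rw [hcard] at hd
      exact Nat.le_of_dvd Nat.card_pos ((coprime_two hH X.isPGroup').symm.dvd_of_dvd_mul_right hd)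
    refine ⟨hXQ ▸ hQn, ?_⟩
    have hX2 : IsPGroup 2 (X : Subgroup S) := X.isPGroup'
    set P : Subgroup S := (X : Subgroup S) with hPdef
    have hHP : H ≤ Subgroup.normalizer (P : Set S) := hXQ ▸ hHQ
    have hCP : Subgroup.centralizer (P : Set S) ≤ P := hXQ ▸ hCQ
    have hPbig : ¬ NoEight P := hXQ ▸ hQN
    by_cases hPc : ∀ a ∈ P, ∀ b ∈ P, a * b = b * a
    · exact Or.inl (commutative_of hPc)
    push Not at hPc
    have hsmall : ∀ W : Subgroup S, W ≤ P → W ≠ P → P ≤ Subgroup.normalizer (W : Set S) →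
        H ≤ Subgroup.normalizer (W : Set S) → NoEight W := by
      intro W hW hne _ hHW
      refine (hmin (W ⊔ H) (fun h => hne ?_) (hidx _ le_sup_right)).mono le_sup_left
      have hWH : W ⊓ H = ⊥ := Coprime.inf_eq_bot_of_coprime (coprime_two hH (hX2.to_le hW))
      have e := Coprime.card_sup hHW hWH
      rw [h, Subgroup.card_top, hcard, ← hXQ] at e
      exact Subgroup.eq_of_le_of_card_ge hW (Nat.le_of_eq (Nat.eq_of_mul_eq_mul_right Nat.card_pos e))
    set Y := ⁅P, H⁆
    have hYP : Y ≤ P := Coprime.commutator_le_of_le_normalizer hHP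
    have hPY : P ≤ Subgroup.normalizer (Y : Set S) := Subgroup.normalizer_commutator_ge_left P H
    have hHY : H ≤ Subgroup.normalizer (Y : Set S) := Subgroup.normalizer_commutator_ge_right P H
    by_cases hYeq : Y = P
    · obtain ⟨W, hWP, hcen, -, hsq, hcomm, hW2, hWcard, hsp, hZcard⟩ := core hH hX2 hHP hYeq hPc hsmall
        (fun V _ _ hV2 hHV hVH hVN => classify hH hV2 hHV hVH hVN)
      rcases hWcard with h2 | h4
      swap
      · exact Or.inr (Or.inr (Or.inr ⟨hsp, hZcard.trans h4⟩))
      refine Or.inr (Or.inl ⟨⟨hsp, hZcard.trans h2⟩, ?_⟩)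
      obtain ⟨n, hn⟩ := IsPGroup.iff_card.1 hX2
      rcases Nat.lt_or_ge n 5 with hlt | hge
      swap
      · calc 32 = 2 ^ 5 := by norm_num
          _ ≤ 2 ^ n := Nat.pow_le_pow_right (by norm_num) hge
          _ = _ := hn.symm
      exfalso
      -- a non-cyclic abelian `B` of order `8` in `P`
      obtain ⟨B, hBP, hBc, hB8, -⟩ : ∃ B : Subgroup S, B ≤ P ∧ IsMulCommutative B ∧ Nat.card B = 8 ∧
          ¬ IsCyclic B := by
        by_contra h
        push Not at h
        exact hPbig fun B hB hBc hB8 => h B hB hBc hB8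
      have hd : Nat.card B ∣ Nat.card P := Subgroup.card_dvd_of_le hBP
      have hBne : B ≠ P := fun h => by
        obtain ⟨a, ha, b, hb, hab⟩ := hPc
        exact hab (comm_of hBc (h ▸ ha) (h ▸ hb))
      have h16 : Nat.card P = 16 := by
        have hlt' : Nat.card B < Nat.card P := by
          by_contra hge
          exact hBne (Subgroup.eq_of_le_of_card_ge hBP (not_lt.1 hge))
        have hn' : Nat.card P = 2 ^ n := hn
        rw [hB8, hn'] at hlt'
        interval_cases n <;> simp_all
      obtain ⟨b, hb, hbB⟩ := SetLike.not_le_iff_exists.1 fun h => hBne (le_antisymm hBP h)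
      have hgen : B ⊔ Subgroup.zpowers b = P := by
        refine Subgroup.eq_of_le_of_card_ge (sup_le hBP (Subgroup.zpowers_le.2 hb)) ?_
        obtain ⟨j, hj⟩ := IsPGroup.iff_card.1 (hX2.to_le (sup_le hBP (Subgroup.zpowers_le.2 hb)))
        rw [h16, hj]
        have hlt' : 2 ^ 3 < 2 ^ j := by
          rw [← hj, show (2 : ℕ) ^ 3 = Nat.card B by rw [hB8]; norm_num]
          by_contra hge
          have he := Subgroup.eq_of_le_of_card_ge (le_sup_left : B ≤ B ⊔ Subgroup.zpowers b) (not_lt.1 hge)
          exact hbB (he.symm ▸ Subgroup.mem_sup_right (Subgroup.mem_zpowers b))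
        calc (16 : ℕ) = 2 ^ 4 := by norm_num
          _ ≤ 2 ^ j := Nat.pow_le_pow_right (by norm_num)
            ((Nat.pow_lt_pow_iff_right (by norm_num : 1 < 2)).1 hlt')
      let f : ↥B → ↥W := fun a => ⟨b * a * b⁻¹ * (a : S)⁻¹, hcomm b hb a (hBP a.2)⟩
      let φ : ↥B →* ↥W := MonoidHom.mk' f fun a a' => Subtype.ext (by
        show b * ((a : S) * a') * b⁻¹ * ((a : S) * a')⁻¹ =
          (b * a * b⁻¹ * (a : S)⁻¹) * (b * a' * b⁻¹ * (a' : S)⁻¹)
        rw [show b * ((a : S) * a') * b⁻¹ * ((a : S) * a')⁻¹ =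
          (b * a * b⁻¹ * (a : S)⁻¹) * ((a : S) * (b * a' * b⁻¹ * (a' : S)⁻¹) * (a : S)⁻¹) by group,
          hcen _ (hcomm b hb a' (hBP a'.2)) a (hBP a.2), mul_inv_cancel_right])
      have hr : Nat.card φ.range ≤ 2 := h2 ▸ Subgroup.card_le_card_group _
      have hker : φ.ker.map B.subtype ≤ P ⊓ Subgroup.centralizer (P : Set S) := by
        rintro _ ⟨a, ha, rfl⟩
        refine ⟨hBP a.2, ?_⟩
        have hba : b * (a : S) = a * b := mul_inv_eq_iff_eq_mul.1 (mul_inv_eq_one.1
          (congrArg Subtype.val (MonoidHom.mem_ker.1 ha)))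
        refine Subgroup.mem_centralizer_iff.2 fun p hp => ?_
        have hle : P ≤ Subgroup.centralizer ({(a : S)} : Set S) := by
          rw [← hgen]
          refine sup_le (fun x hx => Subgroup.mem_centralizer_singleton_iff.2 (comm_of hBc hx a.2))
            (Subgroup.zpowers_le.2 (Subgroup.mem_centralizer_singleton_iff.2 hba))
        exact Subgroup.mem_centralizer_singleton_iff.1 (hle hp)
      have hZ2 : Nat.card ↥(P ⊓ Subgroup.centralizer (P : Set S)) = 2 := by
        have e : (Subgroup.center ↥P).map P.subtype = P ⊓ Subgroup.centralizer (P : Set S) := by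
          ext x
          constructor
          · rintro ⟨q, hq, rfl⟩
            exact ⟨q.2, Subgroup.mem_centralizer_iff.2 fun p hp =>
              congrArg Subtype.val (Subgroup.mem_center_iff.1 hq ⟨p, hp⟩)⟩
          · intro hx
            exact ⟨⟨x, hx.1⟩, Subgroup.mem_center_iff.2 fun p =>
              Subtype.ext (Subgroup.mem_centralizer_iff.1 hx.2 p p.2), rfl⟩
        rw [← e, Subgroup.card_map_of_injective P.subtype_injective]
        exact hZcard.trans h2
      have hk := Subgroup.card_le_of_le hker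
      rw [Subgroup.card_map_of_injective B.subtype_injective, hZ2] at hk
      have hmul := Subgroup.card_mul_index φ.ker
      rw [Subgroup.index_ker, hB8] at hmul
      have := Nat.mul_le_mul hk hr
      omega
    · have hYN := hsmall Y hYP hYeq hPY hHY
      have hYH : ⁅Y, H⁆ = Y := commutator_idem hH hX2 hHP
      rcases classify hH (hX2.to_le hYP) hHY hYH hYN with h0 | ⟨h4, h2⟩ | ⟨z, hq⟩
      · -- `H` centralises `P`
        exfalso
        have hH1 : H = ⊥ := by
          refine le_bot_iff.1 (hQH ▸ le_inf ?_ le_rfl)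
          rw [← hXQ]
          exact fun h hh => hCP (Subgroup.mem_centralizer_iff.2 fun q hq =>
            comm_of_commutator_eq_bot h0 q hq h hh)
        obtain ⟨a, ha, b, hb, hab⟩ := hPc
        by_cases hAtop : A = ⊤
        · exact hab (comm_of hAc (hAtop ▸ Subgroup.mem_top a) (hAtop ▸ Subgroup.mem_top b))
        exact hAn (hmin A hAtop (hidx _ (hH1 ▸ bot_le)) A le_rfl hAc hA8)
      · exfalso
        have hne : ⁅Y, H⁆ ≠ ⊥ := by
          rw [hYH]; intro h; rw [h, Subgroup.card_bot] at h4; omega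
        have hYc := four_le_centralizer hH hX2 hYP hPY hHP h4 h2 hHY hne
        set C := P ⊓ Subgroup.centralizer (H : Set S)
        have hdec : P = Y ⊔ C :=
          Core.eq_commutator_sup_centralizer hHP (Or.inr (isSolvable_two hX2)) (coprime_two hH hX2)
        have hCne : C ≠ ⊥ := fun h => by
          obtain ⟨a, ha, b, hb, hab⟩ := hPc
          rw [h, sup_bot_eq] at hdec
          exact hYeq hdec.symm
        haveI : Nontrivial ↥C := (Subgroup.nontrivial_iff_ne_bot C).2 hCne
        have hC2 : IsPGroup 2 ↥C := hX2.to_le inf_le_left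
        haveI := hC2.center_nontrivial
        obtain ⟨c, hc⟩ := exists_prime_orderOf_dvd_card' (G := Subgroup.center ↥C) 2 (by
          obtain ⟨m, hm⟩ := IsPGroup.iff_card.1 (hC2.to_subgroup (Subgroup.center ↥C))
          have := Finite.one_lt_card (α := Subgroup.center ↥C)
          rcases m with _ | m
          · omega
          · rw [hm]; exact dvd_pow_self 2 (Nat.succ_ne_zero m))
        set t : S := ((c : ↥C) : S) with htdef
        have ht1 : t ≠ 1 := fun h => by
          have : c = 1 := Subtype.ext (Subtype.ext h)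
          rw [this, orderOf_one] at hc; omega
        have ht2 : t * t = 1 := by
          have := congrArg (fun x : Subgroup.center ↥C => ((x : ↥C) : S)) (pow_orderOf_eq_one c)
          simpa [hc, pow_two] using this
        have htC : t ∈ C := (c : ↥C).2
        have htfix : ∀ h ∈ H, h * t * h⁻¹ = t := fun h hh => by
          rw [Subgroup.mem_centralizer_iff.1 htC.2 h hh, mul_inv_cancel_right]
        have htY : t ∉ Y := fun h => ht1 (four_fixed_free hH h4 h2 hHY hne h htfix)
        have htP : P ≤ Subgroup.centralizer ({t} : Set S) := by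
          conv_lhs => rw [hdec]
          refine sup_le (fun y hy => ?_) (fun x hx => ?_)
          · exact Subgroup.mem_centralizer_singleton_iff.2 (comm_centralizer hYc hy htC.1)
          · exact Subgroup.mem_centralizer_singleton_iff.2
              (congrArg Subtype.val (Subgroup.mem_center_iff.1 c.2 ⟨x, hx⟩))
        obtain ⟨L, hYL, htL, hLc, hL8, hLm⟩ := exists_double Y (comm_of_card_four h2) (y := t)
          (fun a ha => (comm_centralizer hYc ha htC.1).symm) (by rw [ht2]; exact Y.one_mem) htY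
        have hLP : L ≤ P := double_le hLm hYP htC.1
        have hnorm : ∀ K : Subgroup S, (∀ g ∈ K, ∀ y, (y ∈ Y ↔ g * y * g⁻¹ ∈ Y)) →
            (∀ g ∈ K, g * t * g⁻¹ = t) → K ≤ Subgroup.normalizer (L : Set S) := by
          intro K h1 h2' g hg
          rw [Subgroup.mem_normalizer_iff]
          intro x
          have e : g * (t⁻¹ * x) * g⁻¹ = t⁻¹ * (g * x * g⁻¹) := by
            calc g * (t⁻¹ * x) * g⁻¹ = (g * t * g⁻¹)⁻¹ * (g * x * g⁻¹) := by group
              _ = _ := by rw [h2' g hg]
          rw [hLm, hLm, h1 g hg x, h1 g hg (t⁻¹ * x), e]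
        have hLne : L ≠ P := fun h => by
          obtain ⟨a, ha, b, hb, hab⟩ := hPc
          exact hab (hLc a (h ▸ ha) b (h ▸ hb))
        have hLN := hsmall L hLP hLne
          (hnorm P (fun g hg => Subgroup.mem_normalizer_iff.1 (hPY hg)) fun g hg => by
            rw [Subgroup.mem_centralizer_singleton_iff.1 (htP hg), mul_inv_cancel_right])
          (hnorm H (fun g hg => Subgroup.mem_normalizer_iff.1 (hHY hg)) htfix)
        exact not_isCyclic_of_four hYL h4 h2 (hLN L le_rfl (commutative_of hLc) (by rw [hL8, h4]))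
      · -- quaternion
        have hne : ⁅Y, H⁆ ≠ ⊥ := by
          rw [hYH]; intro h; have := hq.mem; rw [h, Subgroup.mem_bot] at this; exact hq.ne this
        have hdec := hq.inner_le hH hX2 hYP hPY hHP hHY hne
        set C := P ⊓ Subgroup.centralizer (Y : Set S) with hCdef
        have hcy : ∀ c ∈ C, ∀ y ∈ Y, c * y = y * c := fun c hc y hy =>
          (Subgroup.mem_centralizer_iff.1 hc.2 y hy).symm
        have hzfix : ∀ g ∈ Subgroup.normalizer (Y : Set S), g * z * g⁻¹ = z := by
          intro g hg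
          by_contra hne'
          have h1 : g * z * g⁻¹ ≠ 1 := fun e => hq.ne (conj_eq_one_iff.1 e)
          have e := hq.sq_eq _ ((Subgroup.mem_normalizer_iff.1 hg z).1 hq.mem) h1 hne'
          rw [show g * z * g⁻¹ * (g * z * g⁻¹) = g * (z * z) * g⁻¹ by group, hq.sq, mul_one,
            mul_inv_cancel] at e
          exact hq.ne e.symm
        obtain ⟨a, ha, b, hb, hab⟩ := hq.noncomm
        have hCY : ∀ w ∈ C, w ∈ Y → w = 1 ∨ w = z := by
          intro w hw hwY
          have ha1 : a ≠ 1 := fun h => hab (by simp [h])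
          have ha2 : a ≠ z := fun h => hab (by rw [h, hq.central b hb])
          have e2 := hcy w hw b hb
          rcases hq.comm_cases ha hwY ha1 ha2 (hcy w hw a ha).symm with e | e | e | e
          · exact Or.inl e
          · exact Or.inr e
          · rw [e] at e2; exact absurd e2 hab
          · rw [e] at e2
            refine absurd ?_ hab
            have e' : a * b * z = b * a * z := by
              rw [mul_assoc a b z, hq.central b hb, ← mul_assoc, e2, ← mul_assoc]
            exact mul_right_cancel e'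
        have hCfix : ∀ h ∈ H, ∀ c ∈ C, h * c = c * h := by
          intro h hh c hc
          refine centralizes_of_sq hH (fun k hk => ?_) h hh
          have hkc : k * c * k⁻¹ ∈ C := by
            refine ⟨(Subgroup.mem_normalizer_iff.1 (hHP hk) c).1 hc.1,
              Subgroup.mem_centralizer_iff.2 fun y hy => ?_⟩
            have e := hcy c hc (k⁻¹ * y * k) (by
              have := (Subgroup.mem_normalizer_iff.1 (hHY (H.inv_mem hk)) y).1 hy
              rwa [inv_inv] at this)
            calc y * (k * c * k⁻¹) = k * (k⁻¹ * y * k * c) * k⁻¹ := by group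
              _ = k * (c * (k⁻¹ * y * k)) * k⁻¹ := by rw [e]
              _ = k * c * k⁻¹ * y := by group
          have hmem : k * c * k⁻¹ * c⁻¹ ∈ Y := by
            have hm : ⁅c, k⁆ ∈ Y := Subgroup.commutator_mem_commutator hc.1 hk
            have := Y.inv_mem hm
            rwa [commutatorElement_inv, commutatorElement_def] at this
          rcases hCY _ (C.mul_mem hkc (C.inv_mem hc)) hmem with e | e <;> rw [e]
          · exact ⟨one_mul 1, fun g _ => by simp⟩
          · exact ⟨hq.sq, fun g hg => hzfix g (hHY hg)⟩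
        have hCle : ¬ C ≤ Subgroup.zpowers z := by
          intro h
          refine hYeq (le_antisymm hYP ?_)
          conv_lhs => rw [hdec]
          exact sup_le le_rfl (h.trans (Subgroup.zpowers_le.2 hq.mem))
        obtain ⟨d, hd, hdz, hd2, hdcomm⟩ := exists_sq_mem (hX2.to_le inf_le_left) hCle (fun g hg k hk _ => by
          rcases (zpowers_of_sq hq.sq k).1 hk with e | e
          · simp [e]
          · rw [e, hcy g hg z hq.mem, mul_inv_cancel_right]; exact Subgroup.mem_zpowers z)
        have hdY : d ∉ Y := fun h =>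
          hdz ((zpowers_of_sq hq.sq d).2 (hCY d hd h))
        have hd2' : d * d = 1 ∨ d * d = z := (zpowers_of_sq hq.sq _).1 hd2
        obtain ⟨L, hYL, hdL, hL, hLm⟩ := exists_double_central Y (y := d) (fun y hy => hcy d hd y hy)
          (by rcases hd2' with e | e <;> rw [e]; exacts [Y.one_mem, hq.mem]) hdY
        have hLP : L ≤ P := double_le hLm hYP hd.1
        have hnorm : ∀ g, g ∈ Subgroup.normalizer (Y : Set S) → g * d * g⁻¹ * d⁻¹ ∈ Y →
            g ∈ Subgroup.normalizer (L : Set S) := by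
          intro g hg hgd
          rw [Subgroup.mem_normalizer_iff]
          intro x
          have e : g * (d⁻¹ * x) * g⁻¹ = (g * d * g⁻¹ * d⁻¹ * d)⁻¹ * (g * x * g⁻¹) := by group
          rw [hLm, hLm]
          refine or_congr (Subgroup.mem_normalizer_iff.1 hg x) ?_
          rw [Subgroup.mem_normalizer_iff.1 hg (d⁻¹ * x), e]
          set w := g * d * g⁻¹ * d⁻¹
          have e2 : (w * d)⁻¹ * (g * x * g⁻¹) = w⁻¹ * (d⁻¹ * (g * x * g⁻¹)) := by
            rw [show (w * d)⁻¹ = d⁻¹ * w⁻¹ from mul_inv_rev w d,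
              (Commute.inv_inv (show Commute d w from hcy d hd w hgd)).eq, mul_assoc]
          rw [e2]
          exact Y.mul_mem_cancel_left (Y.inv_mem hgd)
        have hPL : P ≤ Subgroup.normalizer (L : Set S) := by
          conv_lhs => rw [hdec]
          refine sup_le (fun y hy => hnorm y (Subgroup.le_normalizer hy) ?_) (fun g hg => hnorm g (hPY hg.1) ?_)
          · rw [← hcy d hd y hy, mul_inv_cancel_right, mul_inv_cancel]; exact Y.one_mem
          · exact Subgroup.zpowers_le.2 hq.mem (hdcomm g hg)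
        have hHL : H ≤ Subgroup.normalizer (L : Set S) := fun h hh => hnorm h (hHY hh) (by
          rw [hCfix h hh d hd, mul_inv_cancel_right, mul_inv_cancel]; exact Y.one_mem)
        have hLeq : L = P := by
          by_contra hne'
          have ha1 : a ≠ 1 := fun h => hab (by simp [h])
          have ha2 : a ≠ z := fun h => hab (by rw [h, hq.central b hb])
          refine not_noEight_of_pair hq.sq hq.ne (hYL hq.mem) (hYL ha) hdL (hq.central a ha)
            (hcy d hd z hq.mem) (hcy d hd a ha).symm (hq.four_cases ha) hd2' ha1 ha2 ?_ ?_ ?_ ?_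
            (hsmall L hLP hne' hPL hHL)
          · intro h; exact hdY (h ▸ Y.one_mem)
          · intro h; exact hdY (h ▸ hq.mem)
          · intro h; exact hdY (h ▸ ha)
          · intro h; exact hdY (h ▸ Y.mul_mem ha hq.mem)
        refine Or.inr (Or.inr (Or.inl ⟨Y, 0, hYP, ?_, ?_, hdec.symm⟩))
        · rw [hLeq] at hL
          have hmul := Subgroup.card_mul_index (Y.subgroupOf P)
          rw [Nat.card_congr (Subgroup.subgroupOfEquivOfLe hYP).toEquiv, hL, mul_comm 2] at hmul
          exact Nat.eq_of_mul_eq_mul_left Nat.card_pos hmul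
        · show Nonempty (↥Y ≃* QuaternionGroup 2)
          have hb1 : b ≠ 1 := fun h => hab (by simp [h])
          have hb2 : b ≠ z := fun h => hab (by rw [h, hq.central a ha])
          have ha1 : a ≠ 1 := fun h => hab (by simp [h])
          have ha2 : a ≠ z := fun h => hab (by rw [h, hq.central b hb])
          refine Fusion.EssFour.quaternion_of hq.card (x := ⟨a, ha⟩) (y := ⟨b, hb⟩) (z := ⟨z, hq.mem⟩)
            (Subtype.ext hq.sq) (Subtype.ext (hq.sq_eq a ha ha1 ha2)) (Subtype.ext (hq.sq_eq b hb hb1 hb2))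
            (Subtype.ext ?_) (fun h => hq.ne (congrArg Subtype.val h))
          show b⁻¹ * a * b = a * z
          have := hq.conj_eq (a := b⁻¹) (b := a) (Y.inv_mem hb) ha (fun h => hab (by
            calc a * b = b * (b⁻¹ * a) * b := by group
              _ = b * (a * b⁻¹) * b := by rw [h]
              _ = b * a := by group))
          rwa [inv_inv] at this

end Cfsg.Agent.Components.Eight
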