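/-
An isolated element of order `p` in a group of `p`-rank at most two, `p` odd.
-/
import Cfsg.Agent.S0071
import Cfsg.Agent.S0120
import Cfsg.Agent.PLocal.ElemAb
import Cfsg.Agent.Components.FStar
import Cfsg.Agent.Components.PComponent
import Cfsg.Agent.Components.ExtendedLayer
import Cfsg.Agent.Components.Structure
import Cfsg.Agent.Transfer.Fusion
import Cfsg.Agent.Components.Standard
import Cfsg.Agent.Components.LocalCore
import Cfsg.Agent.Components.LBalance
import Cfsg.Prelude.Def_IsolatedElements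

set_option autoImplicit false
set_option linter.style.haveILetI false

open Subgroup
open scoped commutatorElement

namespace Cfsg.Agent.Components.IsolatedRankTwo

/-- A nontrivial normal subgroup of a `p`-group meets the centre. -/
theorem normal_inf_center_ne_bot {G : Type*} [Group G] [Finite G] {p : ℕ} [hp : Fact p.Prime] (hG : IsPGroup p G)
    {N : Subgroup G} [hN : N.Normal] (hne : N ≠ ⊥) : N ⊓ Subgroup.center G ≠ ⊥ := by
  intro h
  haveI : Nontrivial ↥N := (Subgroup.nontrivial_iff_ne_bot N).mpr hne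
  letI : MulAction G ↥N := MulAction.compHom ↥N (MulAut.conjNormal : G →* MulAut ↥N)
  obtain ⟨k, hk⟩ := (hG.to_subgroup N).exists_card_eq
  have hd : p ∣ Nat.card ↥N := by
    rw [hk]
    refine dvd_pow_self p fun h0 => ?_
    rw [h0, pow_zero] at hk
    exact absurd hk (Finite.one_lt_card.ne')
  have h1 : (1 : ↥N) ∈ MulAction.fixedPoints G ↥N := fun g => map_one (MulAut.conjNormal g)
  obtain ⟨b, hb, hb1⟩ := hG.exists_fixed_point_of_prime_dvd_card_of_fixed_point ↥N hd h1
  apply hb1
  have : (b : G) ∈ N ⊓ Subgroup.center G := ⟨b.2, Subgroup.mem_center_iff.mpr fun g => by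
    have e : g * (b : G) * g⁻¹ = b := congrArg Subtype.val (hb g)
    exact mul_inv_eq_iff_eq_mul.mp e⟩
  rw [h, Subgroup.mem_bot] at this
  exact (Subtype.ext this).symm

variable {J : Type*} [Group J] [Finite J] {p : ℕ} [hp : Fact p.Prime]

/-- A perfect group in which no element of order `p` of a Sylow subgroup is fused has order prime to `p`. -/
theorem sylow_eq_bot_of_fixed (hp2 : p ≠ 2) (hperf : commutator J = ⊤) (S : Sylow p J)
    (h : ∀ v ∈ (S : Subgroup J), v ^ p = 1 → ∀ g : J, g * v * g⁻¹ ∈ (S : Subgroup J) → g * v * g⁻¹ = v) :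
    (S : Subgroup J) = ⊥ := by
  obtain ⟨N, hN, hc⟩ := (S0071.result S).mpr fun Q hQ g hg hco => by
    let a : MulAut ↥Q := Q.normalizerMonoidHom ⟨g, hg⟩
    have ha : Nat.Coprime (orderOf a) p := by
      refine hco.coprime_dvd_left ?_
      have h1 := orderOf_map_dvd Q.normalizerMonoidHom (⟨g, hg⟩ : ↥(normalizer (Q : Set J)))
      rwa [← Subgroup.orderOf_coe (⟨g, hg⟩ : ↥(normalizer (Q : Set J)))] at h1
    have h1 : a = 1 := S0120.result hp2 (S.isPGroup'.to_le hQ) a ha fun v hv => Subtype.ext (by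
      show g * (v : J) * g⁻¹ = v
      exact h v (hQ v.2) (congrArg Subtype.val hv) g (hQ ((mem_normalizer_iff.mp hg v).mp v.2)))
    rw [mem_centralizer_iff]
    intro q hq
    have h2 : g * q * g⁻¹ = q := congrArg Subtype.val (DFunLike.congr_fun h1 (⟨q, hq⟩ : ↥Q))
    calc q * g = g * q * g⁻¹ * g := by rw [h2]
      _ = g * q := by group
  haveI := hN
  have hq : IsPGroup p (J ⧸ N) := IsPGroup.iff_card.mpr (by
    obtain ⟨k, hk⟩ := S.isPGroup'.exists_card_eq
    exact ⟨k, (Subgroup.index_eq_card N).symm.trans (hc.symm.index_eq_card.trans hk)⟩)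
  haveI := hq.isNilpotent
  have hbot : (⊤ : Subgroup (J ⧸ N)) = ⊥ := by
    refine perfect_eq_bot_of_le_solvable (S := ⊤) ?_ le_rfl ?_
    · rw [← Subgroup.map_top_of_surjective _ (QuotientGroup.mk'_surjective N), ← Subgroup.map_commutator,
        ← _root_.commutator_def, hperf]
    · haveI : Group.IsSolvable (J ⧸ N) := IsNilpotent.to_isSolvable
      exact Group.isSolvable_of_surjective (f := (Subgroup.topEquiv (G := J ⧸ N)).symm.toMonoidHom)
        (Subgroup.topEquiv (G := J ⧸ N)).symm.surjective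
  have hNtop : N = ⊤ := top_le_iff.mp fun v _ =>
    (QuotientGroup.eq_one_iff v).mp (Subgroup.mem_bot.mp (hbot ▸ Subgroup.mem_top _))
  rw [hNtop] at hc
  exact Subgroup.isComplement'_top_left.mp hc

variable {G : Type*} [Group G] [Finite G]

/-- The main step: an element `x` acting nontrivially on a component makes its centralizer a `p'`-group. -/
theorem centralizer_prime (hp2 : p ≠ 2) (hrank : Cfsg.PRankLE p 2 G) {x : G} (hx : orderOf x = p)
    (hiso : Cfsg.IsIsolated x) {J : Subgroup G} (hJ : Cfsg.IsComponent J) (hJp : p ∣ Nat.card ↥J)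
    (hxN : x ∈ normalizer (J : Set G)) (hxC : x ∉ centralizer (J : Set G)) :
    ¬ p ∣ Nat.card ↥(centralizer (J : Set G)) := by
  intro hdvd
  set H := normalizer (J : Set G) with hH
  have hzp : IsPGroup p ↥(zpowers x) := IsPGroup.of_card (n := 1) (by rw [Nat.card_zpowers, hx, pow_one])
  obtain ⟨P, hP⟩ := (hzp.comap_subtype (K := H)).exists_le_sylow
  set Ps := (P : Subgroup ↥H).map H.subtype with hPs
  have hPp : IsPGroup p ↥Ps := P.isPGroup'.map _
  have hxP : x ∈ Ps := ⟨⟨x, hxN⟩, hP (mem_zpowers x), rfl⟩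
  -- `x` is central in `Ps`
  have hxcen : ∀ v ∈ Ps, Commute v x := by
    by_contra hne
    simp only [not_forall] at hne
    obtain ⟨v, hv, hvx⟩ := hne
    set C := Ps ⊓ centralizer ({x} : Set G) with hC
    have hlt : C < Ps := lt_of_le_of_ne inf_le_left fun e =>
      hvx (mem_centralizer_singleton_iff.mp (e.ge hv).2)
    obtain ⟨u, hu, huC⟩ := SetLike.exists_of_lt (Transfer.lt_inf_normalizer hPp hlt)
    have hxC' : x ∈ C := ⟨hxP, mem_centralizer_singleton_iff.mpr rfl⟩
    have h1 := (mem_normalizer_iff.mp hu.2 x).mp hxC'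
    have h2 : u * x * u⁻¹ = x := hiso u (show Commute (u * x * u⁻¹) x from mem_centralizer_singleton_iff.mp h1.2).symm
    exact huC ⟨hu.1, mem_centralizer_singleton_iff.mpr (mul_inv_eq_iff_eq_mul.mp h2)⟩
  -- an element of order `p` centralizing `J`, central in `Ps`
  have hCH : centralizer (J : Set G) ≤ H := centralizer_le_normalizer _
  haveI hCn : ((centralizer (J : Set G)).subgroupOf H).Normal :=
    ⟨fun c hc g => (mem_normalizer_iff.mp (mem_normalizer_centralizer g.2) _).mp hc⟩
  set Z0 := ((centralizer (J : Set G)).subgroupOf H).subgroupOf (P : Subgroup ↥H) with hZ0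
  haveI : Z0.Normal := hCn.comap _
  have hZ0ne : Z0 ≠ ⊥ := by
    intro h
    have h1 := not_dvd_relIndex_of_isSubnormal P hCn.isSubnormal
    refine h1 ?_
    have h2 : (P : Subgroup ↥H) ⊓ (centralizer (J : Set G)).subgroupOf H = ⊥ := by
      rw [Subgroup.eq_bot_iff_forall]
      intro v hv
      have h3 : (⟨v, hv.1⟩ : ↥(P : Subgroup ↥H)) ∈ Z0 := hv.2
      rw [h, Subgroup.mem_bot] at h3
      exact congrArg Subtype.val h3
    rw [← Subgroup.inf_relIndex_right, h2, Subgroup.relIndex_bot_left, Core.card_subgroupOf hCH]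
    exact hdvd
  obtain ⟨z₀, hz₀, hz₀p⟩ : ∃ z : ↥(P : Subgroup ↥H), z ∈ Z0 ⊓ center _ ∧ orderOf z = p := by
    have hne := normal_inf_center_ne_bot (N := Z0) P.isPGroup' hZ0ne
    haveI : Nontrivial ↥(Z0 ⊓ center ↥(P : Subgroup ↥H)) := (Subgroup.nontrivial_iff_ne_bot _).mpr hne
    obtain ⟨k, hk⟩ := (P.isPGroup'.to_subgroup (Z0 ⊓ center _)).exists_card_eq
    have hd : p ∣ Nat.card ↥(Z0 ⊓ center ↥(P : Subgroup ↥H)) := by
      rw [hk]
      refine dvd_pow_self p fun h => ?_
      rw [h, pow_zero] at hk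
      exact absurd hk (Finite.one_lt_card.ne')
    obtain ⟨f, hf⟩ := exists_prime_orderOf_dvd_card' p hd
    exact ⟨f, f.2, by rw [Subgroup.orderOf_coe, hf]⟩
  set z : G := ((z₀ : ↥H) : G) with hz
  have hzJ : z ∈ centralizer (J : Set G) := hz₀.1
  have hzo : orderOf z = p := by rw [hz, Subgroup.orderOf_coe, Subgroup.orderOf_coe, hz₀p]
  have hzc : ∀ v ∈ Ps, Commute v z := by
    rintro _ ⟨w, hw, rfl⟩
    exact congrArg (fun t : ↥(P : Subgroup ↥H) => ((t : ↥H) : G)) (Subgroup.mem_center_iff.mp hz₀.2 ⟨w, hw⟩)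
  -- the elements of order `p` of `Ps` lie in `⟨x, z⟩`
  have hzx : z ∉ zpowers x := by
    rintro ⟨i, hi⟩
    apply hxC
    have hzx' : zpowers z = zpowers x := Subgroup.eq_of_le_of_card_ge (zpowers_le.mpr ⟨i, hi⟩)
      (by rw [Nat.card_zpowers, Nat.card_zpowers, hx, hzo])
    exact zpowers_le.mpr hzJ (hzx'.ge (mem_zpowers x))
  set A := zpowers x ⊔ zpowers z with hA
  have hAc : Nat.card ↥A = p ^ 2 := by
    refine le_antisymm ?_ ?_
    · have hEA : Cfsg.IsElementaryAbelian p A := by
        refine PLocal.isEA_sup (PLocal.isEA_zpowers (by rw [← hx, pow_orderOf_eq_one]))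
          (PLocal.isEA_zpowers (by rw [← hzo, pow_orderOf_eq_one])) ?_
        rintro _ ⟨i, rfl⟩ _ ⟨j, rfl⟩
        exact ((hzc x hxP).zpow_zpow i j).eq.symm
      exact hrank A hEA.1 hEA.2
    · have h1 : zpowers x < A := lt_of_le_of_ne le_sup_left fun e => hzx (e.ge (mem_sup_right (mem_zpowers z)))
      obtain ⟨k, hk⟩ := (hzp.to_sup_of_normal_left' (IsPGroup.of_card (n := 1) (by rw [Nat.card_zpowers, hzo, pow_one]) :
        IsPGroup p ↥(zpowers z)) (zpowers_le.mpr (centralizer_le_normalizer _ (mem_centralizer_iff.mpr (by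
          rintro _ ⟨i, rfl⟩
          exact ((hzc x hxP).zpow_left i).eq))))).exists_card_eq
      rw [show Nat.card ↥A = p ^ k from hk]
      refine Nat.pow_le_pow_right hp.out.pos ?_
      by_contra hk2
      have h2 : Nat.card ↥A ≤ Nat.card ↥(zpowers x) := by
        rw [show Nat.card ↥A = p ^ k from hk, Nat.card_zpowers, hx]
        calc p ^ k ≤ p ^ 1 := Nat.pow_le_pow_right hp.out.pos (by omega)
          _ = p := pow_one p
      exact h1.ne (Subgroup.eq_of_le_of_card_ge h1.le h2)
  have hin : ∀ v ∈ Ps, v ^ p = 1 → ∃ i j : ℤ, v = x ^ i * z ^ j := by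
    intro v hv hvp
    set E := A ⊔ zpowers v with hE
    have hEA : Cfsg.IsElementaryAbelian p E := by
      refine PLocal.isEA_sup (PLocal.isEA_sup (PLocal.isEA_zpowers (by rw [← hx, pow_orderOf_eq_one]))
        (PLocal.isEA_zpowers (by rw [← hzo, pow_orderOf_eq_one])) ?_) (PLocal.isEA_zpowers hvp) ?_
      · rintro _ ⟨i, rfl⟩ _ ⟨j, rfl⟩
        exact ((hzc x hxP).zpow_zpow i j).eq.symm
      · intro a ha b hb
        obtain ⟨j, rfl⟩ := hb
        have hle : A ≤ centralizer ({v} : Set G) := sup_le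
          (zpowers_le.mpr (mem_centralizer_singleton_iff.mpr (hxcen v hv).eq.symm))
          (zpowers_le.mpr (mem_centralizer_singleton_iff.mpr (hzc v hv).eq.symm))
        exact ((show Commute a v from mem_centralizer_singleton_iff.mp (hle ha)).zpow_right j).eq.symm
    have hvA : v ∈ A := by
      rw [Subgroup.eq_of_le_of_card_ge (le_sup_left : A ≤ E) (hAc ▸ hrank E hEA.1 hEA.2)]
      exact mem_sup_right (mem_zpowers v)
    rw [hA, ← SetLike.mem_coe, Subgroup.coe_mul_of_left_le_normalizer_right (zpowers x) (zpowers z)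
      (zpowers_le.mpr (centralizer_le_normalizer _ (mem_centralizer_iff.mpr (by
        rintro _ ⟨i, rfl⟩
        exact ((hzc x hxP).symm.zpow_left i).eq))))] at hvA
    obtain ⟨_, ⟨i, rfl⟩, _, ⟨j, rfl⟩, e⟩ := hvA
    exact ⟨i, j, e.symm⟩
  -- no fusion in `J`
  have hJH : J ≤ H := Subgroup.le_normalizer
  haveI hJn : (J.subgroupOf H).Normal := Subgroup.normal_in_normalizer
  have hn := not_dvd_relIndex_of_isSubnormal P hJn.isSubnormal
  set J' := J.subgroupOf H with hJ'
  have hAp : IsPGroup p ↥((P : Subgroup ↥H).subgroupOf J') := P.isPGroup'.comap_subtype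
  have hperf : commutator ↥J' = ⊤ :=
    quasisimple_commutator_top (isQuasisimple_of_equiv (Subgroup.subgroupOfEquivOfLe hJH).symm hJ.2)
  have hbot := sylow_eq_bot_of_fixed hp2 hperf (hAp.toSylow hn) fun v hv hvp g hg => by
    set v' : G := ((v : ↥H) : G)
    set g' : G := ((g : ↥H) : G)
    have hvP : v' ∈ Ps := ⟨(v : ↥H), hv, rfl⟩
    have hgP : g' * v' * g'⁻¹ ∈ Ps := ⟨((g * v * g⁻¹ : ↥J') : ↥H), hg, rfl⟩
    have hvp' : v' ^ p = 1 := congrArg (fun t : ↥J' => ((t : ↥H) : G)) hvp
    obtain ⟨i, j, hv'⟩ := hin v' hvP hvp'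
    obtain ⟨k, l, hw⟩ := hin _ hgP (by rw [conj_pow, hvp', mul_one, mul_inv_cancel])
    have hgz : Commute g' z := mem_centralizer_iff.mp hzJ g' g.2
    have hgzj : g' * z ^ j * g'⁻¹ = z ^ j := by rw [(hgz.zpow_right j).eq, mul_inv_cancel_right]
    apply Subtype.ext; apply Subtype.ext
    show g' * v' * g'⁻¹ = v'
    by_cases hpi : (p : ℤ) ∣ i
    · obtain ⟨m, rfl⟩ := hpi
      have hxi : x ^ ((p : ℤ) * m) = 1 := by rw [zpow_mul, zpow_natCast, ← hx, pow_orderOf_eq_one, one_zpow]
      rw [hv', hxi, one_mul, hgzj]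
    · set x' := g' * x * g'⁻¹ with hx'
      have h1 : x' ^ i = x ^ k * z ^ l * (z ^ j)⁻¹ := by
        rw [← hw, hv', hx', conj_zpow]
        calc g' * x ^ i * g'⁻¹ = g' * (x ^ i * z ^ j) * g'⁻¹ * (g' * z ^ j * g'⁻¹)⁻¹ := by group
          _ = _ := by rw [hgzj]
      have hxz : Commute x z := hzc x hxP
      have h2 : Commute (x' ^ i) x := by
        rw [h1]
        exact (((Commute.refl x).zpow_left k).mul_left (hxz.symm.zpow_left l)).mul_left (hxz.symm.zpow_left j).inv_left
      obtain ⟨a, b, hab⟩ : IsCoprime i (p : ℤ) :=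
        ((Nat.prime_iff_prime_int.mp hp.out).coprime_iff_not_dvd.mpr hpi).symm
      have h3 : x' = (x' ^ i) ^ a * (x' ^ (p : ℤ)) ^ b := by
        rw [← zpow_mul, ← zpow_mul, ← zpow_add, mul_comm i a, mul_comm (p : ℤ) b, hab, zpow_one]
      have hx'p : x' ^ (p : ℤ) = 1 := by
        rw [zpow_natCast, hx', conj_pow, ← hx, pow_orderOf_eq_one, mul_one, mul_inv_cancel]
      rw [hx'p, one_zpow, mul_one] at h3
      have h5 : Commute x' x := (congrArg (fun t => Commute t x) h3).mpr (h2.zpow_left a)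
      have h4 : x' = x := hiso g' h5.symm
      rw [hv']
      calc g' * (x ^ i * z ^ j) * g'⁻¹ = x' ^ i * (g' * z ^ j * g'⁻¹) := by rw [hx', conj_zpow]; group
        _ = x ^ i * z ^ j := by rw [h4, hgzj]
  have hbot' : (P : Subgroup ↥H).subgroupOf J' = ⊥ := hbot
  apply hn
  rw [Subgroup.relIndex, hbot', Subgroup.index_bot, hJ', Core.card_subgroupOf hJH]
  exact hJp

/-- The generalized Fitting subgroup is simple. -/
theorem simple_fstar (hp2 : p ≠ 2) (hcore : Cfsg.pPrimeCore p G = ⊥) (hrank : Cfsg.PRankLE p 2 G) {x : G}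
    (hx : orderOf x = p) (hiso : Cfsg.IsIsolated x) (hnc : x ∉ Subgroup.center G) :
    IsSimpleGroup ↥(Cfsg.generalizedFittingSubgroup G) ∧
      ¬ IsMulCommutative ↥(Cfsg.generalizedFittingSubgroup G) := by
  have hdiv : ∀ J : Subgroup G, Cfsg.IsComponent J → p ∣ Nat.card ↥J := fun J hJ => by
    by_contra h
    exact component_ne_bot hJ (le_bot_iff.mp (hcore ▸ Core.le_pPrimeCore_of_isSubnormal hJ.1
      (Nat.coprime_comm.mp (hp.out.coprime_iff_not_dvd.mpr h))))
  have hF : Cfsg.fittingSubgroup G = Cfsg.pCore p G := Core.fittingSubgroup_eq_pCore (p := p) hcore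
  have hxp : IsPGroup p ↥(zpowers x) := IsPGroup.of_card (n := 1) (by rw [Nat.card_zpowers, hx, pow_one])
  have hnorm : ∀ J : Subgroup G, Cfsg.IsComponent J → x ∈ normalizer (J : Set G) := by
    intro J hJ
    by_contra hxJ
    obtain ⟨P, hP⟩ := hxp.exists_le_sylow
    have hn := not_dvd_relIndex_of_isSubnormal P hJ.1
    refine not_dvd_of_perfect_central_sylow (quasisimple_commutator_top hJ.2)
      ((P.isPGroup'.comap_subtype (K := J)).toSylow hn) (fun v hv => ?_) (hdiv J hJ)
    have hxv : Commute (v : G) x := by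
      by_contra hne
      set C := (P : Subgroup G) ⊓ centralizer ({x} : Set G) with hC
      have hlt : C < (P : Subgroup G) := lt_of_le_of_ne inf_le_left fun e =>
        hne (mem_centralizer_singleton_iff.mp (e.ge hv).2)
      obtain ⟨u, hu, huC⟩ := SetLike.exists_of_lt (Transfer.lt_inf_normalizer P.isPGroup' hlt)
      have h1 := (mem_normalizer_iff.mp hu.2 x).mp ⟨hP (mem_zpowers x), mem_centralizer_singleton_iff.mpr rfl⟩
      have h2 : u * x * u⁻¹ = x := hiso u (show Commute (u * x * u⁻¹) x from mem_centralizer_singleton_iff.mp h1.2).symm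
      exact huC ⟨hu.1, mem_centralizer_singleton_iff.mpr (mul_inv_eq_iff_eq_mul.mp h2)⟩
    have hne : J.map (MulAut.conj x).toMonoidHom ≠ J := fun e => hxJ (LocalCore.cj_eq_iff.mp e)
    have h3 : (v : G) ∈ J.map (MulAut.conj x).toMonoidHom := ⟨v, v.2, by
      show x * (v : G) * x⁻¹ = v
      rw [← hxv.eq, mul_inv_cancel_right]⟩
    exact Subgroup.mem_center_iff.mpr fun w =>
      Subtype.ext (mem_centralizer_iff.mp (components_commute_le (isComponent_conj hJ x) hJ hne h3) w w.2)
  -- a component not centralized by `x`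
  obtain ⟨J, hJ, hxC⟩ : ∃ J : Subgroup G, Cfsg.IsComponent J ∧ x ∉ centralizer (J : Set G) := by
    by_contra h
    simp only [not_exists, not_and, not_not] at h
    have hxE : x ∈ centralizer (Cfsg.layer G : Set G) := by
      have hle : Cfsg.layer G ≤ centralizer ({x} : Set G) := layer_le_iff.mpr fun J hJ v hv =>
        mem_centralizer_singleton_iff.mpr (mem_centralizer_iff.mp (h J hJ) v hv)
      exact mem_centralizer_iff.mpr fun v hv => mem_centralizer_singleton_iff.mp (hle hv)
    haveI : (Cfsg.pCore p G).Normal := inferInstance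
    have hxV : x ∈ centralizer (Cfsg.pCore p G : Set G) := by
      obtain ⟨P, hP⟩ := hxp.exists_le_sylow
      refine mem_centralizer_iff.mpr fun v hv => ?_
      by_contra hne
      have hvP : v ∈ (P : Subgroup G) := (Core.isPGroup_pCore p G).le_sylow_of_normal P hv
      set C := (P : Subgroup G) ⊓ centralizer ({x} : Set G) with hC
      have hlt : C < (P : Subgroup G) := lt_of_le_of_ne inf_le_left fun e =>
        hne (mem_centralizer_singleton_iff.mp (e.ge hvP).2)
      obtain ⟨u, hu, huC⟩ := SetLike.exists_of_lt (Transfer.lt_inf_normalizer P.isPGroup' hlt)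
      have h1 := (mem_normalizer_iff.mp hu.2 x).mp ⟨hP (mem_zpowers x), mem_centralizer_singleton_iff.mpr rfl⟩
      have h2 : u * x * u⁻¹ = x := hiso u (show Commute (u * x * u⁻¹) x from mem_centralizer_singleton_iff.mp h1.2).symm
      exact huC ⟨hu.1, mem_centralizer_singleton_iff.mpr (mul_inv_eq_iff_eq_mul.mp h2)⟩
    have hxF : x ∈ centralizer (Cfsg.generalizedFittingSubgroup G : Set G) := by
      have hle : Cfsg.generalizedFittingSubgroup G ≤ centralizer ({x} : Set G) := sup_le
        (fun v hv => mem_centralizer_singleton_iff.mpr (mem_centralizer_iff.mp hxE v hv))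
        (fun v hv => mem_centralizer_singleton_iff.mpr (mem_centralizer_iff.mp hxV v (hF ▸ hv)))
      exact mem_centralizer_iff.mpr fun v hv => mem_centralizer_singleton_iff.mp (hle hv)
    set V := centralizer (Cfsg.generalizedFittingSubgroup G : Set G) with hV
    have hVab : ∀ a ∈ V, ∀ b ∈ V, b * a = a * b := fun a ha b hb =>
      mem_centralizer_iff.mp ha b (centralizer_generalizedFitting_le hb)
    haveI : V.Normal := Subgroup.normal_centralizer
    refine hnc (Subgroup.mem_center_iff.mpr fun g => ?_)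
    exact mul_inv_eq_iff_eq_mul.mp (hiso g (hVab _ ((inferInstance : V.Normal).conj_mem x hxF g) x hxF))
  have hC := centralizer_prime hp2 hrank hx hiso hJ (hdiv J hJ) (hnorm J hJ) hxC
  have huniq : ∀ K : Subgroup G, Cfsg.IsComponent K → K = J := fun K hK => by
    by_contra hne
    exact hC ((hdiv K hK).trans (Subgroup.card_dvd_of_le (components_commute_le hK hJ hne)))
  have hFbot : Cfsg.fittingSubgroup G = ⊥ := by
    rw [hF]
    have hle : Cfsg.pCore p G ≤ centralizer (J : Set G) :=
      hF ▸ fitting_le_centralizer_layer.trans (centralizer_le (component_le_layer hJ))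
    obtain ⟨k, hk⟩ := (Core.isPGroup_pCore p G).exists_card_eq
    refine Subgroup.eq_bot_of_card_eq _ ?_
    rcases Nat.eq_zero_or_pos k with h0 | h0
    · rw [hk, h0, pow_zero]
    · exact absurd ((dvd_pow_self p h0.ne').trans (hk ▸ Subgroup.card_dvd_of_le hle)) hC
  have hE : Cfsg.generalizedFittingSubgroup G = J := by
    rw [Cfsg.generalizedFittingSubgroup, hFbot, sup_bot_eq]
    exact le_antisymm (layer_le_iff.mpr fun K hK => (huniq K hK).le) (component_le_layer hJ)
  haveI hJn : J.Normal := hE ▸ generalizedFitting_normal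
  have hZ : center ↥J = ⊥ := by
    haveI : ((center ↥J).map J.subtype).Normal := ConjAct.normal_of_characteristic_of_normal
    have h1 : (center ↥J).map J.subtype ≤ centralizer (J : Set G) := by
      rintro _ ⟨v, hv, rfl⟩
      exact mem_centralizer_iff.mpr fun w hw => congrArg Subtype.val (Subgroup.mem_center_iff.mp hv ⟨w, hw⟩)
    have h2 : (center ↥J).map J.subtype ≤ Cfsg.pPrimeCore p G := Core.le_pPrimeCore inferInstance
      (Nat.coprime_comm.mp (hp.out.coprime_iff_not_dvd.mpr fun h => hC (h.trans (Subgroup.card_dvd_of_le h1))))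
    rw [hcore, le_bot_iff] at h2
    exact (Subgroup.map_eq_bot_iff_of_injective _ J.subtype_injective).mp h2
  have hs : IsSimpleGroup ↥J := by
    haveI := hJ.2.2
    haveI : Nontrivial ↥J := quasisimple_nontrivial hJ.2
    exact IsSimpleGroup.isSimpleGroup_of_surjective
      ((QuotientGroup.quotientMulEquivOfEq hZ).trans QuotientGroup.quotientBot).toMonoidHom
      ((QuotientGroup.quotientMulEquivOfEq hZ).trans QuotientGroup.quotientBot).surjective
  rw [hE]
  refine ⟨hs, fun h => quasisimple_center_ne_top hJ.2 ?_⟩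
  exact top_le_iff.mp fun v _ => Subgroup.mem_center_iff.mpr fun w => h.is_comm.comm w v

end Cfsg.Agent.Components.IsolatedRankTwo
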