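import Cfsg.Agent.Golay.Orbits

/-! Data: a Sylow 2-subgroup of `M24` with an abelian subgroup of index 8 modulo the centre. -/

set_option autoImplicit false
set_option maxRecDepth 20000

namespace Cfsg.Agent.Components.MFourSyl

open Cfsg.Agent.Golay

/-- Generators. -/
def gens : List ℕ := [805377988708399887126964796436698121, 753096553285173322826427315423494703, 653503807136977646601169740451455200, 975506060737102215959968029153599915]

/-- Forest listing the group generated by `gens`. -/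
def tree : OrbTree := (.node 0 (.node 0 (.node 0 (.node 2 (.node 0 (.node 1 (.node 3 .nil .nil) (.node 3 .nil .nil)) (.node 1 (.node 0 .nil (.node 2 (.node 3 (.node 0 .nil .nil) .nil) (.node 3 .nil .nil))) (.node 2 (.node 3 (.node 0 .nil (.node 2 .nil .nil)) .nil) (.node 3 (.node 0 (.node 1 (.node 3 .nil .nil) (.node 2 .nil (.node 3 (.node 2 .nil .nil) .nil))) (.node 2 (.node 0 (.node 3 .nil .nil) .nil) (.node 3 (.node 0 .nil .nil) .nil))) .nil)))) (.node 3 (.node 0 (.node 1 (.node 3 .nil .nil) (.node 2 (.node 1 .nil (.node 2 (.node 3 .nil .nil) (.node 3 .nil .nil))) (.node 3 (.node 1 .nil (.node 2 .nil (.node 3 .nil .nil))) .nil))) (.node 1 (.node 0 (.node 2 .nil (.node 3 (.node 3 .nil .nil) .nil)) (.node 2 (.node 0 (.node 3 .nil .nil) .nil) (.node 3 (.node 0 .nil (.node 1 .nil .nil)) .nil))) (.node 2 (.node 0 (.node 2 (.node 2 .nil .nil) (.node 3 (.node 1 .nil .nil) .nil)) .nil) (.node 3 (.node 0 (.node 2 .nil (.node 3 .nil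 .nil)) (.node 1 (.node 0 .nil .nil) .nil)) .nil)))) .nil)) (.node 1 (.node 2 (.node 0 (.node 1 .nil (.node 2 .nil .nil)) (.node 1 (.node 0 .nil (.node 2 .nil (.node 3 (.node 2 .nil .nil) .nil))) (.node 2 (.node 3 (.node 2 .nil .nil) .nil) (.node 3 (.node 0 (.node 0 .nil (.node 2 .nil (.node 3 .nil .nil))) (.node 2 (.node 0 (.node 3 .nil .nil) .nil) (.node 3 (.node 0 .nil .nil) .nil))) .nil)))) (.node 3 (.node 0 (.node 1 (.node 3 .nil .nil) (.node 2 .nil (.node 3 .nil .nil))) (.node 1 (.node 0 (.node 2 .nil (.node 3 .nil .nil)) (.node 2 (.node 0 .nil .nil) (.node 3 .nil .nil))) (.node 2 (.node 0 .nil .nil) (.node 3 .nil .nil)))) .nil)) (.node 2 (.node 0 (.node 1 (.node 3 (.node 0 .nil .nil) .nil) (.node 2 (.node 0 (.node 3 .nil .nil) (.node 2 .nil (.node 3 (.node 0 .nil (.node 2 .nil (.node 3 .nil .nil))) .nil))) (.node 3 (.node 0 (.node 2 .nil (.node 3 .nil .nil)) (.node 3 .nil .nil)) .nil))) (.node 1 (.node 0 (.node 2 (.node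 3 .nil .nil) (.node 3 (.node 0 (.node 1 .nil .nil) .nil) .nil)) (.node 2 (.node 0 .nil (.node 2 .nil (.node 3 (.node 0 .nil (.node 2 .nil (.node 3 .nil .nil))) .nil))) (.node 3 (.node 2 .nil (.node 3 .nil .nil)) .nil))) (.node 2 (.node 0 (.node 3 (.node 2 .nil .nil) .nil) (.node 1 (.node 3 (.node 2 .nil .nil) .nil) (.node 3 (.node 0 (.node 0 .nil (.node 3 .nil .nil)) (.node 2 .nil (.node 3 .nil .nil))) .nil))) (.node 3 (.node 0 (.node 0 .nil (.node 1 (.node 3 .nil .nil) (.node 2 .nil (.node 3 (.node 2 .nil .nil) .nil)))) (.node 2 (.node 0 (.node 3 .nil .nil) .nil) (.node 3 (.node 0 .nil (.node 1 (.node 2 .nil (.node 3 .nil .nil)) .nil)) .nil))) .nil)))) (.node 3 (.node 0 (.node 0 (.node 0 .nil (.node 2 (.node 3 .nil .nil) (.node 3 .nil .nil))) (.node 1 (.node 3 (.node 0 .nil .nil) .nil) (.node 2 (.node 0 .nil (.node 1 (.node 3 (.node 0 .nil .nil) .nil) (.node 2 (.node 0 .nil (.node 1 (.node 3 .nil .nil) (.node 3 (.node 0 .nil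 .nil) .nil))) (.node 3 (.node 0 (.node 2 .nil .nil) .nil) .nil)))) (.node 3 (.node 0 .nil (.node 1 .nil (.node 2 (.node 0 .nil .nil) (.node 3 .nil .nil)))) .nil)))) (.node 1 (.node 0 (.node 2 (.node 1 .nil .nil) (.node 3 (.node 2 (.node 0 .nil .nil) (.node 3 .nil .nil)) .nil)) (.node 2 (.node 0 (.node 1 .nil (.node 3 .nil .nil)) (.node 2 .nil .nil)) (.node 3 (.node 0 .nil (.node 1 .nil .nil)) .nil))) (.node 2 (.node 0 (.node 1 (.node 3 .nil .nil) (.node 2 (.node 2 .nil (.node 3 .nil .nil)) (.node 3 (.node 0 .nil (.node 1 .nil .nil)) .nil))) .nil) (.node 3 (.node 0 (.node 2 (.node 3 .nil .nil) (.node 3 (.node 1 .nil .nil) .nil)) (.node 1 (.node 0 (.node 3 .nil .nil) (.node 2 .nil .nil)) .nil)) .nil)))) .nil)))) (.node 1 (.node 2 (.node 0 (.node 0 (.node 3 .nil .nil) (.node 1 (.node 3 .nil .nil) (.node 2 (.node 0 (.node 3 .nil .nil) .nil) (.node 3 .nil .nil)))) (.node 1 (.node 0 (.node 2 (.node 3 .nil .nil) .nil) (.node 2 (.node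 3 (.node 0 .nil (.node 2 .nil (.node 3 .nil .nil))) .nil) (.node 3 (.node 0 (.node 1 .nil .nil) (.node 2 (.node 0 .nil .nil) (.node 3 .nil .nil))) .nil))) (.node 2 (.node 2 (.node 3 .nil .nil) (.node 3 (.node 0 (.node 0 .nil (.node 3 .nil .nil)) (.node 2 .nil .nil)) .nil)) (.node 3 (.node 0 (.node 0 .nil (.node 1 (.node 3 .nil .nil) (.node 2 .nil (.node 3 (.node 1 (.node 2 .nil .nil) (.node 2 .nil .nil)) .nil)))) (.node 2 (.node 0 (.node 1 .nil (.node 3 .nil .nil)) .nil) (.node 3 (.node 0 .nil .nil) .nil))) .nil)))) (.node 3 (.node 0 (.node 0 (.node 0 (.node 3 .nil .nil) (.node 1 .nil (.node 2 (.node 0 (.node 3 .nil .nil) .nil) .nil))) (.node 1 (.node 2 (.node 1 .nil .nil) (.node 3 .nil .nil)) (.node 2 (.node 1 (.node 2 .nil .nil) (.node 2 (.node 3 (.node 2 .nil .nil) .nil) (.node 3 (.node 0 .nil (.node 2 .nil (.node 3 .nil .nil))) .nil))) (.node 3 (.node 2 (.node 0 .nil .nil) (.node 3 .nil .nil)) .nil)))) (.node 1 (.node 0 (.node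 2 (.node 1 .nil (.node 3 (.node 2 .nil .nil) .nil)) (.node 3 (.node 1 .nil (.node 2 .nil (.node 3 .nil .nil))) .nil)) (.node 2 (.node 0 (.node 2 .nil (.node 3 .nil .nil)) .nil) (.node 3 .nil .nil))) (.node 2 (.node 0 (.node 2 (.node 2 .nil .nil) (.node 3 (.node 1 .nil (.node 2 .nil .nil)) .nil)) .nil) (.node 3 (.node 0 (.node 2 .nil (.node 3 .nil .nil)) (.node 1 (.node 2 .nil (.node 3 .nil .nil)) .nil)) .nil)))) .nil)) (.node 2 (.node 0 (.node 0 (.node 0 (.node 3 .nil .nil) (.node 1 .nil (.node 3 (.node 2 .nil (.node 3 .nil .nil)) .nil))) (.node 1 (.node 3 (.node 0 .nil (.node 1 .nil .nil)) .nil) (.node 2 (.node 0 (.node 3 .nil .nil) (.node 2 .nil (.node 3 (.node 0 .nil (.node 2 .nil (.node 3 .nil .nil))) .nil))) (.node 3 (.node 0 (.node 2 (.node 3 .nil .nil) (.node 3 .nil .nil)) (.node 1 .nil (.node 3 (.node 0 .nil .nil) .nil))) .nil)))) (.node 1 (.node 0 (.node 2 (.node 1 (.node 3 .nil .nil) (.node 3 .nil .nil)) (.node 3 (.node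 0 (.node 1 .nil .nil) .nil) .nil)) (.node 2 (.node 0 .nil (.node 2 (.node 2 (.node 3 .nil .nil) (.node 3 (.node 0 .nil .nil) .nil)) (.node 3 (.node 0 (.node 1 .nil (.node 3 .nil .nil)) (.node 2 (.node 0 .nil .nil) (.node 3 .nil .nil))) .nil))) (.node 3 (.node 0 (.node 0 .nil (.node 1 (.node 3 .nil .nil) .nil)) (.node 2 (.node 0 (.node 3 .nil .nil) .nil) (.node 3 .nil .nil))) .nil))) (.node 2 (.node 0 (.node 3 (.node 2 .nil .nil) .nil) (.node 1 (.node 3 (.node 2 .nil .nil) .nil) (.node 2 (.node 0 (.node 3 .nil .nil) (.node 1 (.node 3 (.node 2 .nil .nil) .nil) (.node 3 (.node 0 (.node 0 .nil .nil) (.node 2 .nil (.node 3 .nil .nil))) .nil))) (.node 3 (.node 0 (.node 0 .nil (.node 1 .nil (.node 3 .nil .nil))) (.node 2 .nil (.node 3 .nil .nil))) .nil)))) (.node 3 (.node 0 (.node 0 (.node 2 (.node 0 .nil (.node 3 .nil .nil)) .nil) (.node 1 (.node 3 .nil .nil) (.node 2 (.node 1 (.node 3 .nil .nil) (.node 2 (.node 1 .nil (.node 3 .nil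 .nil)) .nil)) (.node 3 (.node 1 (.node 2 .nil .nil) (.node 2 .nil .nil)) .nil)))) (.node 2 (.node 0 (.node 1 (.node 3 .nil .nil) (.node 3 (.node 1 .nil .nil) .nil)) .nil) (.node 3 (.node 0 (.node 1 .nil .nil) (.node 1 (.node 2 .nil (.node 3 .nil .nil)) .nil)) .nil))) .nil)))) (.node 3 (.node 0 (.node 0 (.node 0 (.node 3 (.node 2 .nil .nil) .nil) (.node 1 .nil (.node 2 (.node 0 (.node 3 .nil .nil) (.node 1 .nil (.node 3 .nil .nil))) (.node 3 .nil .nil)))) (.node 1 (.node 2 (.node 0 .nil (.node 1 (.node 3 .nil .nil) (.node 3 (.node 0 .nil (.node 2 .nil .nil)) .nil))) (.node 3 (.node 0 (.node 1 .nil .nil) (.node 2 (.node 0 .nil .nil) (.node 3 .nil .nil))) .nil)) (.node 2 (.node 0 (.node 0 .nil .nil) (.node 1 (.node 2 (.node 3 .nil .nil) (.node 3 (.node 0 .nil .nil) .nil)) (.node 2 (.node 0 .nil (.node 1 (.node 3 .nil .nil) (.node 2 (.node 3 .nil .nil) (.node 3 (.node 0 .nil (.node 2 .nil .nil)) .nil)))) (.node 3 (.node 0 (.node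 0 .nil (.node 2 .nil .nil)) (.node 2 (.node 0 .nil .nil) (.node 3 (.node 1 .nil .nil) .nil))) .nil)))) (.node 3 (.node 0 .nil (.node 1 (.node 2 .nil (.node 3 .nil .nil)) (.node 2 (.node 0 .nil .nil) (.node 3 (.node 1 (.node 3 .nil .nil) .nil) .nil)))) .nil)))) (.node 1 (.node 0 (.node 2 (.node 1 .nil (.node 3 (.node 2 .nil .nil) .nil)) (.node 3 (.node 1 (.node 0 .nil .nil) (.node 2 (.node 0 .nil .nil) (.node 3 .nil .nil))) .nil)) (.node 2 (.node 0 (.node 1 (.node 3 .nil .nil) (.node 2 (.node 3 .nil .nil) (.node 3 .nil .nil))) (.node 2 (.node 0 .nil .nil) .nil)) (.node 3 (.node 0 .nil (.node 1 .nil (.node 3 (.node 0 .nil .nil) .nil))) .nil))) (.node 2 (.node 0 (.node 1 (.node 3 .nil .nil) (.node 2 (.node 2 (.node 3 .nil .nil) (.node 3 .nil .nil)) (.node 3 (.node 0 .nil (.node 1 .nil (.node 2 .nil .nil))) .nil))) .nil) (.node 3 (.node 0 (.node 0 .nil (.node 1 (.node 2 .nil (.node 3 .nil .nil)) (.node 2 (.node 0 .nil (.node 1 .nil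 (.node 3 .nil .nil))) (.node 3 (.node 1 .nil .nil) .nil)))) (.node 1 (.node 0 (.node 2 .nil (.node 3 .nil .nil)) (.node 2 (.node 0 .nil .nil) (.node 3 .nil .nil))) .nil)) .nil)))) .nil)))) (.node 1 (.node 0 (.node 2 (.node 0 (.node 1 .nil (.node 2 .nil .nil)) (.node 1 (.node 0 .nil (.node 2 .nil (.node 3 (.node 2 .nil .nil) .nil))) (.node 2 (.node 3 (.node 2 .nil .nil) .nil) (.node 3 (.node 0 (.node 0 .nil (.node 2 .nil (.node 3 .nil .nil))) (.node 2 (.node 0 (.node 3 .nil .nil) .nil) (.node 3 (.node 0 .nil .nil) .nil))) .nil)))) (.node 3 (.node 0 (.node 1 (.node 3 .nil .nil) (.node 2 .nil (.node 3 .nil .nil))) (.node 1 (.node 0 (.node 2 .nil (.node 3 .nil .nil)) (.node 2 (.node 0 .nil .nil) (.node 3 .nil .nil))) (.node 2 (.node 0 .nil .nil) (.node 3 .nil .nil)))) .nil)) (.node 2 (.node 0 (.node 0 (.node 3 (.node 2 .nil .nil) .nil) (.node 1 (.node 3 .nil .nil) (.node 2 (.node 0 (.node 3 .nil .nil) (.node 3 (.node 2 .nil (.node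 3 .nil .nil)) .nil)) (.node 3 (.node 3 .nil .nil) .nil)))) (.node 1 (.node 0 (.node 2 (.node 3 .nil .nil) (.node 3 .nil .nil)) (.node 2 (.node 0 .nil (.node 3 (.node 0 .nil (.node 2 (.node 0 .nil .nil) (.node 3 .nil .nil))) .nil)) (.node 3 (.node 0 (.node 1 (.node 3 .nil .nil) .nil) (.node 2 (.node 0 (.node 3 .nil .nil) .nil) (.node 3 .nil .nil))) .nil))) (.node 2 (.node 0 (.node 3 (.node 2 .nil .nil) .nil) (.node 1 (.node 3 (.node 2 .nil .nil) .nil) (.node 2 (.node 0 .nil (.node 1 .nil (.node 3 .nil .nil))) (.node 3 (.node 0 (.node 0 .nil (.node 3 .nil .nil)) (.node 2 .nil .nil)) .nil)))) (.node 3 (.node 0 (.node 0 .nil (.node 1 (.node 3 .nil .nil) (.node 2 .nil (.node 3 (.node 1 (.node 2 .nil .nil) (.node 2 .nil .nil)) .nil)))) (.node 2 (.node 0 (.node 1 .nil (.node 3 .nil .nil)) .nil) (.node 3 (.node 0 .nil (.node 1 (.node 2 .nil (.node 3 .nil .nil)) .nil)) .nil))) .nil)))) (.node 3 (.node 0 (.node 0 (.node 0 (.node 3 .nil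 .nil) (.node 1 .nil (.node 2 (.node 0 (.node 3 .nil .nil) .nil) (.node 3 .nil .nil)))) (.node 1 (.node 2 (.node 0 .nil (.node 1 .nil .nil)) (.node 3 (.node 0 (.node 1 .nil .nil) .nil) .nil)) (.node 2 (.node 0 (.node 0 .nil .nil) (.node 1 (.node 2 .nil .nil) (.node 2 (.node 3 (.node 2 .nil .nil) .nil) (.node 3 (.node 0 .nil (.node 2 .nil (.node 3 .nil .nil))) .nil)))) (.node 3 (.node 2 (.node 0 .nil .nil) (.node 3 .nil .nil)) .nil)))) (.node 1 (.node 0 (.node 2 (.node 1 .nil (.node 3 (.node 2 .nil .nil) .nil)) (.node 3 (.node 1 .nil (.node 2 .nil (.node 3 .nil .nil))) .nil)) (.node 2 (.node 0 (.node 2 (.node 3 .nil .nil) (.node 3 .nil .nil)) (.node 2 (.node 0 .nil .nil) .nil)) (.node 3 .nil .nil))) (.node 2 (.node 0 (.node 2 (.node 2 (.node 3 .nil .nil) (.node 3 .nil .nil)) (.node 3 (.node 1 .nil (.node 2 .nil .nil)) .nil)) .nil) (.node 3 (.node 0 (.node 2 .nil (.node 3 .nil .nil)) (.node 1 (.node 2 (.node 0 .nil .nil) (.node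 3 .nil .nil)) .nil)) .nil)))) .nil))) (.node 2 (.node 0 (.node 0 (.node 0 (.node 3 .nil .nil) (.node 1 .nil (.node 3 (.node 2 .nil (.node 3 .nil .nil)) .nil))) (.node 1 (.node 3 (.node 0 .nil (.node 1 (.node 0 .nil .nil) .nil)) .nil) (.node 2 (.node 0 (.node 3 (.node 1 .nil .nil) .nil) (.node 2 (.node 3 (.node 2 .nil .nil) .nil) (.node 3 (.node 0 .nil (.node 2 .nil (.node 3 .nil .nil))) .nil))) (.node 3 (.node 0 (.node 2 (.node 2 .nil (.node 3 .nil .nil)) (.node 3 .nil .nil)) (.node 1 (.node 0 (.node 2 .nil (.node 3 .nil .nil)) .nil) (.node 2 (.node 0 .nil .nil) (.node 3 (.node 0 .nil .nil) .nil)))) .nil)))) (.node 1 (.node 0 (.node 2 (.node 0 .nil (.node 1 (.node 3 .nil .nil) (.node 3 .nil .nil))) (.node 3 (.node 0 (.node 1 .nil .nil) .nil) .nil)) (.node 2 (.node 0 .nil (.node 1 (.node 0 (.node 3 .nil .nil) .nil) (.node 2 (.node 2 (.node 3 .nil .nil) (.node 3 (.node 0 .nil (.node 2 .nil .nil)) .nil)) (.node 3 (.node 0 (.node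 1 .nil (.node 3 .nil .nil)) (.node 2 (.node 0 .nil .nil) (.node 3 (.node 0 .nil .nil) .nil))) .nil)))) (.node 3 (.node 0 (.node 0 .nil (.node 1 (.node 3 .nil .nil) .nil)) (.node 2 (.node 0 (.node 2 .nil (.node 3 .nil .nil)) .nil) (.node 3 .nil .nil))) .nil))) (.node 2 (.node 0 (.node 3 (.node 2 .nil .nil) .nil) (.node 1 (.node 3 (.node 2 .nil .nil) .nil) (.node 2 (.node 0 (.node 3 (.node 2 .nil .nil) .nil) (.node 1 (.node 3 (.node 2 .nil .nil) .nil) (.node 3 (.node 0 (.node 0 .nil (.node 3 .nil .nil)) (.node 2 .nil (.node 3 .nil .nil))) .nil))) (.node 3 (.node 0 (.node 0 .nil (.node 1 .nil (.node 3 (.node 2 .nil .nil) .nil))) (.node 2 .nil (.node 3 .nil .nil))) .nil)))) (.node 3 (.node 0 (.node 0 (.node 2 (.node 0 .nil (.node 3 .nil .nil)) .nil) (.node 1 (.node 3 .nil .nil) (.node 2 (.node 1 (.node 3 .nil .nil) (.node 2 (.node 1 .nil (.node 3 .nil .nil)) (.node 3 .nil .nil))) (.node 3 (.node 1 (.node 2 .nil .nil) (.node 2 .nil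 .nil)) .nil)))) (.node 2 (.node 0 (.node 1 (.node 3 .nil .nil) (.node 2 (.node 2 .nil (.node 3 .nil .nil)) (.node 3 (.node 1 .nil (.node 2 .nil .nil)) .nil))) .nil) (.node 3 (.node 0 (.node 1 .nil (.node 3 .nil .nil)) (.node 1 (.node 0 .nil (.node 2 .nil (.node 3 .nil .nil))) .nil)) .nil))) .nil)))) (.node 3 (.node 0 (.node 0 (.node 0 (.node 3 (.node 0 .nil (.node 2 .nil .nil)) .nil) (.node 1 .nil (.node 2 (.node 0 (.node 3 .nil .nil) (.node 1 .nil (.node 3 .nil .nil))) (.node 3 .nil .nil)))) (.node 1 (.node 2 (.node 0 .nil (.node 1 (.node 3 .nil .nil) (.node 3 (.node 0 .nil (.node 2 .nil .nil)) .nil))) (.node 3 (.node 0 (.node 1 .nil .nil) (.node 2 (.node 0 .nil .nil) (.node 3 .nil .nil))) .nil)) (.node 2 (.node 0 (.node 0 .nil .nil) (.node 1 (.node 2 (.node 3 .nil .nil) (.node 3 (.node 0 .nil .nil) .nil)) (.node 2 (.node 0 .nil (.node 1 (.node 3 .nil .nil) (.node 2 (.node 3 .nil .nil) (.node 3 (.node 0 .nil (.node 2 .nil .nil))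 .nil)))) (.node 3 (.node 0 (.node 0 .nil (.node 2 .nil .nil)) (.node 2 (.node 0 .nil .nil) (.node 3 (.node 1 .nil .nil) .nil))) .nil)))) (.node 3 (.node 0 .nil (.node 1 (.node 2 (.node 0 .nil .nil) (.node 3 .nil .nil)) (.node 2 (.node 0 .nil .nil) (.node 3 (.node 1 (.node 3 .nil .nil) .nil) .nil)))) .nil)))) (.node 1 (.node 0 (.node 2 (.node 1 .nil (.node 3 (.node 0 .nil (.node 2 .nil .nil)) .nil)) (.node 3 (.node 1 (.node 0 .nil .nil) (.node 2 (.node 0 .nil .nil) (.node 3 .nil .nil))) .nil)) (.node 2 (.node 0 (.node 1 (.node 3 .nil .nil) (.node 2 (.node 3 .nil .nil) (.node 3 .nil .nil))) (.node 2 (.node 0 .nil .nil) .nil)) (.node 3 (.node 0 (.node 2 (.node 3 .nil .nil) (.node 3 .nil .nil)) (.node 1 .nil (.node 3 (.node 0 .nil .nil) .nil))) .nil))) (.node 2 (.node 0 (.node 1 (.node 3 .nil .nil) (.node 2 (.node 2 (.node 3 .nil .nil) (.node 3 .nil .nil)) (.node 3 (.node 0 .nil (.node 1 .nil (.node 2 .nil .nil))) .nil))) .nil) (.node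 3 (.node 0 (.node 0 (.node 0 .nil .nil) (.node 1 (.node 2 .nil (.node 3 .nil .nil)) (.node 2 (.node 0 .nil (.node 1 .nil (.node 3 .nil .nil))) (.node 3 (.node 1 .nil .nil) .nil)))) (.node 1 (.node 0 (.node 2 .nil (.node 3 .nil .nil)) (.node 2 (.node 0 .nil .nil) (.node 3 .nil .nil))) .nil)) .nil)))) .nil))))

/-- The central involution. -/
def zc : ℕ := 394194111491942402222230117755750596

/-- Generators of the subgroup of index 8. -/
def agens : List ℕ := [14492323922541487558644557711686025, 14609969285037733033451233819561367, 15117038176187174054440803411378729, 23467290385876637321618834983245207, 50838585108537014872359582947621164, 292279843524126663497684018279234035]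

/-- Forest listing the group generated by `agens`. -/
def atree : OrbTree := (.node 0 (.node 0 (.node 0 (.node 2 .nil (.node 4 (.node 5 .nil .nil) (.node 5 .nil .nil))) (.node 1 (.node 3 (.node 4 .nil .nil) (.node 4 (.node 5 .nil .nil) (.node 5 .nil .nil))) (.node 2 .nil (.node 3 (.node 4 .nil .nil) (.node 4 (.node 5 .nil .nil) (.node 5 .nil .nil)))))) (.node 1 (.node 2 (.node 3 (.node 4 (.node 5 .nil .nil) (.node 5 .nil .nil)) (.node 4 (.node 5 (.node 3 .nil .nil) .nil) (.node 5 (.node 3 .nil .nil) .nil))) (.node 3 (.node 2 (.node 4 .nil .nil) (.node 4 (.node 5 .nil .nil) (.node 5 .nil .nil))) (.node 4 (.node 2 (.node 5 .nil .nil) (.node 5 (.node 3 .nil .nil) .nil)) (.node 5 (.node 2 .nil (.node 3 .nil .nil)) .nil)))) (.node 2 (.node 1 .nil (.node 3 (.node 4 (.node 5 .nil .nil) (.node 5 .nil .nil)) (.node 4 (.node 5 (.node 3 .nil .nil) .nil) (.node 5 (.node 3 .nil .nil) .nil)))) (.node 3 (.node 2 (.node 4 .nil .nil) (.node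 4 (.node 5 .nil .nil) (.node 5 .nil .nil))) (.node 4 (.node 2 (.node 5 .nil .nil) (.node 5 (.node 3 .nil .nil) .nil)) (.node 5 (.node 2 .nil (.node 3 .nil .nil)) .nil)))))) (.node 1 (.node 0 (.node 3 (.node 4 .nil .nil) (.node 4 (.node 5 .nil .nil) (.node 5 .nil .nil))) (.node 2 (.node 3 (.node 4 (.node 5 .nil .nil) (.node 5 .nil .nil)) (.node 4 (.node 5 (.node 3 .nil .nil) .nil) (.node 5 (.node 3 .nil .nil) .nil))) (.node 3 (.node 2 (.node 4 .nil .nil) (.node 4 (.node 5 .nil .nil) (.node 5 .nil .nil))) (.node 4 (.node 2 (.node 5 .nil .nil) (.node 5 (.node 3 .nil .nil) .nil)) (.node 5 (.node 2 .nil (.node 3 .nil .nil)) .nil))))) (.node 2 (.node 1 .nil (.node 3 (.node 4 (.node 5 .nil .nil) (.node 5 .nil .nil)) (.node 4 (.node 5 (.node 3 .nil .nil) .nil) (.node 5 (.node 3 .nil .nil) .nil)))) (.node 3 (.node 0 (.node 4 .nil .nil) (.node 2 (.node 4 .nil .nil) (.node 4 (.node 5 .nil .nil) (.node 5 .nil .nil)))) (.node 4 (.node 2 (.node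 5 .nil .nil) (.node 5 (.node 3 .nil .nil) .nil)) (.node 5 (.node 2 .nil (.node 3 .nil .nil)) .nil))))))

/-- Representatives of the non-trivial cosets. -/
def reps : List ℕ := [805377988708399887126964796436698121, 753096553285173322826427315423494703, 635330023124845935965625824920084915, 805137790252355499675871242788225158, 653503807136977646601169740451455200, 944352263047279188101646877467103473, 731146896421661982694840756082248041]

end Cfsg.Agent.Components.MFourSyl
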