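import Cfsg.Agent.LocalEven.LargestPReduced
import Cfsg.Agent.LocalEven.SubnormalSylow
import Cfsg.Agent.Components.ExtendedLayer

/-!
The point stabilizer of a join of subnormal subgroups in a group of local characteristic `p`.
-/

set_option autoImplicit false
set_option linter.style.haveILetI false

namespace Cfsg.Agent.Components.PointStab

open Cfsg.Agent.LocalEven

variable {G : Type*} [Group G] [Finite G] {p : ℕ} [hp : Fact p.Prime]

/-- A subnormal subgroup of index prime to `p` contains every `p`-element. -/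
theorem mem_of_isSubnormal_index {A : Subgroup G} (hA : A.IsSubnormal) (hidx : ¬ p ∣ A.index) {x : G}
    (hx : ∃ k : ℕ, orderOf x = p ^ k) : x ∈ A := by
  induction hA with
  | top => exact Subgroup.mem_top x
  | step H K hHK _ hn ih =>
    have hxK : x ∈ K := ih (fun h => hidx (h.trans (Subgroup.index_dvd_of_le hHK)))
    haveI := hn
    obtain ⟨k, hk⟩ := hx
    have hcop : ((H.subgroupOf K).index).Coprime (orderOf (⟨x, hxK⟩ : ↥K)) := by
      rw [Subgroup.orderOf_mk, hk]
      refine ((hp.out.coprime_iff_not_dvd.mpr fun h => hidx (h.trans ?_)).pow_left k).symm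
      exact Dvd.intro _ (Subgroup.relIndex_mul_index hHK)
    obtain ⟨m, hm⟩ := exists_pow_eq_self_of_coprime hcop
    have h := (H.subgroupOf K).pow_mem (Subgroup.pow_index_mem (H.subgroupOf K) (⟨x, hxK⟩ : ↥K)) m
    rw [hm] at h
    exact h

theorem omegaZ_ne_bot {A : Subgroup G} (hA : IsPGroup p A) (hA1 : A ≠ ⊥) : omegaZ p A ≠ ⊥ := by
  haveI : Nontrivial ↥A := (Subgroup.nontrivial_iff_ne_bot A).mpr hA1
  haveI : Nontrivial (Subgroup.center ↥A) := hA.center_nontrivial
  obtain ⟨k, hk⟩ := (hA.to_subgroup (Subgroup.center ↥A)).exists_card_eq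
  have hd : p ∣ Nat.card (Subgroup.center ↥A) := by
    rw [hk]
    refine dvd_pow_self p fun h => ?_
    rw [h, pow_zero] at hk
    exact absurd hk (Finite.one_lt_card.ne')
  obtain ⟨z, hz⟩ := exists_prime_orderOf_dvd_card' p hd
  intro hbot
  have hz' : ((z : ↥A) : G) ∈ omegaZ p A := mem_omegaZ.mpr ⟨(z : ↥A).2,
    Subgroup.mem_centralizer_iff.mpr fun a ha => congrArg Subtype.val (Subgroup.mem_center_iff.mp z.2 ⟨a, ha⟩),
    by rw [← hz, ← Subgroup.orderOf_coe, ← Subgroup.orderOf_coe, pow_orderOf_eq_one]⟩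
  rw [hbot, Subgroup.mem_bot] at hz'
  have h1 : orderOf z = 1 := by
    rw [← Subgroup.orderOf_coe, ← Subgroup.orderOf_coe, hz', orderOf_one]
  exact hp.out.one_lt.ne' (hz.symm.trans h1)

/-- A subnormal subgroup meets a subgroup of characteristic `p` in a subgroup of characteristic `p`. -/
theorem charP_inf {M K : Subgroup G}
    (hM : Subgroup.centralizer (Cfsg.pCore p ↥M : Set ↥M) ≤ Cfsg.pCore p ↥M) (hK : K.IsSubnormal) :
    (K ⊓ M) ⊓ Subgroup.centralizer (op p (K ⊓ M) : Set G) ≤ op p (K ⊓ M) := by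
  refine (charP_iff (K ⊓ M)).mp (normal_map_equiv_pCore ?_ (charP_of_isSubnormal hM (hK.subgroupOf (K := M))))
  exact (MulEquiv.subgroupCongr (Subgroup.inf_subgroupOf_right K M).symm).trans
    (Subgroup.subgroupOfEquivOfLe inf_le_right)

/-- Kieler's lemma in a group of local characteristic `p`. -/
theorem kieler_local (hloc : Cfsg.IsOfLocalCharacteristic p G) (T : Sylow p G) {L : Subgroup G}
    (hL : L.IsSubnormal) (hne : (T : Subgroup G) ⊓ L ≠ ⊥) :
    L ⊓ Subgroup.centralizer (omegaZ p (T : Subgroup G) : Set G) =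
      L ⊓ Subgroup.centralizer (omegaZ p ((T : Subgroup G) ⊓ L) : Set G) := by
  induction hL with
  | top => rw [inf_top_eq]
  | step H K hHK hK hn ih =>
    have hKH := (Subgroup.normal_subgroupOf_iff_le_normalizer hHK).mp hn
    have hH : H.IsSubnormal := Subgroup.IsSubnormal.step H K hHK hK hn
    have hne' : (T : Subgroup G) ⊓ K ≠ ⊥ := fun h =>
      hne (le_bot_iff.mp ((inf_le_inf_left _ hHK).trans h.le))
    set S := (T : Subgroup G) ⊓ K with hS
    have hSm : IsMaxP p S K := sylow_inf_subnormal T hK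
    have hSH : S ⊓ H = (T : Subgroup G) ⊓ H := by rw [hS, inf_assoc, inf_of_le_right hHK]
    have hSp : IsPGroup p S := T.isPGroup'.to_le inf_le_left
    -- the statement inside the normalizer of a nontrivial `p`-subgroup normalized by `S`
    have key : ∀ W : Subgroup G, IsPGroup p W → W ≠ ⊥ → S ≤ Subgroup.normalizer (W : Set G) →
        H ⊓ Subgroup.normalizer (W : Set G) ⊓ Subgroup.centralizer (omegaZ p S : Set G) =
          H ⊓ Subgroup.normalizer (W : Set G) ⊓ Subgroup.centralizer (omegaZ p (S ⊓ H) : Set G) := by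
      intro W hW hW1 hSW
      set M := Subgroup.normalizer (W : Set G)
      have hM := hloc.2 W hW hW1
      have h := kieler_normal (p := p) (S := S) (K := K ⊓ M) (L := H ⊓ M)
        (hSm.of_le (le_inf hSm.1 hSW) inf_le_left) (inf_le_inf_right _ hHK)
        ((le_inf (inf_le_left.trans hKH) (inf_le_right.trans Subgroup.le_normalizer)).trans
          Subgroup.inf_normalizer_le_normalizer_inf)
        (charP_inf hM hK) (charP_inf hM hH)
      rwa [← inf_assoc S H M, inf_eq_left.mpr (inf_le_left.trans hSW : S ⊓ H ≤ M)] at h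
    have hstep : H ⊓ Subgroup.centralizer (omegaZ p S : Set G) =
        H ⊓ Subgroup.centralizer (omegaZ p (S ⊓ H) : Set G) := by
      refine le_antisymm (fun x hx => ?_) (fun x hx => ?_)
      · have h := key _ (hSp.to_le ((omegaOne_le _).trans inf_le_left)) (omegaZ_ne_bot hSp hne')
          (Subgroup.le_normalizer.trans (normalizer_le_normalizer_omegaZ S))
        exact ⟨hx.1, (h.le ⟨⟨hx.1, Subgroup.centralizer_le_normalizer _ hx.2⟩, hx.2⟩).2⟩
      · have h := key _ ((hSp.to_le inf_le_left).to_le ((omegaOne_le _).trans inf_le_left))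
          (omegaZ_ne_bot (hSp.to_le inf_le_left) (hSH ▸ hne))
          (((le_inf Subgroup.le_normalizer (inf_le_right.trans hKH)).trans
            Subgroup.inf_normalizer_le_normalizer_inf).trans (normalizer_le_normalizer_omegaZ _))
        exact ⟨hx.1, (h.ge ⟨⟨hx.1, Subgroup.centralizer_le_normalizer _ hx.2⟩, hx.2⟩).2⟩
    rw [hSH] at hstep
    rw [← hstep, ← inf_of_le_left hHK, inf_assoc, ih hne', ← inf_assoc]

/-- The point stabilizer of a subnormal subgroup, read off from the centre of the whole Sylow subgroup. -/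
theorem pointStabilizer_eq (hloc : Cfsg.IsOfLocalCharacteristic p G) (T : Sylow p G) {L : Subgroup G}
    (hL : L.IsSubnormal) :
    Cfsg.pointStabilizer p L ((T : Subgroup G) ⊓ L) =
      Subgroup.closure {x : G | x ∈ L ⊓ Subgroup.centralizer (omegaZ p (T : Subgroup G) : Set G) ∧
        ∃ k : ℕ, orderOf x = p ^ k} := by
  by_cases hne : (T : Subgroup G) ⊓ L = ⊥
  · have h1 : ∀ x ∈ L, (∃ k : ℕ, orderOf x = p ^ k) → x = 1 := by
      rintro x hx ⟨k, hk⟩
      rcases Nat.eq_zero_or_pos k with h0 | h0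
      · rwa [h0, pow_zero, orderOf_eq_one_iff] at hk
      · exfalso
        have hn := not_dvd_relIndex_of_isSubnormal T hL
        rw [← Subgroup.inf_relIndex_right, hne, Subgroup.relIndex_bot_left] at hn
        refine hn ((dvd_pow_self p h0.ne').trans ?_)
        rw [← hk, ← Subgroup.orderOf_mk x hx]
        exact orderOf_dvd_natCard _
    refine le_antisymm ((Subgroup.closure_le _).mpr ?_) ((Subgroup.closure_le _).mpr ?_)
    · rintro x ⟨hx, hk⟩
      rw [h1 x hx.1 hk]
      exact Subgroup.one_mem _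
    · rintro x ⟨hx, hk⟩
      rw [h1 x hx.1 hk]
      exact Subgroup.one_mem _
  · show Subgroup.closure {x : G | x ∈ L ⊓ Subgroup.centralizer (omegaZ p ((T : Subgroup G) ⊓ L) : Set G) ∧
        ∃ k : ℕ, orderOf x = p ^ k} = _
    rw [← kieler_local hloc T hL hne]

/-- The point stabilizer of a join of two subnormal subgroups. -/
theorem pointStabilizer_sup (hloc : Cfsg.IsOfLocalCharacteristic p G) (T : Sylow p G)
    {L₁ L₂ : Subgroup G} (h₁ : L₁.IsSubnormal) (h₂ : L₂.IsSubnormal) :
    Cfsg.pointStabilizer p (L₁ ⊔ L₂) ((T : Subgroup G) ⊓ (L₁ ⊔ L₂)) =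
      Cfsg.pointStabilizer p L₁ ((T : Subgroup G) ⊓ L₁) ⊔ Cfsg.pointStabilizer p L₂ ((T : Subgroup G) ⊓ L₂) := by
  have h12 := Core.isSubnormal_sup h₁ h₂
  rw [pointStabilizer_eq hloc T h12, pointStabilizer_eq hloc T h₁, pointStabilizer_eq hloc T h₂]
  set C := Subgroup.centralizer (omegaZ p (T : Subgroup G) : Set G) with hC
  set P : Subgroup G → Subgroup G := fun L =>
    Subgroup.closure {x : G | x ∈ L ⊓ C ∧ ∃ k : ℕ, orderOf x = p ^ k} with hP
  set J := P L₁ ⊔ P L₂ with hJ
  show P (L₁ ⊔ L₂) = J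
  have hTC : (T : Subgroup G) ≤ C :=
    Subgroup.le_centralizer_iff.mp ((omegaOne_le _).trans inf_le_right)
  have hPle : ∀ L, P L ≤ L ⊓ C := fun L => (Subgroup.closure_le _).mpr fun x hx => hx.1
  have hmono : ∀ L L' : Subgroup G, L ≤ L' → P L ≤ P L' := fun L L' h =>
    Subgroup.closure_mono fun x hx => ⟨⟨h hx.1.1, hx.1.2⟩, hx.2⟩
  refine le_antisymm ?_ (sup_le (hmono _ _ le_sup_left) (hmono _ _ le_sup_right))
  have hJX : J ≤ (L₁ ⊔ L₂) ⊓ C :=
    sup_le ((hPle _).trans (inf_le_inf_right _ le_sup_left)) ((hPle _).trans (inf_le_inf_right _ le_sup_right))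
  -- `J` is subnormal in `C`
  have hPn : ∀ L : Subgroup G, L.IsSubnormal → ((P L).subgroupOf C).IsSubnormal := by
    intro L hL
    refine Subgroup.IsSubnormal.step _ ((L ⊓ C).subgroupOf C)
      (fun x hx => hPle L hx) ?_ ?_
    · rw [Subgroup.inf_subgroupOf_right]
      exact hL.subgroupOf
    · refine Subgroup.normal_subgroupOf_of_le_normalizer ?_
      intro g hg
      rw [← Subgroup.subgroupOf_normalizer_eq ((hPle L).trans inf_le_right), Subgroup.mem_subgroupOf,
        ← cj_eq_self_iff]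
      refine Subgroup.eq_of_le_of_card_ge ?_ (card_cj _ _).ge
      rw [cj, hP, MonoidHom.map_closure]
      refine Subgroup.closure_mono ?_
      rintro _ ⟨x, ⟨hx, k, hk⟩, rfl⟩
      refine ⟨(L ⊓ C).mul_mem ((L ⊓ C).mul_mem hg hx) ((L ⊓ C).inv_mem hg), k, ?_⟩
      rw [← hk]
      exact orderOf_injective (MulAut.conj (g : G)).toMonoidHom (MulAut.conj (g : G)).injective x
  have hJC : (J.subgroupOf C).IsSubnormal := by
    rw [hJ, Subgroup.subgroupOf_sup ((hPle _).trans inf_le_right) ((hPle _).trans inf_le_right)]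
    exact Core.isSubnormal_sup (hPn _ h₁) (hPn _ h₂)
  -- `J` contains a Sylow `p`-subgroup of `(L₁ ⊔ L₂) ⊓ C`
  have hTJ : (T : Subgroup G) ⊓ ((L₁ ⊔ L₂) ⊓ C) ≤ J := by
    refine le_trans ?_ (sup_le ?_ ?_ : (L₁ ⊓ (T : Subgroup G)) ⊔ (L₂ ⊓ (T : Subgroup G)) ≤ J)
    · rw [← sylow_sup_subnormal T h₁ h₂]
      exact le_inf (inf_le_right.trans inf_le_left) inf_le_left
    · refine le_trans (fun x hx => ?_) (le_sup_left (a := P L₁) (b := P L₂))
      obtain ⟨k, hk⟩ := IsPGroup.iff_orderOf.mp T.isPGroup' ⟨x, hx.2⟩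
      rw [Subgroup.orderOf_mk] at hk
      exact Subgroup.subset_closure ⟨⟨hx.1, hTC hx.2⟩, k, hk⟩
    · refine le_trans (fun x hx => ?_) (le_sup_right (a := P L₁) (b := P L₂))
      obtain ⟨k, hk⟩ := IsPGroup.iff_orderOf.mp T.isPGroup' ⟨x, hx.2⟩
      rw [Subgroup.orderOf_mk] at hk
      exact Subgroup.subset_closure ⟨⟨hx.1, hTC hx.2⟩, k, hk⟩
  have hidx : ¬ p ∣ J.relIndex ((L₁ ⊔ L₂) ⊓ C) := by
    have hn := not_dvd_relIndex_of_isSubnormal (T.subtype hTC) (h12.subgroupOf (K := C))
    rw [← Subgroup.inf_subgroupOf_right, Sylow.coe_subtype, Subgroup.relIndex_subgroupOf inf_le_right] at hn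
    intro h
    apply hn
    refine h.trans ?_
    rw [← Subgroup.inf_relIndex_right (T : Subgroup G)]
    exact Subgroup.relIndex_dvd_of_le_left _ hTJ
  refine (Subgroup.closure_le _).mpr ?_
  rintro x ⟨hx, k, hk⟩
  set X := (L₁ ⊔ L₂) ⊓ C with hX
  have hsub : (J.subgroupOf X).IsSubnormal := by
    have h := (hJC.subgroupOf (K := X.subgroupOf C)).map
      (f := (Subgroup.subgroupOfEquivOfLe (inf_le_right : X ≤ C)).toMonoidHom)
      (Subgroup.subgroupOfEquivOfLe (inf_le_right : X ≤ C)).surjective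
    convert h using 1
    ext y
    constructor
    · intro hy
      exact ⟨⟨⟨y.1, y.2.2⟩, y.2⟩, hy, rfl⟩
    · rintro ⟨z, hz, rfl⟩
      exact hz
  exact mem_of_isSubnormal_index hsub hidx (x := (⟨x, hx⟩ : ↥X)) ⟨k, by rw [Subgroup.orderOf_mk, hk]⟩

end Cfsg.Agent.Components.PointStab
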