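import Cfsg.Agent.Components.PushingUpPSL
import Cfsg.Agent.LocalEven.CentrallyLargePush

/-!
# Minimal centrally large subgroups in the pushing-up situation
-/

set_option autoImplicit false
set_option linter.unusedSectionVars false
set_option linter.style.haveILetI false
set_option linter.unusedVariables false

namespace Cfsg.Agent.Components.PushingUpPSL

open Cfsg Cfsg.Agent Subgroup UnipotentPairs
open Cfsg.Agent.LocalEven.CD (cz)
open scoped commutatorElement

/-- The data of a pushing-up situation as a `Setup`. -/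
theorem exists_setup_of_situation {G : Type*} [Group G] [Finite G] {p : ℕ} [Fact p.Prime]
    {S : Subgroup G} (hE : IsPushingUpSituation p S) :
    ∃ (F : Type) (_ : Field F) (_ : Fintype F) (σ : Setup p G F), (σ.S : Subgroup G) = S := by
  obtain ⟨-, ⟨P, hP⟩, h1, h2, K, _, F, _, _, n, hF, h3⟩ := hE
  rcases Nat.eq_zero_or_pos n with rfl | hn
  · exact absurd hF (by rw [pow_zero]; exact (Fintype.one_lt_card (α := F)).ne')
  subst hP
  obtain ⟨σ, hσ⟩ := exists_setup P h1 h2 K F n hn hF h3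
  exact ⟨F, inferInstance, inferInstance, σ, by rw [hσ]⟩

variable {G : Type*} [Group G] [Finite G] {p : ℕ} [Fact p.Prime]
  {F : Type} [Field F] [Fintype F] (σ : Setup p G F)

namespace Setup

/-- `O_p(G)` inside the Sylow subgroup. -/
abbrev OS : Subgroup ↥(σ.S : Subgroup G) := (pCore p G).subgroupOf (σ.S : Subgroup G)

/-- `⟨Z(S) ^ G⟩` inside the Sylow subgroup. -/
abbrev VS : Subgroup ↥(σ.S : Subgroup G) := σ.V.subgroupOf (σ.S : Subgroup G)

theorem not_normal_sylow : ¬ (σ.S : Subgroup G).Normal := by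
  intro h
  have hle : (σ.S : Subgroup G) ≤ σ.π.ker :=
    (Core.le_pCore h σ.S.isPGroup').trans σ.core_le_ker
  have h1 := card_upper (F := F)
  rw [← σ.hS, (Subgroup.map_eq_bot_iff _).2 hle, Subgroup.card_bot,
    Nat.card_eq_fintype_card] at h1
  exact absurd h1 (Fintype.one_lt_card (α := F)).ne

theorem main_of (hJ : (σ.S : Subgroup G) ≤ centralizer (σ.D : Set G))
    (hZ : ¬ σ.Z ≤ center G) : σ.Main := by
  rcases σ.split with h | h | h
  · exact absurd h hZ
  · have e : σ.Jt = (σ.S : Subgroup G) := inf_eq_left.2 hJ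
    exact absurd (e ▸ h) σ.not_normal_sylow
  · exact h

theorem VS_le_OS : σ.VS ≤ σ.OS := fun _ hx => (σ.V_le hx).1

theorem VS_le_cz : σ.VS ≤ cz σ.OS := fun _ hx y hy =>
  Subtype.ext ((σ.V_le hx).2 _ hy)

theorem map_VS_inf_cz (X : Subgroup ↥(σ.S : Subgroup G)) :
    (σ.VS ⊓ cz X).map (σ.S : Subgroup G).subtype =
      σ.V ⊓ centralizer ((X.map (σ.S : Subgroup G).subtype : Subgroup G) : Set G) := by
  refine le_antisymm ?_ fun v hv => ?_
  · rintro _ ⟨x, hx, rfl⟩
    refine ⟨hx.1, ?_⟩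
    rintro _ ⟨y, hy, rfl⟩
    exact congrArg Subtype.val (hx.2 y hy)
  · exact ⟨⟨v, σ.V_le_S hv.1⟩, ⟨hv.1, fun y hy => Subtype.ext (hv.2 _ ⟨y, hy, rfl⟩)⟩, rfl⟩

theorem bound (h : σ.Main) (X : Subgroup ↥(σ.S : Subgroup G)) :
    Nat.card X * Nat.card ↥(σ.VS ⊓ cz X) ≤ Nat.card ↥(X ⊓ σ.OS) * Nat.card σ.VS := by
  set Xm := X.map (σ.S : Subgroup G).subtype with hXm
  have hX : Xm ≤ (σ.S : Subgroup G) := Subgroup.map_subtype_le X
  have hi := (σ.S : Subgroup G).subtype_injective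
  have c1 : Nat.card X = Nat.card Xm := (Subgroup.card_map_of_injective hi).symm
  have c2 : Nat.card ↥(σ.VS ⊓ cz X) = Nat.card ↥(σ.V ⊓ centralizer (Xm : Set G)) := by
    rw [← σ.map_VS_inf_cz X, Subgroup.card_map_of_injective hi]
  have c3 : Nat.card ↥(X ⊓ σ.OS) = Nat.card ↥(Xm ⊓ pCore p G) := by
    rw [← Subgroup.card_map_of_injective (K := X ⊓ σ.OS) hi, Subgroup.map_inf _ _ _ hi,
      Subgroup.map_subgroupOf_eq_of_le σ.core_le]
  have c4 : Nat.card σ.VS = Nat.card σ.V :=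
    Nat.card_congr (Subgroup.subgroupOfEquivOfLe σ.V_le_S).toEquiv
  rw [c1, c2, c3, c4]
  have e := PLocal.card_sup_mul_card_inf (show Xm ≤ normalizer ((pCore p G : Subgroup G) : Set G) by
    rw [Subgroup.normalizer_eq_top]; exact le_top)
  have b := σ.off_le h.hZ (R := Xm ⊔ pCore p G) le_sup_right (sup_le hX σ.core_le)
  have hc : σ.V ⊓ centralizer (Xm : Set G) ≤
      σ.V ⊓ centralizer ((Xm ⊔ pCore p G : Subgroup G) : Set G) := by
    refine le_inf inf_le_left ?_
    rw [le_centralizer_iff]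
    exact sup_le (le_centralizer_iff.1 inf_le_right)
      (le_centralizer_iff.1 ((inf_le_left.trans σ.V_le).trans inf_le_right))
  refine Nat.le_of_mul_le_mul_right ?_ (Nat.card_pos : 0 < Nat.card (pCore p G))
  calc Nat.card Xm * Nat.card ↥(σ.V ⊓ centralizer (Xm : Set G)) * Nat.card (pCore p G)
      = Nat.card ↥(Xm ⊔ pCore p G) * Nat.card ↥(σ.V ⊓ centralizer (Xm : Set G)) *
          Nat.card ↥(Xm ⊓ pCore p G) := by
        rw [mul_right_comm, ← e]; ring
    _ ≤ Nat.card (pCore p G) * Nat.card σ.V * Nat.card ↥(Xm ⊓ pCore p G) :=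
        Nat.mul_le_mul_right _ (le_trans (Nat.mul_le_mul_left _ (Subgroup.card_le_of_le hc)) b)
    _ = _ := by ring

theorem pow_V_mem (hJ : (σ.S : Subgroup G) ≤ centralizer (σ.D : Set G)) {v : G} (hv : v ∈ σ.V) :
    v ^ p ∈ powerClosure p 1 σ.Z := by
  haveI hT : (powerClosure p 1 σ.Z).Normal := by
    rcases σ.power_case with h | h
    · exact h
    · exact absurd (show (σ.S : Subgroup G).Normal from
        (show σ.Jt = (σ.S : Subgroup G) from inf_eq_left.2 hJ) ▸ h) σ.not_normal_sylow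
  have hVn : σ.V.Normal := inferInstance
  let W : Subgroup G :=
    { carrier := {x | x ∈ σ.V ∧ x ^ p ∈ powerClosure p 1 σ.Z}
      one_mem' := ⟨one_mem _, by rw [one_pow]; exact one_mem _⟩
      mul_mem' := fun {a b} ha hb => ⟨mul_mem ha.1 hb.1, by
        rw [(show Commute a b from σ.V_comm a ha.1 b hb.1).mul_pow]
        exact mul_mem ha.2 hb.2⟩
      inv_mem' := fun {a} ha => ⟨inv_mem ha.1, by rw [inv_pow]; exact inv_mem ha.2⟩ }
  haveI : W.Normal := ⟨fun a ha g => ⟨hVn.conj_mem a ha.1 g, by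
    rw [conj_pow]; exact hT.conj_mem _ ha.2 g⟩⟩
  exact ((normalClosure_le_normal (N := W) fun z hz =>
    ⟨σ.Z_le_V hz, LocalEven.CD.pow_mem_powerClosure hz⟩) hv).2

theorem pow_VS_mem (hJ : (σ.S : Subgroup G) ≤ centralizer (σ.D : Set G)) :
    ∀ v ∈ σ.VS, v ^ p ∈ powerClosure p 1 (center ↥(σ.S : Subgroup G)) := by
  intro v hv
  have hle : powerClosure p 1 σ.Z ≤
      (powerClosure p 1 (center ↥(σ.S : Subgroup G))).map (σ.S : Subgroup G).subtype := by
    refine LocalEven.CD.powerClosure_le fun z hz => ?_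
    refine ⟨(⟨z, hz.1⟩ : ↥(σ.S : Subgroup G)) ^ p, LocalEven.CD.pow_mem_powerClosure ?_, rfl⟩
    exact Subgroup.mem_center_iff.2 fun y => Subtype.ext (hz.2 _ y.2)
  obtain ⟨w, hw, e⟩ := hle (σ.pow_V_mem hJ hv)
  rwa [show v ^ p = w from Subtype.ext (by simpa using e.symm)]

/-- Conjugation by an element of `G`, from `O_p(G)` into the Sylow subgroup. -/
def conjHom (g : G) : ↥σ.OS →* ↥(σ.S : Subgroup G) where
  toFun x := ⟨g * ((x : ↥(σ.S : Subgroup G)) : G) * g⁻¹,
    σ.core_le ((inferInstance : (pCore p G).Normal).conj_mem _ x.2 g)⟩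
  map_one' := Subtype.ext (by simp)
  map_mul' x y := Subtype.ext (by simp [mul_assoc])

theorem conjHom_injective (g : G) : Function.Injective (σ.conjHom g) := by
  intro x y h
  have h' : g * ((x : ↥(σ.S : Subgroup G)) : G) * g⁻¹ = g * ((y : ↥(σ.S : Subgroup G)) : G) * g⁻¹ :=
    congrArg Subtype.val h
  exact Subtype.ext (Subtype.ext (mul_left_cancel (mul_right_cancel h')))

/-- The conjugate of a subgroup of `O_p(G)`, inside the Sylow subgroup. -/
noncomputable def conjSub (g : G) (Q : Subgroup ↥(σ.S : Subgroup G)) :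
    Subgroup ↥(σ.S : Subgroup G) := (Q.subgroupOf σ.OS).map (σ.conjHom g)

theorem conjSub_le (g : G) (Q : Subgroup ↥(σ.S : Subgroup G)) : σ.conjSub g Q ≤ σ.OS := by
  rintro _ ⟨x, -, rfl⟩
  exact (inferInstance : (pCore p G).Normal).conj_mem _ x.2 g

theorem map_conjSub (g : G) {Q : Subgroup ↥(σ.S : Subgroup G)} (hQ : Q ≤ σ.OS) :
    (σ.conjSub g Q).map (σ.S : Subgroup G).subtype =
      (Q.map (σ.S : Subgroup G).subtype).map (MulAut.conj g).toMonoidHom := by
  have e : (σ.S : Subgroup G).subtype.comp (σ.conjHom g) =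
      ((MulAut.conj g).toMonoidHom.comp (σ.S : Subgroup G).subtype).comp σ.OS.subtype :=
    MonoidHom.ext fun x => rfl
  rw [conjSub, Subgroup.map_map, e, ← Subgroup.map_map, ← Subgroup.map_map,
    Subgroup.map_subgroupOf_eq_of_le hQ]

theorem mcl_conjSub (g : G) {Q : Subgroup ↥(σ.S : Subgroup G)} (hQ : Q ≤ σ.OS)
    (h : IsMinimalCentrallyLarge Q) : IsMinimalCentrallyLarge (σ.conjSub g Q) :=
  LocalEven.CD.mcl_transport (ι₁ := σ.OS.subtype) σ.OS.subtype_injective (σ.conjHom_injective g)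
    (by rwa [Subgroup.map_subgroupOf_eq_of_le hQ])

theorem card_omega_conjSub (g : G) {Q : Subgroup ↥(σ.S : Subgroup G)} (hQ : Q ≤ σ.OS) :
    Nat.card (omegaOneCenter p (σ.conjSub g Q)) = Nat.card (omegaOneCenter p Q) := by
  have h := LocalEven.CD.card_omega_transport (ι₁ := σ.OS.subtype) (ι₂ := σ.conjHom g)
    σ.OS.subtype_injective (σ.conjHom_injective g) p (Q.subgroupOf σ.OS)
  rwa [Subgroup.map_subgroupOf_eq_of_le hQ] at h

theorem map_frattini (Q : Subgroup ↥(σ.S : Subgroup G)) :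
    ((frattini Q).map Q.subtype).map (σ.S : Subgroup G).subtype =
      ⁅Q.map (σ.S : Subgroup G).subtype, Q.map (σ.S : Subgroup G).subtype⁆ ⊔
        powerClosure p 1 (Q.map (σ.S : Subgroup G).subtype) := by
  rw [LocalEven.CD.frattini_map_eq (σ.S.isPGroup'.to_subgroup Q), Subgroup.map_sup,
    Subgroup.map_commutator]
  refine congrArg _ ?_
  unfold powerClosure
  rw [MonoidHom.map_closure]
  refine congrArg _ ?_
  ext y
  constructor
  · rintro ⟨_, ⟨x, hx, rfl⟩, rfl⟩
    exact ⟨x, ⟨x, hx, rfl⟩, by simp⟩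
  · rintro ⟨_, ⟨x, hx, rfl⟩, rfl⟩
    exact ⟨_, ⟨x, hx, rfl⟩, by simp⟩

theorem map_frattini_conjSub (g : G) {Q : Subgroup ↥(σ.S : Subgroup G)} (hQ : Q ≤ σ.OS) :
    ((frattini (σ.conjSub g Q)).map (σ.conjSub g Q).subtype).map (σ.S : Subgroup G).subtype =
      (((frattini Q).map Q.subtype).map (σ.S : Subgroup G).subtype).map
        (MulAut.conj g).toMonoidHom := by
  rw [σ.map_frattini, σ.map_frattini, σ.map_conjSub g hQ, Subgroup.map_sup,
    Subgroup.map_commutator]
  refine congrArg _ ?_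
  unfold powerClosure
  rw [MonoidHom.map_closure]
  refine congrArg _ ?_
  ext y
  constructor
  · rintro ⟨_, ⟨x, hx, rfl⟩, rfl⟩
    exact ⟨_, ⟨x, hx, rfl⟩, by simp only [map_pow]⟩
  · rintro ⟨_, ⟨x, hx, rfl⟩, rfl⟩
    exact ⟨_, ⟨x, hx, rfl⟩, by simp only [map_pow]⟩

/-- A subgroup mapped into itself by every conjugation is normal. -/
theorem normal_of_map_conj {X : Subgroup G}
    (h : ∀ g : G, X.map (MulAut.conj g).toMonoidHom ≤ X) : X.Normal :=
  ⟨fun x hx g => h g ⟨x, hx, by simp⟩⟩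

/-- `S_Φ` is normal. -/
theorem frattiniJoin_normal (hJ : (σ.S : Subgroup G) ≤ centralizer (σ.D : Set G)) :
    σ.Z.Normal ∨
      ((frattiniOfMinimalCLJoin p ↥(σ.S : Subgroup G)).map (σ.S : Subgroup G).subtype).Normal := by
  by_cases hZ : σ.Z ≤ center G
  · exact Or.inl (normal_of_le_center' hZ)
  have h := σ.main_of hJ hZ
  refine Or.inr (normal_of_map_conj fun g => ?_)
  rw [frattiniOfMinimalCLJoin, Subgroup.map_iSup, Subgroup.map_iSup]
  refine iSup_le fun Q => ?_
  obtain ⟨Q', hQ', hO, hmax, he⟩ := LocalEven.CD.exists_push_frattini σ.S.isPGroup' σ.VS_le_OS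
    σ.VS_le_cz (σ.bound h) (σ.pow_VS_mem hJ) Q.2.1 Q.2.2
  rw [← he, ← σ.map_frattini_conjSub g hO]
  exact le_iSup (fun R : {R : Subgroup ↥(σ.S : Subgroup G) // IsMinimalCentrallyLarge R ∧
      Nat.card ↥(omegaOneCenter p R) = maxOmegaCenterOfMinimalCL p ↥(σ.S : Subgroup G)} =>
      ((frattini R.1).map R.1.subtype).map (σ.S : Subgroup G).subtype)
    ⟨σ.conjSub g Q', σ.mcl_conjSub g hO hQ', by rw [σ.card_omega_conjSub g hO, hmax]⟩

/-- The second alternative for the derived subgroup of a minimal centrally large subgroup. -/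
theorem commutator_normal (hJ : (σ.S : Subgroup G) ≤ centralizer (σ.D : Set G))
    {Q : Subgroup ↥(σ.S : Subgroup G)} (hQ : IsMinimalCentrallyLarge Q) :
    (σ.Z ⊓ (⁅Q, Q⁆).map (σ.S : Subgroup G).subtype).Normal ∨
      ((minimalCentrallyLargeJoin ↥(σ.S : Subgroup G)).map (σ.S : Subgroup G).subtype).Normal := by
  by_cases hZ : σ.Z ≤ center G
  · exact Or.inl (normal_of_le_center' (inf_le_left.trans hZ))
  have h := σ.main_of hJ hZ
  set C := (⁅Q, Q⁆).map (σ.S : Subgroup G).subtype with hC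
  obtain ⟨Q', hQ', hO, -⟩ := LocalEven.CD.exists_push σ.VS_le_OS σ.VS_le_cz (σ.bound h) hQ
  haveI hCn : C.Normal := by
    refine normal_of_map_conj fun g => le_of_eq ?_
    rw [hC, LocalEven.CD.mcl_commutator_eq hQ hQ', Subgroup.map_commutator,
      Subgroup.map_commutator, ← σ.map_conjSub g hO, ← Subgroup.map_commutator,
      LocalEven.CD.mcl_commutator_eq (σ.mcl_conjSub g hO hQ') hQ', Subgroup.map_commutator]
  set X := σ.V ⊓ C with hX
  haveI : X.Normal := Subgroup.normal_inf_normal _ _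
  have hQX : ∀ R : Subgroup ↥(σ.S : Subgroup G), IsMinimalCentrallyLarge R →
      R.map (σ.S : Subgroup G).subtype ≤ centralizer (X : Set G) := by
    rintro R hR _ ⟨y, hy, rfl⟩ x ⟨hxV, x', hx', rfl⟩
    rw [LocalEven.CD.mcl_commutator_eq hQ hR] at hx'
    exact congrArg Subtype.val
      (LocalEven.CD.inf_commutator_le_cz σ.VS_le_OS σ.VS_le_cz (σ.bound h) hR ⟨hxV, hx'⟩ y hy).symm
  rcases σ.dich (centralizer (X : Set G)) with hd | hd
  · have hle : σ.Z ⊓ C ≤ X := fun x hx => ⟨σ.Z_le_V hx.1, hx.2⟩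
    refine Or.inl (normal_of_le_center' (le_center_of_sup (le_centralizer_iff.1
      (Subgroup.centralizer_le (show ((σ.Z ⊓ C : Subgroup G) : Set G) ⊆ X from hle))) ?_ hd))
    exact inf_le_left.trans inf_le_right
  · refine Or.inr (normal_of_map_conj fun g => ?_)
    rw [minimalCentrallyLargeJoin, sSup_eq_iSup', Subgroup.map_iSup, Subgroup.map_iSup]
    refine iSup_le fun R => ?_
    have hRO : (R : Subgroup ↥(σ.S : Subgroup G)) ≤ σ.OS := fun y hy =>
      hd (show (y : G) ∈ (σ.S : Subgroup G) ⊓ centralizer (X : Set G) from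
        ⟨y.2, hQX R R.2 ⟨y, hy, rfl⟩⟩)
    rw [← σ.map_conjSub g hRO]
    exact le_iSup (fun T : {T : Subgroup ↥(σ.S : Subgroup G) | IsMinimalCentrallyLarge T} =>
      (T : Subgroup ↥(σ.S : Subgroup G)).map (σ.S : Subgroup G).subtype)
      ⟨σ.conjSub g R, σ.mcl_conjSub g hRO R.2⟩

end Setup

end Cfsg.Agent.Components.PushingUpPSL
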