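import Cfsg.Agent.Components.UnipotentPairs
import Cfsg.Agent.FusionZJ.Offender
import Cfsg.Agent.FGS2.MaxCentralizer
import Cfsg.Agent.PLocal.ZJ
import Cfsg.Agent.Transfer.Average
import Mathlib.GroupTheory.IsPerfect

/-!
# Pushing up a Sylow subgroup when the top section is `PSL₂`
-/

set_option autoImplicit false
set_option linter.unusedSectionVars false

namespace Cfsg.Agent.Components.PushingUpPSL

open Cfsg Cfsg.Agent Subgroup UnipotentPairs
open scoped commutatorElement Pointwise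

variable {G : Type*} [Group G]

theorem mem_normalizer_of_le [Finite G] {X : Subgroup G} {g : G}
    (h : ∀ x ∈ X, g * x * g⁻¹ ∈ X) : g ∈ normalizer (X : Set G) := by
  refine Subgroup.mem_normalizer_iff_map_conj_eq.mpr (eq_of_le_of_card_ge ?_ ?_)
  · rintro _ ⟨x, hx, rfl⟩
    exact h x hx
  · rw [Subgroup.card_map_of_injective (MulAut.conj g).injective]

theorem normal_of_le_center' {X : Subgroup G} (h : X ≤ center G) : X.Normal :=
  ⟨fun x hx g => by rw [Subgroup.mem_center_iff.1 (h hx) g, mul_inv_cancel_right]; exact hx⟩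

theorem le_center_of_sup {X H₁ H₂ : Subgroup G} (h₁ : X ≤ centralizer (H₁ : Set G))
    (h₂ : X ≤ centralizer (H₂ : Set G)) (h : H₁ ⊔ H₂ = ⊤) : X ≤ center G := by
  intro x hx
  refine Subgroup.mem_center_iff.2 fun g => ?_
  have : (⊤ : Subgroup G) ≤ centralizer (X : Set G) :=
    h ▸ sup_le (le_centralizer_iff.1 h₁) (le_centralizer_iff.1 h₂)
  exact (this (Subgroup.mem_top g) x hx).symm

theorem centerThompsonA_le_maxAb [Finite G] {P B : Subgroup G} (h : FusionZJ.IsMaxAb P B) :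
    centerThompsonAOf P ≤ B := by
  intro x hx
  have hJ : B ≤ thompsonSubgroupAOf P := FusionZJ.le_thompsonA h
  have hle : B ⊔ zpowers x ≤ P :=
    sup_le h.le (zpowers_le.2 (PLocal.centerThompsonAOf_le P hx))
  have hab := FusionZJ.sup_comm_of (K := B) (L := zpowers x) h.comm
    (fun a ha b hb => congrArg Subtype.val (mul_comm' (⟨a, ha⟩ : zpowers x) ⟨b, hb⟩))
    (fun a ha b hb => by
      obtain ⟨i, rfl⟩ := mem_zpowers_iff.1 hb
      exact ((show Commute a x from (Subgroup.mem_inf.1 hx).2 a (hJ ha)).zpow_right i).eq)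
  exact (eq_of_le_of_card_ge le_sup_left (h.max _ hle hab)).symm ▸ mem_sup_right (mem_zpowers x)

theorem conj_mem_thompsonA {P : Subgroup G} {g : G} (hg : g ∈ normalizer (P : Set G)) {x : G}
    (hx : x ∈ thompsonSubgroupAOf P) : g * x * g⁻¹ ∈ thompsonSubgroupAOf P := by
  have hle : thompsonSubgroupAOf P ≤
      (thompsonSubgroupAOf P).comap (MulAut.conj g).toMonoidHom := by
    refine FusionZJ.thompsonA_le fun B hB => ?_
    rw [← Subgroup.map_le_iff_le_comap]
    refine FusionZJ.le_thompsonA ⟨?_, ?_, fun C h1 h2 => ?_⟩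
    · rintro _ ⟨b, hb, rfl⟩
      exact (Subgroup.mem_normalizer_iff.1 hg b).1 (hB.le hb)
    · rintro _ ⟨a, ha, rfl⟩ _ ⟨b, hb, rfl⟩
      rw [← map_mul, ← map_mul, hB.comm a ha b hb]
    · rw [Subgroup.card_map_of_injective (MulAut.conj g).injective]
      exact hB.max C h1 h2
  exact hle hx

theorem conj_mem_centerThompsonA {P : Subgroup G} {g : G} (hg : g ∈ normalizer (P : Set G)) {x : G}
    (hx : x ∈ centerThompsonAOf P) : g * x * g⁻¹ ∈ centerThompsonAOf P := by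
  obtain ⟨h1, h2⟩ := Subgroup.mem_inf.1 hx
  refine ⟨conj_mem_thompsonA hg h1, fun y hy => ?_⟩
  have h3 : g⁻¹ * y * g⁻¹⁻¹ ∈ thompsonSubgroupAOf P := conj_mem_thompsonA (inv_mem hg) hy
  have h4 := h2 _ h3
  calc y * (g * x * g⁻¹) = g * (g⁻¹ * y * g⁻¹⁻¹ * x) * g⁻¹ := by group
    _ = g * (x * (g⁻¹ * y * g⁻¹⁻¹)) * g⁻¹ := by rw [h4]
    _ = g * x * g⁻¹ * y := by group

/-- The elements commuting modulo `C` with `X` form a normal subgroup when `C`, `X` are normal. -/
def commMod (X C : Subgroup G) [C.Normal] : Subgroup G :=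
  (centralizer ((X.map (QuotientGroup.mk' C) : Subgroup (G ⧸ C)) : Set (G ⧸ C))).comap
    (QuotientGroup.mk' C)

theorem mem_commMod {X C : Subgroup G} [C.Normal] {g : G} :
    g ∈ commMod X C ↔ ∀ x ∈ X, ⁅x, g⁆ ∈ C := by
  constructor
  · intro h x hx
    rw [← QuotientGroup.eq_one_iff]
    have h1 := h _ ⟨x, hx, rfl⟩
    change (QuotientGroup.mk' C) ⁅x, g⁆ = 1
    rw [map_commutatorElement, commutatorElement_eq_one_iff_mul_comm]
    exact h1
  · rintro h _ ⟨x, hx, rfl⟩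
    refine commutatorElement_eq_one_iff_mul_comm.1 ?_
    rw [← map_commutatorElement]
    exact (QuotientGroup.eq_one_iff _).2 (h x hx)

theorem commMod_normal {X C : Subgroup G} [C.Normal] (hX : X.Normal) : (commMod X C).Normal := by
  haveI : (X.map (QuotientGroup.mk' C)).Normal := hX.map _ (QuotientGroup.mk'_surjective C)
  exact Subgroup.Normal.comap inferInstance _

/-- A generated abelian-quotient criterion for a Sylow subgroup. -/
theorem sylow_le_of_split {H : Type*} [Group H] [Finite H] {p : ℕ} [Fact p.Prime] (T : Sylow p H)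
    (hT : IsMulCommutative T) {J : Subgroup H} (hJ : J ≤ T)
    (hgen : ∀ x : H, ∃ j ∈ J, ∃ c ∈ commutator H, x = j * c)
    (hN : ∀ n ∈ normalizer (T : Set H), ∀ j ∈ J, n * j * n⁻¹ ∈ J)
    (hsplit : ∀ t ∈ (T : Subgroup H), ∃ j ∈ J, ∃ z ∈ center H, t = j * z) :
    (T : Subgroup H) ≤ J := by
  have hfoc : (T : Subgroup H).focalSubgroup ≤ J := by
    rw [Transfer.focalSubgroup_eq_commutator_of_abelian T hT, commutator_le]
    intro t ht n hn
    obtain ⟨j, hj, z, hz, rfl⟩ := hsplit t ht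
    have e1 : z * n * z⁻¹ = n := by rw [(Subgroup.mem_center_iff.1 hz n).symm]; group
    have e2 : ⁅j * z, n⁆ = j * (n * j⁻¹ * n⁻¹) := by
      calc ⁅j * z, n⁆ = j * (z * n * z⁻¹) * j⁻¹ * n⁻¹ := by rw [commutatorElement_def]; group
        _ = _ := by rw [e1]; group
    rw [e2]
    exact mul_mem hj (hN n hn _ (inv_mem hj))
  intro t ht
  obtain ⟨j, hj, c, hc, rfl⟩ := hgen t
  have hcT : c ∈ (T : Subgroup H) := by
    have := mul_mem (inv_mem (hJ hj)) ht
    simpa [← mul_assoc] using this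
  have hc1 : c ∈ (T : Subgroup H).transferFocal.ker := by
    open scoped IsMulCommutative in
    exact Abelianization.commutator_subset_ker _ hc
  refine mul_mem hj (hfoc ?_)
  rw [← Subgroup.ker_transferFocal_inf_eq_focalSubgroup T]
  exact ⟨hc1, hcT⟩

/-- A Sylow subgroup in a unique maximal subgroup and mapped onto the unipotent group of `PSL₂`. -/
structure Setup (p : ℕ) (G : Type*) [Group G] (F : Type) [Field F] [Fintype F] where
  S : Sylow p G
  n : ℕ
  hn : 1 ≤ n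
  hF : Fintype.card F = p ^ n
  hcen : centralizer (pCore p G : Set G) ≤ pCore p G
  huniq : ∀ H₁ H₂ : Subgroup G, (S : Subgroup G) ≤ H₁ → (S : Subgroup G) ≤ H₂ →
    H₁ ⊔ H₂ = ⊤ → H₁ = ⊤ ∨ H₂ = ⊤
  π : G →* Matrix.ProjectiveSpecialLinearGroup (Fin 2) F
  hπ : Function.Surjective π
  hS : (S : Subgroup G).map π = upper

theorem exists_setup [Finite G] {p : ℕ} [Fact p.Prime] (S : Sylow p G)
    (hE₁ : centralizer (pCore p G : Set G) ≤ pCore p G)
    (hE₂ : ∃! M : Subgroup G, IsCoatom M ∧ (S : Subgroup G) ≤ M) (K : Subgroup G) [K.Normal]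
    (F : Type) [Field F] [Fintype F] (n : ℕ) (hn : 1 ≤ n) (hF : Fintype.card F = p ^ n)
    (hE₃ : Nonempty (G ⧸ K ≃* Matrix.ProjectiveSpecialLinearGroup (Fin 2) F)) :
    ∃ σ : Setup p G F, σ.S = S := by
  obtain ⟨e⟩ := hE₃
  set π₀ := e.toMonoidHom.comp (QuotientGroup.mk' K) with hπ₀
  have hs : Function.Surjective π₀ := e.surjective.comp (QuotientGroup.mk'_surjective K)
  obtain ⟨P, hP⟩ := exists_sylow (p := p) hn hF
  obtain ⟨g, hg⟩ := MulAction.exists_smul_eq (Matrix.ProjectiveSpecialLinearGroup (Fin 2) F)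
    (S.mapSurjective hs) P
  refine ⟨⟨S, n, hn, hF, hE₁, ?_, (MulAut.conj g).toMonoidHom.comp π₀,
    (MulAut.conj g).surjective.comp hs, ?_⟩, rfl⟩
  · intro H₁ H₂ h1 h2 h
    rcases eq_top_or_exists_le_coatom H₁ with h3 | ⟨M₁, hM₁, hle₁⟩
    · exact Or.inl h3
    rcases eq_top_or_exists_le_coatom H₂ with h4 | ⟨M₂, hM₂, hle₂⟩
    · exact Or.inr h4
    have e := hE₂.unique ⟨hM₁, h1.trans hle₁⟩ ⟨hM₂, h2.trans hle₂⟩
    exact absurd (top_le_iff.1 (h ▸ sup_le hle₁ (e ▸ hle₂))) hM₁.1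
  · rw [← hP, ← hg, ← Subgroup.map_map]
    rfl

namespace Setup

variable {p : ℕ} {F : Type} [Field F] [Fintype F] (σ : Setup p G F)

/-- `Z(S)`. -/
abbrev Z : Subgroup G := (σ.S : Subgroup G) ⊓ centralizer ((σ.S : Subgroup G) : Set G)

/-- The normal closure of `Z(S)`. -/
abbrev V : Subgroup G := normalClosure (σ.Z : Set G)

/-- `Z(J(S))`. -/
abbrev D : Subgroup G := centerThompsonAOf (σ.S : Subgroup G)

/-- `C_S(Z(J(S)))`. -/
abbrev Jt : Subgroup G := (σ.S : Subgroup G) ⊓ centralizer (σ.D : Set G)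

variable [Finite G] [Fact p.Prime]

theorem core_le : pCore p G ≤ (σ.S : Subgroup G) := Core.pCore_le_sylow σ.S

theorem dich (N : Subgroup G) [N.Normal] :
    N ⊔ (σ.S : Subgroup G) = ⊤ ∨ (σ.S : Subgroup G) ⊓ N ≤ pCore p G := by
  obtain ⟨T, hT⟩ := PLocal.exists_sylow_inf σ.S N
  have h := Sylow.normalizer_sup_eq_top T
  rw [hT] at h
  set H₂ := normalizer (((σ.S : Subgroup G) ⊓ N : Subgroup G) : Set G) with hH₂
  have hS₂ : (σ.S : Subgroup G) ≤ H₂ := fun s hs => mem_normalizer_of_le fun x hx =>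
    ⟨(σ.S : Subgroup G).mul_mem ((σ.S : Subgroup G).mul_mem hs hx.1)
      ((σ.S : Subgroup G).inv_mem hs), (inferInstance : N.Normal).conj_mem x hx.2 s⟩
  have h' : (N ⊔ (σ.S : Subgroup G)) ⊔ H₂ = ⊤ := by
    rw [eq_top_iff, ← h]
    exact sup_le le_sup_right (le_sup_left.trans le_sup_left)
  rcases σ.huniq _ _ le_sup_right hS₂ h' with h1 | h1
  · exact Or.inl h1
  · exact Or.inr (Core.le_pCore (Subgroup.normalizer_eq_top_iff.1 h1)
      (σ.S.isPGroup'.to_le inf_le_left))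

theorem map_mem_upper {x : G} (hx : x ∈ (σ.S : Subgroup G)) : σ.π x ∈ upper :=
  σ.hS ▸ Subgroup.mem_map_of_mem σ.π hx

theorem sup_ker_ne_top : (σ.S : Subgroup G) ⊔ σ.π.ker ≠ ⊤ := by
  intro h
  have h2 := congrArg (Subgroup.map σ.π) h
  rw [Subgroup.map_sup, (Subgroup.map_eq_bot_iff _).2 le_rfl, sup_bot_eq, σ.hS,
    Subgroup.map_top_of_surjective _ σ.hπ] at h2
  exact upper_ne_top h2

theorem top_of_map {H : Subgroup G} (hS : (σ.S : Subgroup G) ≤ H) (h : H.map σ.π = ⊤) : H = ⊤ := by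
  refine (σ.huniq H ((σ.S : Subgroup G) ⊔ σ.π.ker) hS le_sup_left ?_).resolve_right σ.sup_ker_ne_top
  refine top_le_iff.1 fun g _ => ?_
  obtain ⟨y, hy, hxy⟩ : σ.π g ∈ H.map σ.π := h ▸ Subgroup.mem_top _
  have hk : y⁻¹ * g ∈ σ.π.ker := by
    rw [MonoidHom.mem_ker, map_mul, map_inv, hxy, inv_mul_cancel]
  simpa using mul_mem (mem_sup_left (T := (σ.S : Subgroup G) ⊔ σ.π.ker) hy)
    (mem_sup_right (S := H) (mem_sup_right (S := (σ.S : Subgroup G)) hk))

theorem core_le_ker : pCore p G ≤ σ.π.ker := by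
  intro x hx
  obtain ⟨g, hg⟩ := σ.hπ (proj weyl)
  refine MonoidHom.mem_ker.2 (upper_disjoint_conj (σ.map_mem_upper (σ.core_le hx)) ?_)
  rw [← hg, ← map_inv, ← map_mul, ← map_mul]
  exact σ.map_mem_upper (σ.core_le ((inferInstance : (pCore p G).Normal).conj_mem x hx g))

theorem mem_core_iff {x : G} (hx : x ∈ (σ.S : Subgroup G)) : x ∈ pCore p G ↔ σ.π x = 1 := by
  refine ⟨fun h => σ.core_le_ker h, fun h => ?_⟩
  have h2 := (σ.dich σ.π.ker).resolve_left (by rw [sup_comm]; exact σ.sup_ker_ne_top)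
  exact h2 ⟨hx, h⟩

theorem comm_mem {x y : G} (hx : x ∈ (σ.S : Subgroup G)) (hy : y ∈ (σ.S : Subgroup G)) :
    ⁅x, y⁆ ∈ pCore p G := by
  rw [σ.mem_core_iff (by rw [commutatorElement_def]
                         exact mul_mem (mul_mem (mul_mem hx hy) (inv_mem hx)) (inv_mem hy)),
    map_commutatorElement, commutatorElement_eq_one_iff_mul_comm]
  exact upper_comm (σ.map_mem_upper hx) (σ.map_mem_upper hy)

theorem pow_mem_core {x : G} (hx : x ∈ (σ.S : Subgroup G)) : x ^ p ∈ pCore p G := by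
  rw [σ.mem_core_iff (pow_mem hx p), map_pow]
  obtain ⟨t, ht⟩ := mem_upper.1 (σ.map_mem_upper hx)
  rw [← ht, ← map_pow]
  have : ∀ k : ℕ, up t ^ k = up ((k : F) * t) := by
    intro k
    induction k with
    | zero => simp [up_zero]
    | succ k ih => rw [pow_succ, ih, up_mul]; congr 1; push_cast; ring
  rw [this, prime_cast σ.hF, zero_mul, up_zero, map_one]

theorem conj_mem_of_core_le {R : Subgroup G} (h1 : pCore p G ≤ R) (h2 : R ≤ (σ.S : Subgroup G))
    {s x : G} (hs : s ∈ (σ.S : Subgroup G)) (hx : x ∈ R) : s * x * s⁻¹ ∈ R := by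
  have := mul_mem (h1 (σ.comm_mem hs (h2 hx))) hx
  rwa [commutatorElement_def, inv_mul_cancel_right] at this

theorem card_S : Nat.card (σ.S : Subgroup G) = Nat.card (pCore p G) * Fintype.card F := by
  set f := σ.π.comp (σ.S : Subgroup G).subtype with hf
  have hker : f.ker = (pCore p G).subgroupOf (σ.S : Subgroup G) := by
    ext x
    exact (σ.mem_core_iff x.2).symm
  have hr : f.range = upper := by
    rw [hf, MonoidHom.range_comp, Subgroup.range_subtype, σ.hS]
  rw [← f.ker.card_mul_index, Subgroup.index_ker, hr, card_upper, Nat.card_eq_fintype_card (α := F),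
    hker, Nat.card_congr (Subgroup.subgroupOfEquivOfLe σ.core_le).toEquiv]

theorem gen_conj {h : G} (hh : Gen (σ.π h)) {H : Subgroup G} (hS : (σ.S : Subgroup G) ≤ H)
    (hc : ∀ s ∈ (σ.S : Subgroup G), h * s * h⁻¹ ∈ H) : H = ⊤ := by
  refine σ.top_of_map hS (hh _ (fun t => ?_) fun t => ?_)
  · obtain ⟨x, hx, hxt⟩ : proj (up t) ∈ (σ.S : Subgroup G).map σ.π := σ.hS ▸ ⟨t, rfl⟩
    exact ⟨x, hS hx, hxt⟩
  · obtain ⟨x, hx, hxt⟩ : proj (up t) ∈ (σ.S : Subgroup G).map σ.π := σ.hS ▸ ⟨t, rfl⟩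
    exact ⟨_, hc x hx, by rw [map_mul, map_mul, map_inv, hxt]⟩

theorem exists_torus (a : F) (ha : a ≠ 0) : ∃ g ∈ normalizer ((σ.S : Subgroup G) : Set G),
    ∀ x ∈ (σ.S : Subgroup G), ∀ t, σ.π x = proj (up t) →
      σ.π (g * x * g⁻¹) = proj (up (a * a * t)) := by
  obtain ⟨h, hh⟩ := σ.hπ (proj (dia a ha))
  have key : ∀ x ∈ (σ.S : Subgroup G), ∀ t, σ.π x = proj (up t) →
      σ.π (h * x * h⁻¹) = proj (up (a * a * t)) := by
    intro x _ t hxt
    rw [map_mul, map_mul, map_inv, hxt, hh, ← map_inv, ← map_mul, ← map_mul, dia_up,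
      mul_inv_cancel_right]
  have hle : (((MulAut.conj h) • σ.S : Sylow p G) : Subgroup G) ≤ (σ.S : Subgroup G) ⊔ σ.π.ker := by
    intro y hy
    obtain ⟨x, hx, rfl⟩ := hy
    obtain ⟨t, ht⟩ := mem_upper.1 (σ.map_mem_upper hx)
    obtain ⟨z, hz, hzt⟩ : proj (up (a * a * t)) ∈ (σ.S : Subgroup G).map σ.π :=
      σ.hS ▸ ⟨_, rfl⟩
    have hk : z⁻¹ * (h * x * h⁻¹) ∈ σ.π.ker := by
      rw [MonoidHom.mem_ker, map_mul, map_inv, key x hx t ht.symm, hzt, inv_mul_cancel]
    show h * x * h⁻¹ ∈ _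
    simpa using mul_mem (mem_sup_left (T := σ.π.ker) hz)
      (mem_sup_right (S := (σ.S : Subgroup G)) hk)
  obtain ⟨k, hk⟩ := MulAction.exists_smul_eq ↥((σ.S : Subgroup G) ⊔ σ.π.ker)
    ((h • σ.S).subtype hle) (σ.S.subtype le_sup_left)
  rw [Sylow.smul_subtype] at hk
  have hk' := Sylow.subtype_injective hk
  have hg : (k : G) * h ∈ normalizer ((σ.S : Subgroup G) : Set G) :=
    Sylow.smul_eq_iff_mem_normalizer.1 ((mul_smul (k : G) h σ.S).trans hk')
  refine ⟨_, hg, fun x hx t hxt => ?_⟩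
  have hku : σ.π k ∈ upper := by
    have h1 := Subgroup.mem_map_of_mem σ.π k.2
    rwa [Subgroup.map_sup, (Subgroup.map_eq_bot_iff _).2 le_rfl, sup_bot_eq, σ.hS] at h1
  rw [show (k : G) * h * x * ((k : G) * h)⁻¹ = k * (h * x * h⁻¹) * (k : G)⁻¹ by group,
    map_mul, map_mul, map_inv, key x hx t hxt]
  rw [upper_comm hku ⟨_, rfl⟩, mul_inv_cancel_right]

theorem eq_of_invariant {R : Subgroup G} (h1 : pCore p G ≤ R) (h2 : R ≤ (σ.S : Subgroup G))
    (hinv : ∀ g ∈ normalizer ((σ.S : Subgroup G) : Set G), ∀ x ∈ R, g * x * g⁻¹ ∈ R) :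
    R ≤ pCore p G ∨ R = (σ.S : Subgroup G) := by
  refine or_iff_not_imp_left.2 fun hR => ?_
  let A : AddSubgroup F :=
    { carrier := {t | proj (up t) ∈ R.map σ.π}
      zero_mem' := by simp only [Set.mem_setOf_eq, up_zero, map_one]; exact one_mem _
      add_mem' := fun {s t} hs ht => by
        simp only [Set.mem_setOf_eq, ← up_mul, map_mul]
        exact mul_mem hs ht
      neg_mem' := fun {s} hs => by
        simp only [Set.mem_setOf_eq, ← up_inv, map_inv]
        exact inv_mem hs }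
  have hA : A ≠ ⊥ := by
    obtain ⟨x, hx, hxO⟩ := SetLike.not_le_iff_exists.1 hR
    obtain ⟨t, ht⟩ := mem_upper.1 (σ.map_mem_upper (h2 hx))
    intro h
    have htA : t ∈ A := ⟨x, hx, ht.symm⟩
    rw [h, AddSubgroup.mem_bot] at htA
    rw [htA, up_zero, map_one] at ht
    exact hxO ((σ.mem_core_iff (h2 hx)).2 ht.symm)
  have htop := sq_closed_eq_top A hA fun a ha t ht => by
    obtain ⟨g, hg, hgt⟩ := σ.exists_torus a ha
    obtain ⟨x, hx, hxt⟩ := ht
    exact ⟨g * x * g⁻¹, hinv g hg x hx, hgt x (h2 hx) t hxt⟩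
  refine le_antisymm h2 fun x hx => ?_
  obtain ⟨t, ht⟩ := mem_upper.1 (σ.map_mem_upper hx)
  obtain ⟨r, hr, hrt⟩ : t ∈ A := htop ▸ AddSubgroup.mem_top t
  have hk : r⁻¹ * x ∈ pCore p G := by
    rw [σ.mem_core_iff (mul_mem (inv_mem (h2 hr)) hx), map_mul, map_inv, hrt, ht, inv_mul_cancel]
  simpa using mul_mem hr (h1 hk)

theorem V_le : σ.V ≤ pCore p G ⊓ centralizer (pCore p G : Set G) := by
  refine normalClosure_le_normal fun z hz => ?_
  have hzc : z ∈ centralizer (pCore p G : Set G) := fun x hx => hz.2 x (σ.core_le hx)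
  exact ⟨σ.hcen hzc, hzc⟩

theorem Z_le_V : σ.Z ≤ σ.V := fun _ hz => subset_normalClosure hz

theorem V_le_S : σ.V ≤ (σ.S : Subgroup G) := (σ.V_le.trans inf_le_left).trans σ.core_le

theorem V_comm : ∀ x ∈ σ.V, ∀ y ∈ σ.V, x * y = y * x :=
  fun x hx y hy => ((σ.V_le hy).2 x (σ.V_le hx).1)

theorem core_le_centralizer_V : pCore p G ≤ centralizer (σ.V : Set G) :=
  le_centralizer_iff.1 (σ.V_le.trans inf_le_right)

theorem Z_le_D : σ.Z ≤ σ.D := fun _ hz =>
  FGS2.MaxCentralizer.mem_centerThompsonAOf hz.1 fun u hu => hz.2 u hu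

theorem D_le_S : σ.D ≤ (σ.S : Subgroup G) := PLocal.centerThompsonAOf_le _

theorem J_le_Jt : thompsonSubgroupAOf (σ.S : Subgroup G) ≤ σ.Jt := by
  refine fun x hx => ⟨Subgroup.map_subtype_le _ hx, fun d hd => ?_⟩
  exact ((Subgroup.mem_inf.1 hd).2 x hx).symm

theorem S_le_normalizer_D : (σ.S : Subgroup G) ≤ normalizer (σ.D : Set G) :=
  fun _ hs => mem_normalizer_of_le fun _ hx =>
    conj_mem_centerThompsonA (Subgroup.le_normalizer hs) hx

theorem case_split : σ.Z ≤ center G ∨ σ.Jt.Normal ∨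
    (¬ σ.Z ≤ center G ∧ (σ.S : Subgroup G) ⊓ centralizer (σ.V : Set G) ≤ pCore p G ∧
      ∃ B, FusionZJ.IsMaxAb (σ.S : Subgroup G) B ∧ ¬ B ≤ centralizer (σ.V : Set G)) := by
  by_cases hZ : σ.Z ≤ center G
  · exact Or.inl hZ
  rcases σ.dich (centralizer (σ.V : Set G)) with h | h
  · exact Or.inl (le_center_of_sup (le_centralizer_iff.1 (Subgroup.centralizer_le σ.Z_le_V))
      inf_le_right h)
  by_cases hB : ∃ B, FusionZJ.IsMaxAb (σ.S : Subgroup G) B ∧ ¬ B ≤ centralizer (σ.V : Set G)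
  · exact Or.inr (Or.inr ⟨hZ, h, hB⟩)
  push Not at hB
  haveI hJ := FusionZJ.thompsonA_normal σ.S fun B hB' => (le_inf hB'.le (hB B hB')).trans h
  haveI : σ.D.Normal := Subgroup.normal_inf_normal _ _
  rcases σ.dich (centralizer (σ.D : Set G)) with h' | h'
  · exact Or.inl (le_center_of_sup (le_centralizer_iff.1 (Subgroup.centralizer_le σ.Z_le_D))
      inf_le_right h')
  · refine Or.inr (Or.inl ?_)
    have e : σ.Jt = pCore p G ⊓ centralizer (σ.D : Set G) :=
      le_antisymm (le_inf h' inf_le_right) (inf_le_inf_right _ σ.core_le)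
    rw [e]
    infer_instance

/-- The counting index: the Sylow subgroup `S` and its conjugates by lifts of `[[1,t],[0,1]] w`. -/
theorem conj_family : ∃ g : Option F → G, g none = 1 ∧
    ∀ i j, i ≠ j → ∀ z : G, (∀ s ∈ (σ.S : Subgroup G), Commute z (g i * s * (g i)⁻¹)) →
      (∀ s ∈ (σ.S : Subgroup G), Commute z (g j * s * (g j)⁻¹)) → z ∈ center G := by
  choose g hg using fun t : F => σ.hπ (proj (up t * weyl))
  refine ⟨fun i => i.elim 1 g, rfl, ?_⟩
  have base : ∀ a b z : G, Gen (σ.π (a⁻¹ * b)) →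
      (∀ s ∈ (σ.S : Subgroup G), Commute z (a * s * a⁻¹)) →
      (∀ s ∈ (σ.S : Subgroup G), Commute z (b * s * b⁻¹)) → z ∈ center G := by
    intro a b z hgen ha hb
    have hmem : ∀ y, Commute z y → a⁻¹ * y * a ∈ centralizer ({a⁻¹ * z * a} : Set G) := by
      intro y hy
      rw [mem_centralizer_singleton_iff]
      calc a⁻¹ * y * a * (a⁻¹ * z * a) = a⁻¹ * (y * z) * a := by group
        _ = a⁻¹ * (z * y) * a := by rw [hy.eq]
        _ = a⁻¹ * z * a * (a⁻¹ * y * a) := by group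
    have htop : centralizer ({a⁻¹ * z * a} : Set G) = ⊤ := by
      refine σ.gen_conj hgen (fun s hs => ?_) fun s hs => ?_
      · have := hmem _ (ha s hs)
        rwa [show a⁻¹ * (a * s * a⁻¹) * a = s by group] at this
      · have := hmem _ (hb s hs)
        rwa [show a⁻¹ * (b * s * b⁻¹) * a = a⁻¹ * b * s * (a⁻¹ * b)⁻¹ by group] at this
    have h1 : a⁻¹ * z * a ∈ center G := by
      refine Subgroup.mem_center_iff.2 fun y => ?_
      exact mem_centralizer_singleton_iff.1 (htop ▸ Subgroup.mem_top y)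
    have h2 := (inferInstance : (center G).Normal).conj_mem _ h1 a
    rwa [show a * (a⁻¹ * z * a) * a⁻¹ = z by group] at h2
  intro i j hij z hi hj
  rcases i with _ | a <;> rcases j with _ | b
  · exact absurd rfl hij
  · exact base 1 (g b) z (by rw [inv_one, one_mul, hg]; exact gen_up_weyl b) hi hj
  · exact base 1 (g a) z (by rw [inv_one, one_mul, hg]; exact gen_up_weyl a) hj hi
  · refine base (g a) (g b) z ?_ hi hj
    rw [map_mul, map_inv, hg, hg, ← map_inv, ← map_mul, shift]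
    exact gen_low (sub_ne_zero.2 fun e => hij (congrArg some e))

theorem q_mul_le (hZ : ¬ σ.Z ≤ center G) :
    Fintype.card F * Nat.card ↥(σ.V ⊓ centralizer ((σ.S : Subgroup G) : Set G)) ≤ Nat.card σ.V := by
  classical
  set W := σ.V ⊓ centralizer ((σ.S : Subgroup G) : Set G) with hW
  set C := (center G).subgroupOf W with hC
  by_contra hlt
  push Not at hlt
  have hp := (Fact.out : p.Prime)
  obtain ⟨a, ha⟩ := IsPGroup.iff_card.1 (σ.S.isPGroup'.to_le σ.V_le_S)
  obtain ⟨b, hb⟩ := IsPGroup.iff_card.1 (σ.S.isPGroup'.to_le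
    ((inf_le_left : W ≤ σ.V).trans σ.V_le_S))
  have h2 : 2 * Nat.card σ.V ≤ Fintype.card F * Nat.card W := by
    rw [σ.hF, ha, hb, ← pow_add] at hlt ⊢
    have : a < σ.n + b := (Nat.pow_lt_pow_iff_right hp.one_lt).1 hlt
    calc 2 * p ^ a ≤ p * p ^ a := Nat.mul_le_mul_right _ hp.two_le
      _ = p ^ (a + 1) := (pow_succ' p a).symm
      _ ≤ _ := Nat.pow_le_pow_right hp.pos this
  obtain ⟨g, hg0, hg⟩ := σ.conj_family
  have hVn : σ.V.Normal := inferInstance
  set α := {x : W // x ∉ C} with hα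
  let f : (Option F × α) ⊕ C → σ.V := Sum.elim
    (fun ix => ⟨g ix.1 * (ix.2.1 : G) * (g ix.1)⁻¹, hVn.conj_mem _ ix.2.1.2.1 _⟩)
    (fun c => ⟨(c.1 : G), c.1.2.1⟩)
  have hcomm : ∀ i (x : W), ∀ s ∈ (σ.S : Subgroup G),
      Commute (g i * (x : G) * (g i)⁻¹) (g i * s * (g i)⁻¹) := by
    intro i x s hs
    show _ = _
    calc g i * (x : G) * (g i)⁻¹ * (g i * s * (g i)⁻¹) = g i * ((x : G) * s) * (g i)⁻¹ := by group
      _ = g i * (s * (x : G)) * (g i)⁻¹ := by rw [x.2.2 s hs]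
      _ = _ := by group
  have hnc : ∀ i (x : α), g i * (x.1 : G) * (g i)⁻¹ ∉ center G := by
    intro i x h
    have h1 := (inferInstance : (center G).Normal).conj_mem _ h (g i)⁻¹
    rw [show (g i)⁻¹ * (g i * (x.1 : G) * (g i)⁻¹) * (g i)⁻¹⁻¹ = (x.1 : G) by group] at h1
    exact x.2 h1
  have hf : Function.Injective f := by
    rintro (⟨i, x⟩ | c) (⟨j, y⟩ | d) h
    · have h1 : g i * (x.1 : G) * (g i)⁻¹ = g j * (y.1 : G) * (g j)⁻¹ := congrArg Subtype.val h
      by_cases hij : i = j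
      · subst hij
        have h2 : (x.1 : G) = y.1 := mul_left_cancel (mul_right_cancel h1)
        rw [show x = y from Subtype.ext (Subtype.ext h2)]
      · exact absurd (hg i j hij _ (hcomm i x.1) (fun s hs => h1 ▸ hcomm j y.1 s hs)) (hnc i x)
    · have e : g i * (x.1 : G) * (g i)⁻¹ = (d.1 : G) := congrArg Subtype.val h
      exact absurd (show g i * (x.1 : G) * (g i)⁻¹ ∈ center G by rw [e]; exact d.2) (hnc i x)
    · have e : (c.1 : G) = g j * (y.1 : G) * (g j)⁻¹ := congrArg Subtype.val h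
      exact absurd (show g j * (y.1 : G) * (g j)⁻¹ ∈ center G by rw [← e]; exact c.2) (hnc j y)
    · have e : (c.1 : G) = (d.1 : G) := congrArg (fun z : σ.V => (z : G)) h
      rw [show c = d from Subtype.ext (Subtype.ext e)]
  have hcard := Nat.card_le_card_of_injective f hf
  rw [Nat.card_sum, Nat.card_prod, Nat.card_eq_fintype_card (α := Option F),
    Fintype.card_option] at hcard
  have hsum : Nat.card C + Nat.card α = Nat.card W := by
    rw [← Nat.card_sum]
    exact Nat.card_congr (Equiv.sumCompl fun x : W => x ∈ C)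
  obtain ⟨k, hk⟩ := C.card_subgroup_dvd_card
  have hcpos : 0 < Nat.card C := Nat.card_pos
  rcases Nat.lt_or_ge k 2 with hk2 | hk2
  · have hCtop : C = ⊤ := by
      refine Subgroup.eq_top_of_card_eq _ ?_
      have := Nat.card_pos (α := W)
      interval_cases k <;> omega
    refine hZ fun z hz => ?_
    have hzW : z ∈ W := ⟨σ.Z_le_V hz, hz.2⟩
    have : (⟨z, hzW⟩ : W) ∈ C := hCtop ▸ Subgroup.mem_top _
    exact this
  · have h3 : 2 * Nat.card C ≤ Nat.card W := by
      rw [hk, mul_comm]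
      exact Nat.mul_le_mul_left _ hk2
    nlinarith [Nat.mul_le_mul_left (Fintype.card F) (show Nat.card C ≤ Nat.card α by omega)]

/-- The product controlled by the offender bound. -/
noncomputable def off (R : Subgroup G) : ℕ :=
  Nat.card R * Nat.card ↥(σ.V ⊓ centralizer (R : Set G))

theorem off_le (hZ : ¬ σ.Z ≤ center G) {R : Subgroup G} (h1 : pCore p G ≤ R)
    (h2 : R ≤ (σ.S : Subgroup G)) : σ.off R ≤ Nat.card (pCore p G) * Nat.card σ.V := by
  classical
  set B := {R : Subgroup G | pCore p G ≤ R ∧ R ≤ (σ.S : Subgroup G)} with hB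
  obtain ⟨R₀, hR₀, hmax⟩ := Set.Finite.exists_maximalFor σ.off B (Set.toFinite _) ⟨R, h1, h2⟩
  have hm : ∀ X ∈ B, σ.off X ≤ σ.off R₀ := fun X hX =>
    (le_total (σ.off X) (σ.off R₀)).elim id fun h => hmax hX h
  set m := σ.off R₀ with hm0
  have hsup : ∀ X ∈ B, ∀ Y ∈ B, σ.off X = m → σ.off Y = m → σ.off (X ⊔ Y) = m := by
    intro X hX Y hY eX eY
    have hXY : X ≤ normalizer (Y : Set G) := fun x hx => mem_normalizer_of_le fun y hy =>
      σ.conj_mem_of_core_le hY.1 hY.2 (hX.2 hx) hy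
    have e1 := PLocal.card_sup_mul_card_inf hXY
    set P₁ := σ.V ⊓ centralizer (X : Set G) with hP₁
    set P₂ := σ.V ⊓ centralizer (Y : Set G) with hP₂
    have hP : P₁ ≤ normalizer (P₂ : Set G) := fun x hx =>
      Subgroup.centralizer_le_normalizer _ fun y hy => σ.V_comm y hy.1 x hx.1
    have e2 := PLocal.card_sup_mul_card_inf hP
    have i1 : Nat.card ↥(P₁ ⊔ P₂) ≤ Nat.card ↥(σ.V ⊓ centralizer ((X ⊓ Y : Subgroup G) : Set G)) := by
      refine Subgroup.card_le_of_le (le_inf (sup_le inf_le_left inf_le_left) (sup_le ?_ ?_))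
      · exact inf_le_right.trans (Subgroup.centralizer_le inf_le_left)
      · exact inf_le_right.trans (Subgroup.centralizer_le inf_le_right)
    have i2 : Nat.card ↥(P₁ ⊓ P₂) ≤ Nat.card ↥(σ.V ⊓ centralizer ((X ⊔ Y : Subgroup G) : Set G)) := by
      refine Subgroup.card_le_of_le (le_inf (inf_le_left.trans inf_le_left) ?_)
      rw [le_centralizer_iff]
      exact sup_le (le_centralizer_iff.1 (inf_le_left.trans inf_le_right))
        (le_centralizer_iff.1 (inf_le_right.trans inf_le_right))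
    have hinf : σ.off (X ⊓ Y) ≤ m := hm _ ⟨le_inf hX.1 hY.1, inf_le_left.trans hX.2⟩
    refine le_antisymm (hm _ ⟨hX.1.trans le_sup_left, sup_le hX.2 hY.2⟩) ?_
    have hpos : 0 < m := by
      rw [← eX]
      exact Nat.mul_pos Nat.card_pos Nat.card_pos
    refine Nat.le_of_mul_le_mul_right ?_ hpos
    calc m * m = σ.off X * σ.off Y := by rw [eX, eY]
      _ = (Nat.card ↥(X ⊔ Y) * Nat.card ↥(P₁ ⊓ P₂)) *
          (Nat.card ↥(X ⊓ Y) * Nat.card ↥(P₁ ⊔ P₂)) := by
        have : σ.off X * σ.off Y = (Nat.card X * Nat.card Y) * (Nat.card P₁ * Nat.card P₂) := by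
          unfold off; ring
        rw [this, ← e1, ← e2]; ring
      _ ≤ σ.off (X ⊔ Y) * σ.off (X ⊓ Y) :=
        Nat.mul_le_mul (Nat.mul_le_mul_left _ i2) (Nat.mul_le_mul_left _ i1)
      _ ≤ σ.off (X ⊔ Y) * m := Nat.mul_le_mul_left _ hinf
  obtain ⟨T, ⟨hT, eT⟩, hTmax⟩ := Set.Finite.exists_maximalFor (fun X : Subgroup G => Nat.card X)
    {X | X ∈ B ∧ σ.off X = m} (Set.toFinite _) ⟨R₀, hR₀, rfl⟩
  have habs : ∀ X ∈ B, σ.off X = m → X ≤ T := fun X hX eX => by
    have hle : Nat.card ↥(T ⊔ X) ≤ Nat.card T :=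
      hTmax (j := T ⊔ X) ⟨⟨hT.1.trans le_sup_left, sup_le hT.2 hX.2⟩, hsup T hT X hX eT eX⟩
        (Subgroup.card_le_of_le le_sup_left)
    exact le_sup_right.trans (eq_of_le_of_card_ge le_sup_left hle).ge
  have hinv : ∀ g ∈ normalizer ((σ.S : Subgroup G) : Set G), ∀ x ∈ T, g * x * g⁻¹ ∈ T := by
    intro g hg x hx
    set T' := T.map (MulAut.conj g).toMonoidHom with hT'
    refine habs T' ⟨fun y hy => ?_, ?_⟩ ?_ ⟨x, hx, rfl⟩
    · exact ⟨g⁻¹ * y * g⁻¹⁻¹, hT.1 ((inferInstance : (pCore p G).Normal).conj_mem y hy g⁻¹),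
        show g * (g⁻¹ * y * g⁻¹⁻¹) * g⁻¹ = y by group⟩
    · rintro _ ⟨y, hy, rfl⟩
      exact (Subgroup.mem_normalizer_iff.1 hg y).1 (hT.2 hy)
    · refine le_antisymm (hm _ ⟨fun y hy => ⟨g⁻¹ * y * g⁻¹⁻¹,
        hT.1 ((inferInstance : (pCore p G).Normal).conj_mem y hy g⁻¹),
        show g * (g⁻¹ * y * g⁻¹⁻¹) * g⁻¹ = y by group⟩, ?_⟩) ?_
      · rintro _ ⟨y, hy, rfl⟩
        exact (Subgroup.mem_normalizer_iff.1 hg y).1 (hT.2 hy)
      · rw [← eT]
        have hc : (σ.V ⊓ centralizer (T : Set G)).map (MulAut.conj g).toMonoidHom ≤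
            σ.V ⊓ centralizer (T' : Set G) := by
          rintro _ ⟨v, hv, rfl⟩
          refine ⟨(inferInstance : σ.V.Normal).conj_mem v hv.1 g, ?_⟩
          rintro _ ⟨y, hy, rfl⟩
          simp only [MulEquiv.coe_toMonoidHom, ← map_mul, hv.2 y hy]
        unfold off
        refine Nat.mul_le_mul (Subgroup.card_map_of_injective (MulAut.conj g).injective).ge ?_
        rw [← Subgroup.card_map_of_injective (MulAut.conj g).injective (f := (MulAut.conj g).toMonoidHom)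
          (K := σ.V ⊓ centralizer (T : Set G))]
        exact Subgroup.card_le_of_le hc
  refine (hm R ⟨h1, h2⟩).trans ?_
  rw [← eT]
  rcases σ.eq_of_invariant hT.1 hT.2 hinv with h | h
  · exact Nat.mul_le_mul (Subgroup.card_le_of_le h) (Subgroup.card_le_of_le inf_le_left)
  · rw [h, off, σ.card_S, mul_assoc]
    exact Nat.mul_le_mul_left _ (σ.q_mul_le hZ)

/-- The hypotheses of the remaining case. -/
structure Main : Prop where
  hZ : ¬ σ.Z ≤ center G
  hV : (σ.S : Subgroup G) ⊓ centralizer (σ.V : Set G) ≤ pCore p G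
  hB : ∃ B, FusionZJ.IsMaxAb (σ.S : Subgroup G) B ∧ ¬ B ≤ centralizer (σ.V : Set G)

variable {σ}

theorem Main.sup_core (h : σ.Main) :
    thompsonSubgroupAOf (σ.S : Subgroup G) ⊔ pCore p G = (σ.S : Subgroup G) := by
  obtain ⟨B, hB, hBV⟩ := h.hB
  refine (σ.eq_of_invariant le_sup_right (sup_le (Subgroup.map_subtype_le _) σ.core_le) ?_).resolve_left
    fun hle => hBV (((FusionZJ.le_thompsonA hB).trans (le_sup_left.trans hle)).trans
      σ.core_le_centralizer_V)
  intro g hg x hx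
  obtain ⟨y, hy, z, hz, rfl⟩ := Subgroup.mem_sup_of_normal_right.1 hx
  rw [show g * (y * z) * g⁻¹ = g * y * g⁻¹ * (g * z * g⁻¹) by group]
  exact mul_mem (mem_sup_left (conj_mem_thompsonA hg hy))
    (mem_sup_right ((inferInstance : (pCore p G).Normal).conj_mem z hz g))

theorem Main.closure_sup (h : σ.Main) :
    normalClosure (thompsonSubgroupAOf (σ.S : Subgroup G) : Set G) ⊔ (σ.S : Subgroup G) = ⊤ := by
  obtain ⟨B, hB, hBV⟩ := h.hB
  refine (σ.dich _).resolve_right fun hle => hBV fun x hx =>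
    σ.core_le_centralizer_V (hle ⟨hB.le hx, subset_normalClosure (FusionZJ.le_thompsonA hB hx)⟩)

theorem Main.star (h : σ.Main) {A : Subgroup G} (hA : FusionZJ.IsMaxAb (σ.S : Subgroup G) A) :
    FusionZJ.IsMaxAb (σ.S : Subgroup G) ((A ⊓ pCore p G) ⊔ σ.V) := by
  have hVn : σ.V.Normal := inferInstance
  refine ⟨sup_le (inf_le_left.trans hA.le) σ.V_le_S, FusionZJ.sup_comm_of
    (fun x hx y hy => hA.comm x hx.1 y hy.1) σ.V_comm
    (fun x hx y hy => (σ.V_le hy).2 x hx.2), fun C h1 h2 => le_trans (hA.max C h1 h2) ?_⟩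
  have e1 := PLocal.card_sup_mul_card_inf (show A ≤ normalizer ((pCore p G : Subgroup G) : Set G) by
    rw [Subgroup.normalizer_eq_top]; exact le_top)
  have e2 := PLocal.card_sup_mul_card_inf
    (show A ⊓ pCore p G ≤ normalizer ((σ.V : Subgroup G) : Set G) by
      rw [Subgroup.normalizer_eq_top]; exact le_top)
  have hR : σ.V ⊓ centralizer (A : Set G) ≤
      σ.V ⊓ centralizer ((A ⊔ pCore p G : Subgroup G) : Set G) := by
    refine le_inf inf_le_left ?_
    rw [le_centralizer_iff]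
    exact sup_le (le_centralizer_iff.1 inf_le_right)
      (le_centralizer_iff.1 ((inf_le_left.trans σ.V_le).trans inf_le_right))
  have b1 := σ.off_le h.hZ (R := A ⊔ pCore p G) le_sup_right (sup_le hA.le σ.core_le)
  have b2 : Nat.card A * Nat.card ↥(σ.V ⊓ centralizer (A : Set G)) ≤
      Nat.card ↥(A ⊓ pCore p G) * Nat.card σ.V := by
    refine Nat.le_of_mul_le_mul_right ?_ (Nat.card_pos : 0 < Nat.card (pCore p G))
    calc Nat.card A * Nat.card ↥(σ.V ⊓ centralizer (A : Set G)) * Nat.card (pCore p G)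
        = Nat.card ↥(A ⊔ pCore p G) * Nat.card ↥(σ.V ⊓ centralizer (A : Set G)) *
            Nat.card ↥(A ⊓ pCore p G) := by
          rw [mul_right_comm, ← e1]; ring
      _ ≤ Nat.card (pCore p G) * Nat.card σ.V * Nat.card ↥(A ⊓ pCore p G) :=
          Nat.mul_le_mul_right _ (le_trans (Nat.mul_le_mul_left _ (Subgroup.card_le_of_le hR)) b1)
      _ = _ := by ring
  have b3 : Nat.card ↥(A ⊓ pCore p G ⊓ σ.V) ≤ Nat.card ↥(σ.V ⊓ centralizer (A : Set G)) :=
    Subgroup.card_le_of_le fun x hx => ⟨hx.2, fun y hy => hA.comm y hy x hx.1.1⟩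
  refine Nat.le_of_mul_le_mul_right ?_ (Nat.card_pos : 0 < Nat.card ↥(A ⊓ pCore p G ⊓ σ.V))
  rw [e2]
  exact le_trans (Nat.mul_le_mul_left _ b3) b2

theorem Main.star_le (_h : σ.Main) {A : Subgroup G} :
    (A ⊓ pCore p G) ⊔ σ.V ≤ pCore p G := sup_le inf_le_right (σ.V_le.trans inf_le_left)

theorem Main.star_core (h : σ.Main) {A : Subgroup G}
    (hA : FusionZJ.IsMaxAb (σ.S : Subgroup G) A) :
    FusionZJ.IsMaxAb (pCore p G) ((A ⊓ pCore p G) ⊔ σ.V) :=
  ⟨h.star_le, (h.star hA).comm, fun C h1 h2 => (h.star hA).max C (h1.trans σ.core_le) h2⟩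

theorem Main.D_le (h : σ.Main) : σ.D ≤ centerThompsonAOf (pCore p G) := by
  obtain ⟨A, hA, -⟩ := h.hB
  refine le_inf ((centerThompsonA_le_maxAb (h.star hA)).trans
    (FusionZJ.le_thompsonA (h.star_core hA))) ?_
  rw [le_centralizer_iff]
  refine FusionZJ.thompsonA_le fun B hB => ?_
  have hB' : FusionZJ.IsMaxAb (σ.S : Subgroup G) B := ⟨hB.le.trans σ.core_le, hB.comm,
    fun C h1 h2 => le_trans ((h.star hA).max C h1 h2) (hB.max _ h.star_le (h.star hA).comm)⟩
  exact (FusionZJ.le_thompsonA hB').trans (le_centralizer_iff.1 inf_le_right)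

theorem Main.comm_mem_V (h : σ.Main) {n d : G}
    (hn : n ∈ normalClosure (thompsonSubgroupAOf (σ.S : Subgroup G) : Set G)) (hd : d ∈ σ.D) :
    ⁅d, n⁆ ∈ σ.V := by
  have hDn : (centerThompsonAOf (pCore p G)).Normal :=
    ⟨fun x hx g => conj_mem_centerThompsonA
      (by rw [Subgroup.normalizer_eq_top]; exact Subgroup.mem_top g) hx⟩
  haveI := commMod_normal (C := σ.V) hDn
  suffices hle : normalClosure (thompsonSubgroupAOf (σ.S : Subgroup G) : Set G) ≤
      commMod (centerThompsonAOf (pCore p G)) σ.V from mem_commMod.1 (hle hn) d (h.D_le hd)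
  refine normalClosure_le_normal (FusionZJ.thompsonA_le fun A hA a ha => ?_)
  rw [mem_commMod]
  intro x hx
  obtain ⟨a₀, ha₀, v, hv, rfl⟩ :=
    Subgroup.mem_sup_of_normal_right.1 (centerThompsonA_le_maxAb (h.star_core hA) hx)
  have e : ⁅a₀ * v, a⁆ = a₀ * (v * (a * v⁻¹ * a⁻¹)) * a₀⁻¹ := by
    have hc := hA.comm a₀ ha₀.1 a ha
    calc ⁅a₀ * v, a⁆ = a₀ * (v * (a * v⁻¹ * a⁻¹)) * (a * a₀⁻¹ * a⁻¹) := by
          rw [commutatorElement_def]; group
      _ = a₀ * (v * (a * v⁻¹ * a⁻¹)) * (a * a₀⁻¹ * (a₀ * a⁻¹ * a₀⁻¹)) := by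
          rw [show a₀ * a⁻¹ * a₀⁻¹ = a⁻¹ by
            rw [((show Commute a₀ a from hc).inv_right).eq]; group]
      _ = _ := by group
  rw [e]
  have hVn : σ.V.Normal := inferInstance
  exact hVn.conj_mem _ (mul_mem hv (hVn.conj_mem _ (inv_mem hv) a)) a₀

theorem Main.exists_conj (h : σ.Main) {n d : G}
    (hn : n ∈ normalClosure (thompsonSubgroupAOf (σ.S : Subgroup G) : Set G)) (hd : d ∈ σ.D) :
    ∃ v ∈ σ.V, n * d * n⁻¹ = v * d :=
  ⟨⁅d, n⁆⁻¹, inv_mem (h.comm_mem_V hn hd), by rw [commutatorElement_def]; group⟩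

theorem Main.normal_core_centralizer (h : σ.Main) :
    (pCore p G ⊓ centralizer (σ.D : Set G)).Normal := by
  rw [← Subgroup.normalizer_eq_top_iff, eq_top_iff, ← h.closure_sup]
  refine sup_le (fun n hn => ?_) fun s hs => ?_
  · refine mem_normalizer_of_le fun x hx =>
      ⟨(inferInstance : (pCore p G).Normal).conj_mem x hx.1 n, fun d hd => ?_⟩
    obtain ⟨v, hv, e⟩ := h.exists_conj (inv_mem hn) hd
    have hxv : v * x = x * v := ((σ.V_le hv).2 x hx.1).symm
    have key : n⁻¹ * d * n⁻¹⁻¹ * x = x * (n⁻¹ * d * n⁻¹⁻¹) := by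
      rw [e, mul_assoc, hx.2 d hd, ← mul_assoc, hxv, mul_assoc]
    calc d * (n * x * n⁻¹) = n * (n⁻¹ * d * n⁻¹⁻¹ * x) * n⁻¹ := by group
      _ = n * (x * (n⁻¹ * d * n⁻¹⁻¹)) * n⁻¹ := by rw [key]
      _ = _ := by group
  · refine mem_normalizer_of_le fun x hx =>
      ⟨(inferInstance : (pCore p G).Normal).conj_mem x hx.1 s, fun d hd => ?_⟩
    have hd' := (Subgroup.mem_normalizer_iff.1 (σ.S_le_normalizer_D (inv_mem hs)) d).1 hd
    calc d * (s * x * s⁻¹) = s * (s⁻¹ * d * s⁻¹⁻¹ * x) * s⁻¹ := by group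
      _ = s * (x * (s⁻¹ * d * s⁻¹⁻¹)) * s⁻¹ := by rw [hx.2 _ hd']
      _ = _ := by group

variable (σ)

theorem split : σ.Z ≤ center G ∨ σ.Jt.Normal ∨ σ.Main := by
  rcases σ.case_split with h | h | ⟨h1, h2, h3⟩
  exacts [Or.inl h, Or.inr (Or.inl h), Or.inr (Or.inr ⟨h1, h2, h3⟩)]

theorem commutator_case :
    (⁅σ.D, (σ.S : Subgroup G)⁆ ⊓ σ.Z).Normal ∨ σ.Jt.Normal := by
  rcases σ.split with h | h | h
  · exact Or.inl (normal_of_le_center' (inf_le_right.trans h))
  · exact Or.inr h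
  refine Or.inl (normal_of_le_center' ?_)
  set N := normalClosure (thompsonSubgroupAOf (σ.S : Subgroup G) : Set G) with hN
  set X := ⁅σ.D, pCore p G⁆ with hX
  have hXn : X.Normal := by
    rw [← Subgroup.normalizer_eq_top_iff, eq_top_iff, ← h.closure_sup]
    refine sup_le (fun n hn => ?_) fun s hs => ?_
    · refine mem_normalizer_of_le ?_
      change X ≤ X.comap (MulAut.conj n).toMonoidHom
      rw [hX, commutator_le]
      intro d hd q hq
      obtain ⟨v, hv, e⟩ := h.exists_conj hn hd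
      set q' := n * q * n⁻¹ with hq'
      have hq'O : q' ∈ pCore p G := (inferInstance : (pCore p G).Normal).conj_mem q hq n
      show n * ⁅d, q⁆ * n⁻¹ ∈ ⁅σ.D, pCore p G⁆
      have e3 : n * ⁅d, q⁆ * n⁻¹ = ⁅v * d, q'⁆ := by
        rw [← e, hq', commutatorElement_def, commutatorElement_def]; group
      have hdq : ⁅d, q'⁆ ∈ pCore p G := σ.comm_mem (σ.D_le_S hd) (σ.core_le hq'O)
      have e4 : ⁅v * d, q'⁆ = ⁅d, q'⁆ := by
        have c1 : Commute v ⁅d, q'⁆ := ((σ.V_le hv).2 _ hdq).symm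
        have c2 : Commute v q' := ((σ.V_le hv).2 _ hq'O).symm
        calc ⁅v * d, q'⁆ = v * ⁅d, q'⁆ * (q' * v⁻¹ * q'⁻¹) := by
              rw [commutatorElement_def, commutatorElement_def]; group
          _ = v * ⁅d, q'⁆ * v⁻¹ := by rw [← c2.inv_left.eq, mul_inv_cancel_right]
          _ = _ := by rw [c1.eq, mul_inv_cancel_right]
      rw [e3, e4]
      exact commutator_mem_commutator hd hq'O
    · refine mem_normalizer_of_le ?_
      change X ≤ X.comap (MulAut.conj s).toMonoidHom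
      rw [hX, commutator_le]
      intro d hd q hq
      show s * ⁅d, q⁆ * s⁻¹ ∈ ⁅σ.D, pCore p G⁆
      rw [show s * ⁅d, q⁆ * s⁻¹ = ⁅s * d * s⁻¹, s * q * s⁻¹⁆ by
        rw [commutatorElement_def, commutatorElement_def]; group]
      exact commutator_mem_commutator ((Subgroup.mem_normalizer_iff.1 (σ.S_le_normalizer_D hs) d).1 hd)
        ((inferInstance : (pCore p G).Normal).conj_mem q hq s)
  haveI := hXn
  have hXD : X ≤ σ.D := by
    rw [hX, commutator_le]
    intro d hd q hq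
    rw [show ⁅d, q⁆ = d * (q * d⁻¹ * q⁻¹) by rw [commutatorElement_def]; group]
    exact mul_mem hd
      ((Subgroup.mem_normalizer_iff.1 (σ.S_le_normalizer_D (σ.core_le hq)) _).1 (inv_mem hd))
  have hNX : N ≤ centralizer (X : Set G) := normalClosure_le_normal fun x hx y hy =>
    ((Subgroup.mem_inf.1 (hXD hy)).2 x hx).symm
  have hDS : ⁅σ.D, (σ.S : Subgroup G)⁆ ≤ X := by
    have hle : (σ.S : Subgroup G) ≤ commMod σ.D X := by
      rw [← h.sup_core]
      refine sup_le (fun x hx => mem_commMod.2 fun d hd => ?_)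
        fun x hx => mem_commMod.2 fun d hd => commutator_mem_commutator hd hx
      rw [commutatorElement_eq_one_iff_mul_comm.2 ((Subgroup.mem_inf.1 hd).2 x hx).symm]
      exact one_mem _
    rw [commutator_le]
    exact fun d hd s hs => mem_commMod.1 (hle hs) d hd
  exact le_center_of_sup ((inf_le_left.trans hDS).trans (le_centralizer_iff.1 hNX))
    (inf_le_right.trans inf_le_right) h.closure_sup

theorem power_case : (powerClosure p 1 σ.Z).Normal ∨ σ.Jt.Normal := by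
  have hZle : powerClosure p 1 σ.Z ≤ σ.Z := (Subgroup.closure_le _).2
    (by rintro _ ⟨x, hx, rfl⟩; exact pow_mem hx _)
  rcases σ.split with h | h | h
  · exact Or.inl (normal_of_le_center' (hZle.trans h))
  · exact Or.inr h
  refine Or.inl (normal_of_le_center' ?_)
  have hVn : σ.V.Normal := inferInstance
  obtain ⟨A, hA, hAV, hnorm⟩ := FusionZJ.exists_normalized_offender σ.S.isPGroup' σ.V_le_S σ.V_comm
    (fun g a ha => hVn.conj_mem a ha g) h.hB
  obtain ⟨hquad, -⟩ := FusionZJ.offender_props hA σ.V_le_S σ.V_comm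
    (fun g a ha => hVn.conj_mem a ha g) hnorm
  set P : Set G := {y | ∃ v ∈ σ.V, y = v ^ p} with hP
  haveI hPn : (centralizer P).Normal := ⟨fun g hg u y hy => by
    obtain ⟨v, hv, rfl⟩ := hy
    have h1 := hg ((u⁻¹ * v * u⁻¹⁻¹) ^ p) ⟨_, hVn.conj_mem v hv u⁻¹, rfl⟩
    rw [conj_pow] at h1
    calc v ^ p * (u * g * u⁻¹) = u * (u⁻¹ * v ^ p * u⁻¹⁻¹ * g) * u⁻¹ := by group
      _ = u * (g * (u⁻¹ * v ^ p * u⁻¹⁻¹)) * u⁻¹ := by rw [h1]
      _ = _ := by group⟩
  have hAP : A ≤ centralizer P := by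
    rintro a ha _ ⟨v, hv, rfl⟩
    set c := v * a * v⁻¹ * a⁻¹ with hc
    have hca : Commute c a := by
      have h1 := Subgroup.commutator_mem_commutator (Subgroup.commutator_mem_commutator hv ha) ha
      rw [hquad, Subgroup.mem_bot, commutatorElement_eq_one_iff_mul_comm, commutatorElement_def] at h1
      exact h1
    have hcp : c ^ p = 1 := by
      have h1 : v * a * v⁻¹ = c * a := by rw [hc]; group
      have h2 : v * a ^ p * v⁻¹ = a ^ p := by
        rw [← (σ.V_le hv).2 _ (σ.pow_mem_core (hA.le ha)), mul_inv_cancel_right]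
      rw [← conj_pow, h1, hca.mul_pow] at h2
      simpa using h2
    have hcV : c ∈ σ.V := by
      rw [hc, show v * a * v⁻¹ * a⁻¹ = v * (a * v⁻¹ * a⁻¹) by group]
      exact mul_mem hv (hVn.conj_mem _ (inv_mem hv) a)
    have h3 : a * v⁻¹ * a⁻¹ = v⁻¹ * c := by rw [hc]; group
    have h4 : a * (v ^ p)⁻¹ * a⁻¹ = (v ^ p)⁻¹ := by
      rw [← inv_pow, ← conj_pow, h3, (show Commute v⁻¹ c from
        σ.V_comm _ (inv_mem hv) _ hcV).mul_pow, hcp, mul_one]
    have h5 : a * v ^ p * a⁻¹ = v ^ p := by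
      have := congrArg Inv.inv h4
      simpa [mul_assoc] using this
    exact (mul_inv_eq_iff_eq_mul.1 h5).symm
  have hN : normalClosure (A : Set G) ⊔ (σ.S : Subgroup G) = ⊤ :=
    (σ.dich _).resolve_right fun hle => hAV fun x hx =>
      σ.core_le_centralizer_V (hle ⟨hA.le hx, subset_normalClosure hx⟩)
  refine le_center_of_sup ((Subgroup.closure_le _).2 ?_) (hZle.trans inf_le_right) hN
  rintro _ ⟨x, hx, rfl⟩ y hy
  exact ((normalClosure_le_normal hAP hy) _ ⟨x, σ.Z_le_V hx, by rw [pow_one]⟩).symm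

theorem sylow_case (hZn : ¬ σ.Z.Normal) : ∃ P : Sylow p ↥(normalClosure (σ.Jt : Set G)),
    (P : Subgroup ↥(normalClosure (σ.Jt : Set G))) = σ.Jt.subgroupOf (normalClosure (σ.Jt : Set G)) := by
  set L := normalClosure (σ.Jt : Set G) with hL
  obtain ⟨T, hT⟩ := PLocal.exists_sylow_inf σ.S L
  suffices hle : (σ.S : Subgroup G) ⊓ L ≤ σ.Jt by
    refine ⟨T, ?_⟩
    have hTJ : (T : Subgroup L).map L.subtype = σ.Jt := by
      rw [hT]
      exact le_antisymm hle (le_inf inf_le_left le_normalClosure)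
    conv_rhs => rw [← hTJ]
    rw [Subgroup.subgroupOf, Subgroup.comap_map_eq_self_of_injective L.subtype_injective]
  rcases σ.split with h | h | h
  · exact absurd (normal_of_le_center' h) hZn
  · haveI := h
    exact inf_le_right.trans (normalClosure_le_normal le_rfl)
  haveI hC := h.normal_core_centralizer
  set C := pCore p G ⊓ centralizer (σ.D : Set G) with hCdef
  have hCJ : C ≤ σ.Jt := inf_le_inf_right _ σ.core_le
  have hJL : σ.Jt ≤ L := le_normalClosure
  have hJn : ∀ s ∈ (σ.S : Subgroup G), ∀ x ∈ σ.Jt, s * x * s⁻¹ ∈ σ.Jt := by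
    intro s hs x hx
    refine ⟨(σ.S : Subgroup G).mul_mem ((σ.S : Subgroup G).mul_mem hs hx.1)
      ((σ.S : Subgroup G).inv_mem hs), fun d hd => ?_⟩
    have hd' := (Subgroup.mem_normalizer_iff.1 (σ.S_le_normalizer_D (inv_mem hs)) d).1 hd
    calc d * (s * x * s⁻¹) = s * (s⁻¹ * d * s⁻¹⁻¹ * x) * s⁻¹ := by group
      _ = s * (x * (s⁻¹ * d * s⁻¹⁻¹)) * s⁻¹ := by rw [hx.2 _ hd']
      _ = _ := by group
  haveI := commMod_normal (C := C) (inferInstance : (pCore p G).Normal)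
  have hLO : L ≤ commMod (pCore p G) C := normalClosure_le_normal fun j hj => mem_commMod.2 fun x hx => by
    refine ⟨?_, Subgroup.mem_inf.1 (?_ : ⁅x, j⁆ ∈ σ.Jt) |>.2⟩
    · exact σ.comm_mem (σ.core_le hx) hj.1
    · rw [commutatorElement_def, show x * j * x⁻¹ * j⁻¹ = x * j * x⁻¹ * j⁻¹ from rfl]
      exact mul_mem (hJn x (σ.core_le hx) j hj) (inv_mem hj)
  have hSup : L ⊔ (σ.S : Subgroup G) = ⊤ := by
    rw [eq_top_iff, ← h.closure_sup]
    exact sup_le_sup_right (normalClosure_mono (σ.J_le_Jt)) _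
  set q := QuotientGroup.mk' C with hq
  set ψ : L →* L.map q := q.subgroupMap L with hψ
  have hψs : Function.Surjective ψ := q.subgroupMap_surjective L
  set T' := T.mapSurjective hψs with hT'
  have hTmem : ∀ t : L, t ∈ (T : Subgroup L) → (t : G) ∈ (σ.S : Subgroup G) := fun t ht => by
    have : (t : G) ∈ (T : Subgroup L).map L.subtype := ⟨t, ht, rfl⟩
    rw [hT] at this
    exact this.1
  have hmemT : ∀ t : L, (t : G) ∈ (σ.S : Subgroup G) → t ∈ (T : Subgroup L) := fun t ht => by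
    obtain ⟨u, hu, hut⟩ : (t : G) ∈ (T : Subgroup L).map L.subtype := hT ▸ ⟨ht, t.2⟩
    rwa [← Subtype.ext hut]
  have hdec : ∀ t : L, t ∈ (T : Subgroup L) → ∃ j : L, (j : G) ∈ σ.Jt ∧ ∃ o : L,
      (o : G) ∈ pCore p G ∧ t = j * o := by
    intro t ht
    have h1 : (t : G) ∈ σ.Jt ⊔ pCore p G := by
      refine (show (σ.S : Subgroup G) ≤ σ.Jt ⊔ pCore p G from ?_) (hTmem t ht)
      rw [← h.sup_core]
      exact sup_le_sup_right σ.J_le_Jt _
    obtain ⟨j, hj, o, ho, e⟩ := Subgroup.mem_sup_of_normal_right.1 h1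
    have hoL : o ∈ L := by
      rw [show o = j⁻¹ * (t : G) by rw [← e]; group]
      exact mul_mem (inv_mem (hJL hj)) t.2
    exact ⟨⟨j, hJL hj⟩, hj, ⟨o, hoL⟩, ho, Subtype.ext e.symm⟩
  have hcentral : ∀ o : L, (o : G) ∈ pCore p G → ψ o ∈ center (L.map q) := by
    intro o ho
    refine Subgroup.mem_center_iff.2 fun y => ?_
    obtain ⟨l, rfl⟩ := hψs y
    refine Subtype.ext ?_
    exact ((hLO l.2) (q (o : G)) ⟨_, ho, rfl⟩).symm
  set J' := (σ.Jt.subgroupOf L).map ψ with hJ'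
  have hJcomm : ∀ a ∈ J', ∀ b ∈ J', a * b = b * a := by
    rintro _ ⟨a, ha, rfl⟩ _ ⟨b, hb, rfl⟩
    refine Subtype.ext ?_
    show q (a : G) * q (b : G) = q (b : G) * q (a : G)
    rw [← commutatorElement_eq_one_iff_mul_comm, ← map_commutatorElement]
    refine (QuotientGroup.eq_one_iff _).2 ⟨σ.comm_mem ha.1 hb.1, ?_⟩
    rw [commutatorElement_def]
    have h1 : (a : G) ∈ centralizer (σ.D : Set G) := ha.2
    have h2 : (b : G) ∈ centralizer (σ.D : Set G) := hb.2
    exact (centralizer (σ.D : Set G)).mul_mem ((centralizer (σ.D : Set G)).mul_mem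
      ((centralizer (σ.D : Set G)).mul_mem h1 h2) ((centralizer (σ.D : Set G)).inv_mem h1))
      ((centralizer (σ.D : Set G)).inv_mem h2)
  have hT'comm : IsMulCommutative T' := ⟨⟨fun a b => by
    obtain ⟨_, t, ht, rfl⟩ := a
    obtain ⟨_, u, hu, rfl⟩ := b
    refine Subtype.ext ?_
    obtain ⟨j, hj, o, ho, rfl⟩ := hdec t ht
    obtain ⟨k, hk, r, hr, rfl⟩ := hdec u hu
    show ψ (j * o) * ψ (k * r) = ψ (k * r) * ψ (j * o)
    have c := hJcomm (ψ j) ⟨j, hj, rfl⟩ (ψ k) ⟨k, hk, rfl⟩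
    have c1 := Subgroup.mem_center_iff.1 (hcentral o ho)
    have c2 := Subgroup.mem_center_iff.1 (hcentral r hr)
    rw [map_mul, map_mul]
    calc ψ j * ψ o * (ψ k * ψ r) = ψ j * (ψ o * ψ k) * ψ r := by group
      _ = ψ j * ψ k * (ψ o * ψ r) := by rw [← c1]; group
      _ = ψ k * ψ j * (ψ r * ψ o) := by rw [c, c2]
      _ = ψ k * (ψ j * ψ r) * ψ o := by group
      _ = _ := by rw [c2]; group⟩⟩
  have key := sylow_le_of_split T' hT'comm (J := J')
    (Subgroup.map_mono fun x hx => hmemT x hx.1) ?_ ?_ ?_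
  · intro x hx
    set t : L := ⟨x, hx.2⟩ with ht
    obtain ⟨j, hj, e⟩ := key ⟨t, hmemT t hx.1, rfl⟩
    have h2 : (j : G)⁻¹ * x ∈ C := QuotientGroup.eq.1 (congrArg Subtype.val e : q (j : G) = q x)
    simpa using mul_mem (show (j : G) ∈ σ.Jt from hj) (hCJ h2)
  · intro y
    obtain ⟨l, rfl⟩ := hψs y
    have hL2 : L ≤ σ.Jt ⊔ ⁅L, L⁆ := by
      haveI : (σ.Jt ⊔ ⁅L, L⁆).Normal := by
        rw [← Subgroup.normalizer_eq_top_iff, eq_top_iff, ← hSup]
        refine sup_le (fun g hg => mem_normalizer_of_le fun x hx => ?_)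
          fun g hg => mem_normalizer_of_le fun x hx => ?_
        · obtain ⟨a, ha, b, hb, rfl⟩ := Subgroup.mem_sup_of_normal_right.1 hx
          rw [show g * (a * b) * g⁻¹ = ⁅g, a⁆ * a * (g * b * g⁻¹) by
            rw [commutatorElement_def]; group]
          exact mul_mem (mul_mem (mem_sup_right (commutator_mem_commutator hg (hJL ha)))
            (mem_sup_left ha)) (mem_sup_right ((inferInstance : ⁅L, L⁆.Normal).conj_mem b hb g))
        · obtain ⟨a, ha, b, hb, rfl⟩ := Subgroup.mem_sup_of_normal_right.1 hx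
          rw [show g * (a * b) * g⁻¹ = g * a * g⁻¹ * (g * b * g⁻¹) by group]
          exact mul_mem (mem_sup_left (hJn g hg a ha))
            (mem_sup_right ((inferInstance : ⁅L, L⁆.Normal).conj_mem b hb g))
      exact normalClosure_le_normal fun j hj => mem_sup_left hj
    obtain ⟨j, hj, c, hc, e⟩ := Subgroup.mem_sup_of_normal_right.1 (hL2 l.2)
    rw [← Subgroup.map_subtype_commutator] at hc
    obtain ⟨c', hc', rfl⟩ := hc
    refine ⟨ψ ⟨j, hJL hj⟩, ⟨_, hj, rfl⟩, ψ c', ?_, ?_⟩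
    · refine (Subgroup.map_le_iff_le_comap (f := ψ) (H := commutator (L.map q)) (K := commutator L)).1 ?_ hc'
      rw [_root_.commutator_def, _root_.commutator_def, Subgroup.map_commutator]
      exact commutator_mono le_top le_top
    · rw [← map_mul]
      exact congrArg ψ (Subtype.ext e.symm)
  · intro n hn y hy
    obtain ⟨l, rfl⟩ := hψs n
    obtain ⟨j, hj, rfl⟩ := hy
    rw [← map_inv, ← map_mul, ← map_mul]
    refine ⟨_, ?_, rfl⟩
    have hlT : (l : G) ∈ normalizer (((σ.S : Subgroup G) ⊓ L : Subgroup G) : Set G) := by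
      refine mem_normalizer_of_le fun x hx => ?_
      have hxL : (⟨x, hx.2⟩ : L) ∈ (T : Subgroup L) := hmemT _ hx.1
      obtain ⟨u, hu, e⟩ := (Subgroup.mem_normalizer_iff.1 hn (ψ ⟨x, hx.2⟩)).1 ⟨_, hxL, rfl⟩
      rw [← map_inv, ← map_mul, ← map_mul] at e
      have h2 : (u : G)⁻¹ * ((l : G) * x * (l : G)⁻¹) ∈ C :=
        QuotientGroup.eq.1 (congrArg Subtype.val e)
      refine Subgroup.mem_inf.2 ⟨?_, mul_mem (mul_mem l.2 hx.2) (inv_mem l.2)⟩
      simpa using mul_mem (hTmem u hu) (σ.core_le h2.1)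
    have hJT : ∀ B, FusionZJ.IsMaxAb (σ.S : Subgroup G) B →
        FusionZJ.IsMaxAb ((σ.S : Subgroup G) ⊓ L) B := fun B hB =>
      ⟨le_inf hB.le ((FusionZJ.le_thompsonA hB).trans (σ.J_le_Jt.trans hJL)), hB.comm,
        fun C' h1 h2 => hB.max C' (h1.trans inf_le_left) h2⟩
    have hJeq : thompsonSubgroupAOf ((σ.S : Subgroup G) ⊓ L) =
        thompsonSubgroupAOf (σ.S : Subgroup G) := by
      obtain ⟨B₀, hB₀⟩ := FusionZJ.exists_isMaxAb (σ.S : Subgroup G)
      refine le_antisymm (FusionZJ.thompsonA_le fun B hB => FusionZJ.le_thompsonA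
        ⟨hB.le.trans inf_le_left, hB.comm, fun C' h1 h2 => le_trans (hB₀.max C' h1 h2)
          (hB.max B₀ (hJT B₀ hB₀).le hB₀.comm)⟩)
        (FusionZJ.thompsonA_le fun B hB => FusionZJ.le_thompsonA (hJT B hB))
    have hDeq : centerThompsonAOf ((σ.S : Subgroup G) ⊓ L) = σ.D := by
      unfold centerThompsonAOf
      rw [hJeq]
      rfl
    show (l : G) * (j : G) * (l : G)⁻¹ ∈ σ.Jt
    refine ⟨((Subgroup.mem_normalizer_iff.1 hlT (j : G)).1 ⟨hj.1, j.2⟩).1, fun d hd => ?_⟩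
    have hd' : (l : G)⁻¹ * d * (l : G)⁻¹⁻¹ ∈ σ.D := by
      rw [← hDeq] at hd ⊢
      exact conj_mem_centerThompsonA (inv_mem hlT) hd
    calc d * ((l : G) * j * (l : G)⁻¹)
        = (l : G) * ((l : G)⁻¹ * d * (l : G)⁻¹⁻¹ * j) * (l : G)⁻¹ := by group
      _ = (l : G) * (j * ((l : G)⁻¹ * d * (l : G)⁻¹⁻¹)) * (l : G)⁻¹ := by
          have hc : _ = _ := hj.2 _ hd'
          simp only [Subgroup.coe_subtype] at hc
          rw [hc]
      _ = _ := by group
  · rintro _ ⟨t, ht, rfl⟩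
    obtain ⟨j, hj, o, ho, rfl⟩ := hdec t ht
    exact ⟨ψ j, ⟨j, hj, rfl⟩, ψ o, hcentral o ho, map_mul _ _ _⟩

end Setup

end Cfsg.Agent.Components.PushingUpPSL
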