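import Cfsg.Agent.Components.NormalFour
import Cfsg.Agent.Transfer.MaxClassTwo
import Cfsg.Agent.Transfer.Thompson
import Cfsg.Agent.Coprime.Action
import Cfsg.Agent.LocalEven.Average
import Cfsg.Agent.Transfer.Fusion
import Cfsg.Prelude.Def_CaseTheorems
import Mathlib.GroupTheory.Transfer
import Mathlib.GroupTheory.SpecificGroups.KleinFour

/-! A perfect group normalized by a four-group `U` in which each `C(u)`, `u ∈ U#`, has 2-rank one
has 2-rank one. -/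

set_option autoImplicit false
set_option linter.style.haveILetI false
set_option linter.unusedSectionVars false

namespace Cfsg.Agent.Components.RankOneDescent

variable {G : Type*} [Group G] [Finite G]

/-- A normal step between two `P`-invariant subgroups of a `2`-group `P`. -/
theorem exists_step {P M N : Subgroup G} (hP : IsPGroup 2 ↥P) (hMN : M ≤ N) (hNP : N ≤ P)
    (hMn : P ≤ Subgroup.normalizer (M : Set G)) (hNn : P ≤ Subgroup.normalizer (N : Set G))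
    (hne : ¬ N ≤ M) :
    ∃ c ∈ N, c ∉ M ∧ c * c ∈ M ∧ ∀ q ∈ P, c⁻¹ * (q * c * q⁻¹) ∈ M := by
  haveI hM' : (M.subgroupOf P).Normal := Subgroup.normal_subgroupOf_of_le_normalizer hMn
  haveI hN' : (N.subgroupOf P).Normal := Subgroup.normal_subgroupOf_of_le_normalizer hNn
  set π := QuotientGroup.mk' (M.subgroupOf P)
  haveI := hN'.map π (QuotientGroup.mk'_surjective _)
  have hI : (N.subgroupOf P).map π ≠ ⊥ := fun h => hne fun x hx =>
    Subgroup.mem_subgroupOf.mp ((QuotientGroup.eq_one_iff (⟨x, hNP hx⟩ : ↥P)).mp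
      (Subgroup.mem_bot.mp (h ▸ ⟨⟨x, hNP hx⟩, Subgroup.mem_subgroupOf.mpr hx, rfl⟩ :
        π ⟨x, hNP hx⟩ ∈ (⊥ : Subgroup _))))
  obtain ⟨_, ⟨c, hc, rfl⟩, h2, hcen⟩ :=
    Transfer.MaxClass.exists_central_involution (hP.to_quotient _) _ hI
  refine ⟨c, Subgroup.mem_subgroupOf.mp hc, fun h => ?_, ?_, fun q hq => ?_⟩
  · have h1 : π c = 1 := (QuotientGroup.eq_one_iff c).mpr (Subgroup.mem_subgroupOf.mpr h)
    rw [h1, orderOf_one] at h2
    exact absurd h2 (by norm_num)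
  · have h1 : π (c * c) = 1 := by rw [map_mul, ← pow_two, ← h2, pow_orderOf_eq_one]
    exact Subgroup.mem_subgroupOf.mp ((QuotientGroup.eq_one_iff (c * c)).mp h1)
  · have h1 : π (c⁻¹ * (⟨q, hq⟩ * c * ⟨q, hq⟩⁻¹)) = 1 := by
      rw [map_mul, map_mul, map_mul, map_inv, map_inv,
        Subgroup.mem_center_iff.mp hcen (π ⟨q, hq⟩), mul_inv_cancel_right, inv_mul_cancel]
    exact Subgroup.mem_subgroupOf.mp ((QuotientGroup.eq_one_iff _).mp h1)

/-- An elementary abelian subgroup of rank at least two, normalized by the `2`-group `P`, contains a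
four-subgroup normalized by `P`. -/
theorem exists_normal_four {P N : Subgroup G} (hP : IsPGroup 2 ↥P) (hNP : N ≤ P)
    (hNn : P ≤ Subgroup.normalizer (N : Set G)) (hN2 : ∀ x ∈ N, x * x = 1)
    {a b : G} (ha : a ∈ N) (hb : b ∈ N) (ha1 : a ≠ 1) (hb1 : b ≠ 1) (hab : a ≠ b) :
    ∃ z w : G, z ∈ N ∧ w ∈ N ∧ z ≠ 1 ∧ w ≠ 1 ∧ z ≠ w ∧ (∀ q ∈ P, q * z * q⁻¹ = z) ∧
      ∀ q ∈ P, q * w * q⁻¹ = w ∨ q * w * q⁻¹ = w * z := by
  obtain ⟨z, hz, hz1, -, hzc⟩ := exists_step (M := ⊥) hP bot_le hNP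
    (by intro q _; rw [← LocalEven.cj_eq_self_iff]; exact Subgroup.map_bot _) hNn
    (fun h => ha1 (Subgroup.mem_bot.mp (h ha)))
  rw [Subgroup.mem_bot] at hz1
  have hzfix : ∀ q ∈ P, q * z * q⁻¹ = z := fun q hq =>
    (inv_mul_eq_one.mp (Subgroup.mem_bot.mp (hzc q hq))).symm
  have hmem : ∀ x, x ∈ Subgroup.zpowers z → x = 1 ∨ x = z := by
    rintro x ⟨i, rfl⟩
    have hz2 : z ^ (2 : ℤ) = 1 := by rw [zpow_two, hN2 z hz]
    rcases Int.even_or_odd' i with ⟨j, rfl | rfl⟩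
    · left; show z ^ (2 * j) = 1; rw [zpow_mul, hz2, one_zpow]
    · right; show z ^ (2 * j + 1) = z; rw [zpow_add_one, zpow_mul, hz2, one_zpow, one_mul]
  have hzn : P ≤ Subgroup.normalizer ((Subgroup.zpowers z : Subgroup G) : Set G) := by
    intro q hq
    rw [← LocalEven.cj_eq_self_iff, LocalEven.cj, MonoidHom.map_zpowers]
    exact congrArg Subgroup.zpowers (hzfix q hq)
  have hne : ¬ N ≤ Subgroup.zpowers z := fun h => by
    rcases hmem a (h ha) with e | e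
    · exact ha1 e
    rcases hmem b (h hb) with e' | e'
    · exact hb1 e'
    · exact hab (e.trans e'.symm)
  obtain ⟨w, hw, hwz, -, hwc⟩ := exists_step hP (Subgroup.zpowers_le.mpr hz) hNP hzn hNn hne
  refine ⟨z, w, hz, hw, hz1, fun h => hwz (h ▸ one_mem _), fun h => hwz (h ▸ Subgroup.mem_zpowers z),
    hzfix, fun q hq => ?_⟩
  rcases hmem _ (hwc q hq) with e | e
  · exact Or.inl (inv_mul_eq_one.mp e).symm
  · exact Or.inr (inv_mul_eq_iff_eq_mul.mp e)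

/-- Two of the three involutions of a four-group cannot both move `w`. -/
theorem exists_fix {P : Subgroup G} {z w u₁ u₂ : G} (h₁ : u₁ ∈ P) (h₂ : u₂ ∈ P)
    (hzfix : ∀ q ∈ P, q * z * q⁻¹ = z) (hz : z * z = 1)
    (hw : ∀ q ∈ P, q * w * q⁻¹ = w ∨ q * w * q⁻¹ = w * z) :
    u₁ * w * u₁⁻¹ = w ∨ u₂ * w * u₂⁻¹ = w ∨ u₁ * u₂ * w * (u₁ * u₂)⁻¹ = w := by
  rcases hw u₁ h₁ with e₁ | e₁
  · exact Or.inl e₁
  rcases hw u₂ h₂ with e₂ | e₂
  · exact Or.inr (Or.inl e₂)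
  refine Or.inr (Or.inr ?_)
  calc u₁ * u₂ * w * (u₁ * u₂)⁻¹ = u₁ * (u₂ * w * u₂⁻¹) * u₁⁻¹ := by group
    _ = u₁ * w * u₁⁻¹ * (u₁ * z * u₁⁻¹) := by rw [e₂]; group
    _ = w := by rw [e₁, hzfix u₁ h₁, mul_assoc, hz, mul_one]

/-- Involutive conjugation action on a cyclic `2`-group. -/
theorem conj_gen_cases {a g : G} {n : ℕ} (ha : orderOf a = 2 ^ (n + 1))
    (hg : g * a * g⁻¹ ∈ Subgroup.zpowers a) (hgg : g * g * a * (g * g)⁻¹ = a) :
    g * a * g⁻¹ = a ∨ g * a * g⁻¹ = a⁻¹ ∨ g * a * g⁻¹ = a * a ^ (2 ^ n) ∨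
      g * a * g⁻¹ = a⁻¹ * a ^ (2 ^ n) := by
  obtain ⟨k, hk⟩ := hg
  have hk' : g * a * g⁻¹ = a ^ k := hk.symm
  have key : ∀ i j : ℤ, ((i : ZMod (2 ^ (n + 1))) = j) → a ^ i = a ^ j := fun i j h => by
    rw [zpow_eq_zpow_iff_modEq, ha]
    exact (ZMod.intCast_eq_intCast_iff i j _).mp h
  have key' : ∀ i j : ℤ, a ^ i = a ^ j → ((i : ZMod (2 ^ (n + 1))) = j) := fun i j h => by
    rw [zpow_eq_zpow_iff_modEq, ha] at h
    exact (ZMod.intCast_eq_intCast_iff i j _).mpr h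
  have hsq : (k : ZMod (2 ^ (n + 1))) * k = 1 := by
    have h : a ^ (k * k) = a ^ (1 : ℤ) := by
      rw [zpow_one, zpow_mul, ← hk', conj_zpow, ← hk']
      exact (by group : g * (g * a * g⁻¹) * g⁻¹ = g * g * a * (g * g)⁻¹).trans hgg
    have h' := key' _ _ h
    push_cast at h'
    exact h'
  rw [hk']
  rcases units_sq_cases _ hsq with h | h | h | h
  · left; rw [key k 1 (by rw [h]; simp), zpow_one]
  · right; left; rw [key k (-1) (by rw [h]; simp), zpow_neg, zpow_one]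
  · right; right; left
    rw [key k (1 + ((2 ^ n : ℕ) : ℤ)) (by rw [h]; push_cast; ring), zpow_add, zpow_one, zpow_natCast]
  · right; right; right
    rw [key k (-1 + ((2 ^ n : ℕ) : ℤ)) (by rw [h]; push_cast; ring), zpow_add, zpow_neg, zpow_one, zpow_natCast]

/-- The structure of `T`: a maximal `P`-invariant abelian subgroup is cyclic of index two. -/
structure Frame (P T : Subgroup G) (a z : G) (n : ℕ) : Prop where
  ord : orderOf a = 2 ^ (n + 2)
  hz : z = a ^ (2 ^ (n + 1))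
  mem : a ∈ T
  norm : P ≤ Subgroup.normalizer ((Subgroup.zpowers a : Subgroup G) : Set G)
  outer : ∀ t ∈ T, t * a ^ (2 ^ n) * t⁻¹ = a ^ (2 ^ n) → t ∈ Subgroup.zpowers a

theorem exists_frame {P T : Subgroup G} (hP : IsPGroup 2 ↥P) (hTP : T ≤ P)
    (hTn : P ≤ Subgroup.normalizer (T : Set G))
    (hno : ∀ N : Subgroup G, N ≤ T → P ≤ Subgroup.normalizer (N : Set G) → (∀ x ∈ N, x * x = 1) →
      ∀ a ∈ N, ∀ b ∈ N, a ≠ 1 → b ≠ 1 → a = b)
    {e₁ e₂ : G} (he₁ : e₁ ∈ T) (he₂ : e₂ ∈ T) (h₁ : e₁ ≠ 1) (h₂ : e₂ ≠ 1) (hne : e₁ ≠ e₂)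
    (hsq₁ : e₁ * e₁ = 1) (hsq₂ : e₂ * e₂ = 1) :
    ∃ a z n, Frame P T a z n := by
  classical
  haveI : Fact (Nat.Prime 2) := ⟨Nat.prime_two⟩
  obtain ⟨R, -, ⟨hRT, hRn, hRc⟩, hmax⟩ := (Set.toFinite {B : Subgroup G | B ≤ T ∧
      P ≤ Subgroup.normalizer (B : Set G) ∧ ∀ x ∈ B, ∀ y ∈ B, x * y = y * x}).exists_le_maximal (a := ⊥)
    ⟨bot_le, fun q _ => by rw [← LocalEven.cj_eq_self_iff]; exact Subgroup.map_bot _, by
      intro x hx y _; rw [Subgroup.mem_bot] at hx; simp [hx]⟩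
  have hmax' : ∀ B : Subgroup G, R ≤ B → B ≤ T → P ≤ Subgroup.normalizer (B : Set G) →
      (∀ x ∈ B, ∀ y ∈ B, x * y = y * x) → B ≤ R := fun B h0 h1 h2 h3 => hmax ⟨h1, h2, h3⟩ h0
  let N : Subgroup G :=
    { carrier := {x | x ∈ R ∧ x * x = 1}
      one_mem' := ⟨R.one_mem, one_mul 1⟩
      mul_mem' := fun {x y} hx hy => ⟨R.mul_mem hx.1 hy.1, by
        rw [mul_assoc, ← mul_assoc y x y, hRc y hy.1 x hx.1, mul_assoc x y y, hy.2, mul_one, hx.2]⟩
      inv_mem' := fun {x} hx => ⟨R.inv_mem hx.1, by rw [← mul_inv_rev, hx.2, inv_one]⟩ }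
  have hNn : P ≤ Subgroup.normalizer (N : Set G) := fun q hq =>
    Coprime.mem_normalizer_of_conj_mem fun x hx =>
      ⟨(Subgroup.mem_normalizer_iff.mp (hRn hq) x).mp hx.1, by
        rw [show q * x * q⁻¹ * (q * x * q⁻¹) = q * (x * x) * q⁻¹ by group, hx.2]; group⟩
  have huni := hno N (fun x hx => hRT hx.1) hNn (fun x hx => hx.2)
  have hcyc : IsCyclic R := by
    refine OddLocal.isCyclic_of_uniqueOrderP (p := 2) (Nat.card R)
      (hP.to_le (hRT.trans hTP)) ?_ (Or.inr fun x y => Subtype.ext (hRc x x.2 y y.2)) le_rfl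
    intro x y hx hy hx1
    have hxN : (x : G) ∈ N := ⟨x.2, by rw [← pow_two]; exact congrArg Subtype.val hx⟩
    have hyN : (y : G) ∈ N := ⟨y.2, by rw [← pow_two]; exact congrArg Subtype.val hy⟩
    by_cases hy1 : y = 1
    · exact hy1 ▸ one_mem _
    · rw [Subtype.ext (huni x hxN y hyN (fun h => hx1 (Subtype.ext h)) fun h => hy1 (Subtype.ext h))]
      exact Subgroup.mem_zpowers _
  obtain ⟨a, rfl⟩ := (Subgroup.isCyclic_iff_exists_zpowers_eq_top R).mp hcyc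
  have haT : a ∈ T := hRT (Subgroup.mem_zpowers a)
  -- self-centralizing
  let C : Subgroup G := T ⊓ Subgroup.centralizer ((Subgroup.zpowers a : Subgroup G) : Set G)
  have hCR : C ≤ Subgroup.zpowers a := by
    by_contra hCR
    have hCn : P ≤ Subgroup.normalizer (C : Set G) :=
      (le_inf hTn (hRn.trans (fun q hq => Coprime.mem_normalizer_of_conj_mem fun x hx => by
        rw [Subgroup.mem_centralizer_iff] at hx ⊢
        intro y hy
        have h := hx _ ((Subgroup.mem_normalizer_iff''.mp hq y).mp hy)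
        calc y * (q * x * q⁻¹) = q * ((q⁻¹ * y * q) * x) * q⁻¹ := by group
          _ = q * (x * (q⁻¹ * y * q)) * q⁻¹ := by rw [h]
          _ = q * x * q⁻¹ * y := by group))).trans Subgroup.inf_normalizer_le_normalizer_inf
    obtain ⟨c, hc, hcR, -, hcc⟩ := exists_step hP (le_inf hRT (fun x hx =>
      Subgroup.mem_centralizer_iff.mpr fun y hy => hRc y hy x hx) : Subgroup.zpowers a ≤ C)
      (inf_le_left.trans hTP) hRn hCn hCR
    have hcen : ∀ y ∈ Subgroup.zpowers a, y * c = c * y := Subgroup.mem_centralizer_iff.mp hc.2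
    set B := Subgroup.closure ({a, c} : Set G)
    have haB : a ∈ B := Subgroup.subset_closure (by simp)
    have hcB : c ∈ B := Subgroup.subset_closure (by simp)
    refine hcR (hmax' B (Subgroup.zpowers_le.mpr haB) ?_ ?_ ?_ hcB)
    · rw [Subgroup.closure_le]
      rintro x (rfl | rfl)
      exacts [haT, hc.1]
    · intro q hq
      rw [← LocalEven.cj_eq_self_iff]
      refine Subgroup.eq_of_le_of_card_ge ?_ (LocalEven.card_cj q B).ge
      rw [LocalEven.cj, MonoidHom.map_closure, Subgroup.closure_le]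
      rintro _ ⟨x, rfl | rfl, rfl⟩
      · exact Subgroup.zpowers_le.mpr haB
          ((Subgroup.mem_normalizer_iff.mp (hRn hq) x).mp (Subgroup.mem_zpowers x))
      · show q * x * q⁻¹ ∈ B
        have := B.mul_mem hcB (Subgroup.zpowers_le.mpr haB (hcc q hq))
        rwa [mul_inv_cancel_left] at this
    · intro x hx y hy
      refine Subgroup.closure_induction₂ (p := fun x y _ _ => Commute x y) ?_
        (fun x _ => Commute.one_left x) (fun x _ => Commute.one_right x)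
        (fun _ _ _ _ _ _ h1 h2 => Commute.mul_left h1 h2) (fun _ _ _ _ _ _ h1 h2 => Commute.mul_right h1 h2)
        (fun _ _ _ _ h => h.inv_left) (fun _ _ _ _ h => h.inv_right) hx hy
      rintro x y (rfl | rfl) (rfl | rfl)
      exacts [Commute.refl _, hcen _ (Subgroup.mem_zpowers _),
        (show Commute _ _ from hcen _ (Subgroup.mem_zpowers _)).symm, Commute.refl _]
  obtain ⟨m, hm⟩ := IsPGroup.iff_orderOf.mp hP ⟨a, hTP haT⟩
  rw [Subgroup.orderOf_mk] at hm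
  have hm2 : 2 ≤ m := by
    by_contra hcon
    have hao : a * a = 1 := by
      rw [← pow_two, ← orderOf_dvd_iff_pow_eq_one, hm]
      calc 2 ^ m ∣ 2 ^ 1 := pow_dvd_pow 2 (by omega)
        _ = 2 := rfl
    -- then `a` is centralized by `T`, so `T ≤ ⟨a⟩`
    have hfix : ∀ t ∈ T, t * a * t⁻¹ = a := by
      intro t ht
      obtain ⟨i, hi⟩ := (Subgroup.mem_normalizer_iff.mp (hRn (hTP ht)) a).mp (Subgroup.mem_zpowers a)
      have hi' : a ^ i = t * a * t⁻¹ := hi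
      by_cases ha1 : a = 1
      · subst ha1; simp
      · rcases Int.even_or_odd' i with ⟨j, rfl | rfl⟩
        · rw [zpow_mul, zpow_two, hao, one_zpow] at hi'
          exact absurd (by rwa [eq_comm, mul_inv_eq_one, mul_eq_left] at hi') ha1
        · rw [zpow_add_one, zpow_mul, zpow_two, hao, one_zpow, one_mul] at hi'
          exact hi'.symm
    have hTa : ∀ t ∈ T, t ∈ Subgroup.zpowers a := fun t ht => hCR ⟨ht, Subgroup.mem_centralizer_iff.mpr (by
      rintro _ ⟨i, rfl⟩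
      exact ((show Commute t a from mul_inv_eq_iff_eq_mul.mp (hfix t ht)).zpow_right i).symm.eq)⟩
    exact hne (huni e₁ ⟨hTa _ he₁, hsq₁⟩ e₂ ⟨hTa _ he₂, hsq₂⟩ h₁ h₂)
  obtain ⟨n, rfl⟩ : ∃ n, m = n + 2 := ⟨m - 2, by omega⟩
  refine ⟨a, a ^ (2 ^ (n + 1)), n, hm, rfl, haT, hRn, ?_⟩
  set f := a ^ (2 ^ n) with hf
  have hff : f * f = a ^ (2 ^ (n + 1)) := by rw [hf, ← pow_add, ← two_mul, ← pow_succ']
  have hz2 : a ^ (2 ^ (n + 1)) * a ^ (2 ^ (n + 1)) = 1 := by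
    rw [← pow_add, ← two_mul, ← pow_succ', ← hm, pow_orderOf_eq_one]
  have hfN : ∀ x ∈ P, x * f * x⁻¹ ∈ Subgroup.zpowers a := fun x hx =>
    (Subgroup.mem_normalizer_iff.mp (hRn hx) f).mp (Subgroup.pow_mem _ (Subgroup.mem_zpowers a) _)
  have hz1 : a ^ (2 ^ (n + 1)) ≠ 1 := fun h =>
    Nat.not_dvd_of_pos_of_lt (by positivity) (Nat.pow_lt_pow_right one_lt_two (by omega))
      (hm ▸ orderOf_dvd_of_pow_eq_one h : 2 ^ (n + 2) ∣ 2 ^ (n + 1))
  have hzfix : ∀ x ∈ P, x * a ^ (2 ^ (n + 1)) * x⁻¹ = a ^ (2 ^ (n + 1)) := by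
    intro x hx
    refine huni _ ⟨(Subgroup.mem_normalizer_iff.mp (hRn hx) _).mp
      (Subgroup.pow_mem _ (Subgroup.mem_zpowers a) _), ?_⟩ _
      ⟨Subgroup.pow_mem _ (Subgroup.mem_zpowers a) _, hz2⟩ ?_ hz1
    · calc x * a ^ (2 ^ (n + 1)) * x⁻¹ * (x * a ^ (2 ^ (n + 1)) * x⁻¹)
          = x * (a ^ (2 ^ (n + 1)) * a ^ (2 ^ (n + 1))) * x⁻¹ := by group
        _ = 1 := by rw [hz2]; group
    · intro h
      exact hz1 (by rwa [mul_inv_eq_one, mul_eq_left] at h)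
  intro t ht htf
  by_contra htR
  let D : Subgroup G :=
    { carrier := {x | x ∈ T ∧ x * f * x⁻¹ = f}
      one_mem' := ⟨T.one_mem, by group⟩
      mul_mem' := fun {x y} hx hy => ⟨T.mul_mem hx.1 hy.1, by
        rw [show x * y * f * (x * y)⁻¹ = x * (y * f * y⁻¹) * x⁻¹ by group, hy.2, hx.2]⟩
      inv_mem' := fun {x} hx => ⟨T.inv_mem hx.1, by
        conv_lhs => rw [← hx.2]
        group⟩ }
  have hRD : Subgroup.zpowers a ≤ D := fun x hx => ⟨hRT hx, by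
    rw [hRc x hx f (Subgroup.pow_mem _ (Subgroup.mem_zpowers a) _), mul_inv_cancel_right]⟩
  have hDn : P ≤ Subgroup.normalizer (D : Set G) := fun q hq =>
    Coprime.mem_normalizer_of_conj_mem fun x hx => by
      refine ⟨(Subgroup.mem_normalizer_iff.mp (hTn hq) x).mp hx.1, ?_⟩
      obtain ⟨i, hi⟩ := hfN q⁻¹ (P.inv_mem hq)
      have hcomm : x * (q⁻¹ * f * q) * x⁻¹ = q⁻¹ * f * q := by
        have h0 : q⁻¹ * f * q = q⁻¹ * f * q⁻¹⁻¹ := by rw [inv_inv]
        -- `q⁻¹ f q` is a power of `a` whose square is `z`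
        have h1 : (q⁻¹ * f * q) * (q⁻¹ * f * q) = f * f := by
          rw [show q⁻¹ * f * q * (q⁻¹ * f * q) = q⁻¹ * (f * f) * q⁻¹⁻¹ by group, hff,
            hzfix q⁻¹ (P.inv_mem hq)]
        have h2 : q⁻¹ * f * q ∈ Subgroup.zpowers a := h0 ▸ hfN q⁻¹ (P.inv_mem hq)
        have hfm : f ∈ Subgroup.zpowers a := Subgroup.pow_mem _ (Subgroup.mem_zpowers a) _
        by_cases h3 : q⁻¹ * f * q = f
        · rw [h3, hx.2]
        have h4 : q⁻¹ * f * q * f⁻¹ = a ^ (2 ^ (n + 1)) := by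
          refine huni _ ⟨mul_mem h2 (inv_mem hfm), ?_⟩ _ ⟨Subgroup.pow_mem _ (Subgroup.mem_zpowers a) _, hz2⟩
            (fun h => h3 (mul_inv_eq_one.mp h)) hz1
          have hc : f⁻¹ * (q⁻¹ * f * q) = q⁻¹ * f * q * f⁻¹ := hRc _ (inv_mem hfm) _ h2
          rw [mul_assoc, ← mul_assoc f⁻¹, hc, mul_assoc _ f⁻¹ f⁻¹, ← mul_assoc, h1]
          group
        rw [show q⁻¹ * f * q = q⁻¹ * f * q * f⁻¹ * f by group, h4,
          show x * (a ^ (2 ^ (n + 1)) * f) * x⁻¹ = x * a ^ (2 ^ (n + 1)) * x⁻¹ * (x * f * x⁻¹) by group,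
          hzfix x (hTP hx.1), hx.2]
      calc q * x * q⁻¹ * f * (q * x * q⁻¹)⁻¹ = q * (x * (q⁻¹ * f * q) * x⁻¹) * q⁻¹ := by group
        _ = f := by rw [hcomm]; group
  obtain ⟨c, hc, hcR, hc2, hcc⟩ := exists_step hP hRD ((fun x hx => hTP hx.1) : D ≤ P) hRn hDn
    (fun h => htR (h ⟨ht, htf⟩))
  have hzR : a ^ (2 ^ (n + 1)) ∈ Subgroup.zpowers a := Subgroup.pow_mem _ (Subgroup.mem_zpowers a) _
  have hgg : c * c * a * (c * c)⁻¹ = a := by
    rw [hRc _ hc2 a (Subgroup.mem_zpowers a), mul_inv_cancel_right]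
  have hγ : c * a * c⁻¹ = a * a ^ (2 ^ (n + 1)) ∧ 1 ≤ n := by
    have hcf : c * f * c⁻¹ = f := hc.2
    have hconj : c * f * c⁻¹ = (c * a * c⁻¹) ^ (2 ^ n) := by rw [hf, conj_pow]
    rcases conj_gen_cases (n := n + 1) hm ((Subgroup.mem_normalizer_iff.mp (hRn (hTP hc.1)) a).mp
        (Subgroup.mem_zpowers a)) hgg with e | e | e | e
    · exact absurd (hCR ⟨hc.1, Subgroup.mem_centralizer_iff.mpr (by
        rintro _ ⟨i, rfl⟩
        exact ((show Commute c a from mul_inv_eq_iff_eq_mul.mp e).zpow_right i).symm.eq)⟩) hcR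
    · rw [hcf, e, inv_pow, ← hf] at hconj
      exact absurd (hff ▸ mul_eq_one_iff_eq_inv.mpr hconj) hz1
    · refine ⟨e, Nat.one_le_iff_ne_zero.mpr fun hn0 => ?_⟩
      rw [hcf, e, hf, hn0] at hconj
      simp only [pow_zero, pow_one] at hconj
      rw [hn0] at hz1
      exact hz1 (by simpa using mul_eq_left.mp hconj.symm)
    · rw [hcf, e, (show Commute a⁻¹ (a ^ (2 ^ (n + 1))) from ((Commute.refl a).pow_right _).inv_left).mul_pow,
        inv_pow, ← hf] at hconj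
      rcases Nat.eq_zero_or_pos n with hn0 | hn0
      · exfalso
        subst hn0
        apply hcR
        refine hCR ⟨hc.1, Subgroup.mem_centralizer_iff.mpr ?_⟩
        rintro _ ⟨i, rfl⟩
        have e' : c * a * c⁻¹ = a := by
          have : f = a := by rw [hf]; simp
          rw [← this]; exact hcf
        exact ((show Commute c a from mul_inv_eq_iff_eq_mul.mp e').zpow_right i).symm.eq
      · have hpow : (a ^ (2 ^ (n + 1))) ^ (2 ^ n) = 1 := by
          rw [← pow_mul, ← orderOf_dvd_iff_pow_eq_one, hm, ← pow_add]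
          exact pow_dvd_pow 2 (by omega)
        rw [hpow, mul_one] at hconj
        exact absurd (hff ▸ mul_eq_one_iff_eq_inv.mpr hconj) hz1
  obtain ⟨hγ, hn1⟩ := hγ
  have hcpow : ∀ i : ℤ, c * a ^ i * c⁻¹ = a ^ i * (a ^ (2 ^ (n + 1))) ^ i := fun i => by
    rw [← conj_zpow, hγ, (show Commute a (a ^ (2 ^ (n + 1))) from (Commute.refl a).pow_right _).mul_zpow]
  set z := a ^ (2 ^ (n + 1)) with hzdef
  have hzev : ∀ j : ℤ, z ^ (2 * j) = 1 := fun j => by rw [zpow_mul, zpow_two, hz2, one_zpow]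
  obtain ⟨k, hk⟩ := hc2
  have hk' : a ^ k = c * c := hk
  have hkev : ∃ j, k = 2 * j := by
    rcases Int.even_or_odd' k with ⟨j, hj | hj⟩
    · exact ⟨j, hj⟩
    · exfalso
      have h1 : c * (c * c) * c⁻¹ = c * c := by group
      rw [← hk', hcpow, mul_eq_left, hj, zpow_add, hzev, one_mul, zpow_one] at h1
      exact hz1 h1
  obtain ⟨j, rfl⟩ := hkev
  have hsqc : ∀ l : ℤ, a ^ l * c * (a ^ l * c) = a ^ (2 * l) * z ^ l * (c * c) := fun l => by
    calc a ^ l * c * (a ^ l * c) = a ^ l * (c * a ^ l * c⁻¹) * (c * c) := by group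
      _ = a ^ (2 * l) * z ^ l * (c * c) := by rw [hcpow, two_mul, zpow_add]; group
  obtain ⟨l, hl⟩ : ∃ l : ℤ, a ^ (2 * l) * z ^ l * (c * c) = 1 := by
    have hzj : ∀ i : ℤ, z ^ (-j + 2 * i) = z ^ (-j) := fun i => by rw [zpow_add, hzev, mul_one]
    rcases Int.even_or_odd' j with ⟨i, hi | hi⟩
    · refine ⟨-j, ?_⟩
      rw [← hk', show z ^ (-j) = 1 by rw [hi, show -(2 * i) = 2 * -i by ring, hzev], mul_one, ← zpow_add]
      simp
    · obtain ⟨q, hq⟩ : ∃ q, n = q + 1 := ⟨n - 1, by omega⟩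
      refine ⟨-j + 2 * (2 : ℤ) ^ q, ?_⟩
      have hzz : z ^ (-j + 2 * (2 : ℤ) ^ q) = z := by
        rw [hzj, hi, show -(2 * i + 1) = 2 * (-i - 1) + 1 by ring, zpow_add, hzev, one_mul, zpow_one]
      rw [← hk', hzz]
      calc a ^ (2 * (-j + 2 * (2 : ℤ) ^ q)) * z * a ^ (2 * j)
          = a ^ (2 * (-j + 2 * (2 : ℤ) ^ q)) * a ^ (2 * j) * z := by
            rw [mul_assoc, hRc z hzR _ (Subgroup.zpow_mem _ (Subgroup.mem_zpowers a) _), ← mul_assoc]
        _ = 1 := by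
            rw [← zpow_add, show 2 * (-j + 2 * (2 : ℤ) ^ q) + 2 * j = ((2 ^ (n + 1) : ℕ) : ℤ) by
              rw [hq]; push_cast; ring, zpow_natCast, ← hzdef, hz2]
  set c' := a ^ l * c with hc'
  have hc'2 : c' * c' = 1 := (hsqc l).trans hl
  have hc'R : c' ∉ Subgroup.zpowers a := fun h => hcR (by
    have := mul_mem (Subgroup.zpow_mem _ (Subgroup.mem_zpowers a) (-l)) h
    rwa [hc', ← mul_assoc, ← zpow_add, neg_add_cancel, zpow_zero, one_mul] at this)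
  have hc'z : c' * z = z * c' := by
    have h1 : c * z * c⁻¹ = z := hzfix c (hTP hc.1)
    rw [hc', mul_assoc, mul_inv_eq_iff_eq_mul.mp h1, ← mul_assoc,
      hRc _ (Subgroup.zpow_mem _ (Subgroup.mem_zpowers a) l) z hzR, mul_assoc]
  have hinvol : ∀ i : ℤ, a ^ i * c' * (a ^ i * c') = 1 → a ^ i * c' = c' ∨ a ^ i * c' = z * c' := by
    intro i hi
    have hcl : ∀ y : ℤ, c' * a ^ y * c'⁻¹ = a ^ y * z ^ y := fun y => by
      rw [hc', show a ^ l * c * a ^ y * (a ^ l * c)⁻¹ = a ^ l * (c * a ^ y * c⁻¹) * (a ^ l)⁻¹ by group, hcpow]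
      rw [hRc (a ^ l) (Subgroup.zpow_mem _ (Subgroup.mem_zpowers a) l) _
        (mul_mem (Subgroup.zpow_mem _ (Subgroup.mem_zpowers a) y) (Subgroup.zpow_mem _ hzR y)),
        mul_inv_cancel_right]
    have h1 : a ^ (2 * i) * z ^ i = 1 := by
      rw [← hi, show a ^ i * c' * (a ^ i * c') = a ^ i * (c' * a ^ i * c'⁻¹) * (c' * c') by group, hcl,
        hc'2, two_mul, zpow_add]
      group
    have h2 : a ^ i * a ^ i = 1 := by
      rcases Int.even_or_odd' i with ⟨r, hr | hr⟩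
      · rw [← zpow_add, ← two_mul]
        rwa [hr, hzev, mul_one, ← hr] at h1
      · exfalso
        have h3 : (2 ^ (n + 2) : ℤ) ∣ 2 * i + 2 ^ (n + 1) := by
          have : a ^ (2 * i + ((2 ^ (n + 1) : ℕ) : ℤ)) = 1 := by
            rw [zpow_add, zpow_natCast, ← hzdef]
            rwa [hr, zpow_add, hzev, one_mul, zpow_one, ← hr] at h1
          have h4 := orderOf_dvd_iff_zpow_eq_one.mpr this
          rw [hm] at h4
          push_cast at h4
          exact h4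
        obtain ⟨q, hq⟩ : ∃ q, n = q + 1 := ⟨n - 1, by omega⟩
        rw [hq, show q + 1 + 2 = q + 2 + 1 by omega, pow_succ' (2 : ℤ) (q + 2),
          pow_succ' (2 : ℤ) (q + 1)] at h3
        rw [← mul_add] at h3
        have h5 := Int.dvd_of_mul_dvd_mul_left (by norm_num) h3
        have h6 : (2 : ℤ) ∣ i + 2 ^ (q + 1) := (dvd_mul_right (2 : ℤ) (2 ^ (q + 1))).trans h5
        have h7 : (2 : ℤ) ∣ 2 ^ (q + 1) := dvd_pow_self 2 (by omega)
        generalize (2 : ℤ) ^ (q + 1) = w at h6 h7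
        omega
    by_cases h3 : a ^ i = 1
    · left; rw [h3, one_mul]
    · right
      rw [huni _ ⟨Subgroup.zpow_mem _ (Subgroup.mem_zpowers a) i, h2⟩ _ ⟨hzR, hz2⟩ h3 hz1]
  -- the involutions of `⟨a, c⟩` form a normal four-group
  let V : Subgroup G :=
    { carrier := {x | x = 1 ∨ x = z ∨ x = c' ∨ x = z * c'}
      one_mem' := Or.inl rfl
      mul_mem' := by
        have e1 : z * (z * c') = c' := by rw [← mul_assoc, hz2, one_mul]
        have e2 : c' * (z * c') = z := by rw [← mul_assoc, hc'z, mul_assoc, hc'2, mul_one]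
        have e3 : z * c' * z = c' := by rw [mul_assoc, hc'z, e1]
        have e4 : z * c' * c' = z := by rw [mul_assoc, hc'2, mul_one]
        have e5 : z * c' * (z * c') = 1 := by rw [← mul_assoc, e3, hc'2]
        rintro x y (rfl | rfl | rfl | rfl) (rfl | rfl | rfl | rfl) <;>
          simp only [one_mul, mul_one, hz2, hc'2, e1, e2, e3, e4, e5, hc'z, Set.mem_ofPred_eq] <;> tauto
      inv_mem' := by
        rintro x (rfl | rfl | rfl | rfl)
        · left; exact inv_one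
        · right; left; exact inv_eq_of_mul_eq_one_right hz2
        · right; right; left; exact inv_eq_of_mul_eq_one_right hc'2
        · right; right; right
          exact inv_eq_of_mul_eq_one_right (by
            rw [mul_assoc z c', ← mul_assoc c', hc'z, mul_assoc, hc'2, mul_one, hz2]) }
  have hVsq : ∀ x ∈ V, x * x = 1 := by
    rintro x (rfl | rfl | rfl | rfl)
    · exact one_mul 1
    · exact hz2
    · exact hc'2
    · rw [mul_assoc z c', ← mul_assoc c', hc'z, mul_assoc, hc'2, mul_one, hz2]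
  have hc'T : c' ∈ T := T.mul_mem (T.zpow_mem haT l) hc.1
  have hVT : V ≤ T := by
    rintro x (rfl | rfl | rfl | rfl)
    exacts [T.one_mem, hRT hzR, hc'T, T.mul_mem (hRT hzR) hc'T]
  have hVn : P ≤ Subgroup.normalizer (V : Set G) := fun q hq => by
    refine Coprime.mem_normalizer_of_conj_mem fun x hx => ?_
    have key : ∀ x, x = c' ∨ x = z * c' → q * x * q⁻¹ ∈ V := by
      intro x hx
      have hxR : ∃ i : ℤ, q * x * q⁻¹ = a ^ i * c' := by
        have h1 : q * c * q⁻¹ = c * (c⁻¹ * (q * c * q⁻¹)) := by group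
        obtain ⟨i₁, hi₁⟩ := hcc q hq
        have hi₁' : a ^ i₁ = c⁻¹ * (q * c * q⁻¹) := hi₁
        obtain ⟨i₂, hi₂⟩ := (Subgroup.mem_normalizer_iff.mp (hRn hq) (a ^ l)).mp
          (Subgroup.zpow_mem _ (Subgroup.mem_zpowers a) l)
        have hi₂' : a ^ i₂ = q * a ^ l * q⁻¹ := hi₂
        have h2 : q * c' * q⁻¹ ∈ (fun y => y * c) '' (Subgroup.zpowers a : Set G) := by
          refine ⟨a ^ i₂ * (a ^ i₁ * z ^ i₁), mul_mem (Subgroup.zpow_mem _ (Subgroup.mem_zpowers a) _)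
            (mul_mem (Subgroup.zpow_mem _ (Subgroup.mem_zpowers a) _) (Subgroup.zpow_mem _ hzR _)), ?_⟩
          show a ^ i₂ * (a ^ i₁ * z ^ i₁) * c = q * c' * q⁻¹
          rw [← hcpow, hi₂', hi₁', hc']
          group
        obtain ⟨y, hy, he⟩ := h2
        have he' : y * c = q * c' * q⁻¹ := he
        obtain ⟨i₃, hi₃⟩ : y * (a ^ l)⁻¹ ∈ Subgroup.zpowers a :=
          mul_mem hy (inv_mem (Subgroup.zpow_mem _ (Subgroup.mem_zpowers a) l))
        have hi₃' : a ^ i₃ = y * (a ^ l)⁻¹ := hi₃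
        have hqc : q * c' * q⁻¹ = a ^ i₃ * c' := by rw [hi₃', hc', ← he']; group
        rcases hx with rfl | rfl
        · exact ⟨i₃, hqc⟩
        · refine ⟨((2 ^ (n + 1) : ℕ) : ℤ) + i₃, ?_⟩
          rw [show q * (z * c') * q⁻¹ = q * z * q⁻¹ * (q * c' * q⁻¹) by group, hzfix q hq, hqc,
            zpow_add, zpow_natCast, ← hzdef]
          group
      obtain ⟨i, hi⟩ := hxR
      have hxV : x ∈ V := hx.elim (fun h => Or.inr (Or.inr (Or.inl h))) (fun h => Or.inr (Or.inr (Or.inr h)))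
      have h2 : q * x * q⁻¹ * (q * x * q⁻¹) = 1 := by
        rw [show q * x * q⁻¹ * (q * x * q⁻¹) = q * (x * x) * q⁻¹ by group, hVsq x hxV]; group
      rw [hi] at h2 ⊢
      rcases hinvol i h2 with e | e <;> rw [e]
      exacts [Or.inr (Or.inr (Or.inl rfl)), Or.inr (Or.inr (Or.inr rfl))]
    rcases hx with rfl | rfl | hx
    · exact Or.inl (by group)
    · exact Or.inr (Or.inl (hzfix q hq))
    · exact key x hx
  exact hc'R ((hno V hVT hVn hVsq z (Or.inr (Or.inl rfl)) c' (Or.inr (Or.inr (Or.inl rfl))) hz1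
    (fun h => hc'R (h ▸ one_mem _))).symm ▸ hzR)

end Cfsg.Agent.Components.RankOneDescent

namespace Cfsg.Agent.Components.RankOneDescent

variable {G : Type*} [Group G] [Finite G]

open scoped commutatorElement

/-- `{1, z, s, s z}` as a subgroup. -/
def four (z s : G) (hz : z * z = 1) (hs : s * s = 1) (h : z * s = s * z) : Subgroup G where
  carrier := {x | x = 1 ∨ x = z ∨ x = s ∨ x = s * z}
  one_mem' := Or.inl rfl
  mul_mem' := by
    have e1 : z * (s * z) = s := by rw [← mul_assoc, h, mul_assoc, hz, mul_one]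
    have e2 : s * (s * z) = z := by rw [← mul_assoc, hs, one_mul]
    have e3 : s * z * z = s := by rw [mul_assoc, hz, mul_one]
    have e4 : s * z * s = z := by rw [mul_assoc, h, e2]
    have e5 : s * z * (s * z) = 1 := by rw [← mul_assoc, e4, hz]
    rintro x y (rfl | rfl | rfl | rfl) (rfl | rfl | rfl | rfl) <;>
      simp only [one_mul, mul_one, hz, hs, e1, e2, e3, e4, e5, h, Set.mem_ofPred_eq] <;> tauto
  inv_mem' := by
    rintro x (rfl | rfl | rfl | rfl)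
    · left; exact inv_one
    · right; left; exact inv_eq_of_mul_eq_one_right hz
    · right; right; left; exact inv_eq_of_mul_eq_one_right hs
    · right; right; right
      exact inv_eq_of_mul_eq_one_right (by
        rw [mul_assoc s z, ← mul_assoc z, h, mul_assoc s z z, hz, mul_one, hs])

namespace Frame

variable {P T : Subgroup G} {a z : G} {n : ℕ}

theorem zpow_eq (F : Frame P T a z n) {i j : ℤ} :
    a ^ i = a ^ j ↔ (2 : ℤ) ^ (n + 2) ∣ i - j := by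
  rw [zpow_eq_zpow_iff_modEq, F.ord, Int.modEq_iff_dvd, ← dvd_neg, neg_sub]
  push_cast
  rfl

theorem z_zpow (F : Frame P T a z n) : z = a ^ ((2 : ℤ) ^ (n + 1)) := by
  rw [F.hz, ← zpow_natCast]; norm_cast

theorem z_mem (F : Frame P T a z n) : z ∈ Subgroup.zpowers a := ⟨_, F.z_zpow.symm⟩

theorem z_sq (F : Frame P T a z n) : z * z = 1 := by
  rw [F.z_zpow, ← zpow_add, ← zpow_zero a, F.zpow_eq, sub_zero, ← two_mul, ← pow_succ']

theorem z_ne (F : Frame P T a z n) : z ≠ 1 := by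
  rw [F.hz]
  intro h
  have h1 := orderOf_dvd_of_pow_eq_one h
  rw [F.ord] at h1
  exact Nat.not_dvd_of_pos_of_lt (by positivity) (Nat.pow_lt_pow_right one_lt_two (by omega)) h1

theorem z_even (F : Frame P T a z n) (j : ℤ) : z ^ (2 * j) = 1 := by
  rw [zpow_mul, zpow_two, F.z_sq, one_zpow]

theorem z_odd (F : Frame P T a z n) (j : ℤ) : z ^ (2 * j + 1) = z := by
  rw [zpow_add_one, F.z_even, one_mul]

theorem sq_cases (F : Frame P T a z n) {x : G} (hx : x ∈ Subgroup.zpowers a) (h : x * x = 1) :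
    x = 1 ∨ x = z := by
  obtain ⟨i, rfl⟩ := hx
  have h1 : a ^ (i + i) = a ^ (0 : ℤ) := by rw [zpow_add, zpow_zero]; exact h
  rw [F.zpow_eq, sub_zero, ← two_mul, pow_succ' (2 : ℤ) (n + 1)] at h1
  obtain ⟨q, hq⟩ := Int.dvd_of_mul_dvd_mul_left (by norm_num) h1
  have e : a ^ i = z ^ q := by rw [F.z_zpow, ← zpow_mul, ← hq]
  show a ^ i = 1 ∨ a ^ i = z
  rw [e]
  rcases Int.even_or_odd' q with ⟨r, rfl | rfl⟩
  exacts [Or.inl (F.z_even r), Or.inr (F.z_odd r)]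

theorem R_comm (_F : Frame P T a z n) {x y : G} (hx : x ∈ Subgroup.zpowers a)
    (hy : y ∈ Subgroup.zpowers a) : x * y = y * x := by
  obtain ⟨i, rfl⟩ := hx
  obtain ⟨j, rfl⟩ := hy
  exact ((Commute.refl a).zpow_zpow i j).eq

theorem conj_mem (F : Frame P T a z n) {q x : G} (hq : q ∈ P) (hx : x ∈ Subgroup.zpowers a) :
    q * x * q⁻¹ ∈ Subgroup.zpowers a := (Subgroup.mem_normalizer_iff.mp (F.norm hq) x).mp hx

theorem z_fix (F : Frame P T a z n) {q : G} (hq : q ∈ P) : q * z * q⁻¹ = z := by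
  refine (F.sq_cases (F.conj_mem hq F.z_mem) ?_).resolve_left fun h => F.z_ne ?_
  · rw [show q * z * q⁻¹ * (q * z * q⁻¹) = q * (z * z) * q⁻¹ by group, F.z_sq]; group
  · rwa [mul_inv_eq_one, mul_eq_left] at h

theorem f_sq (F : Frame P T a z n) : a ^ (2 ^ n) * a ^ (2 ^ n) = z := by
  rw [F.hz, ← pow_add, ← two_mul, ← pow_succ']

theorem f_cases (F : Frame P T a z n) {q : G} (hq : q ∈ P) :
    q * a ^ (2 ^ n) * q⁻¹ = a ^ (2 ^ n) ∨ q * a ^ (2 ^ n) * q⁻¹ = (a ^ (2 ^ n))⁻¹ := by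
  set f := a ^ (2 ^ n)
  have hf : f ∈ Subgroup.zpowers a := Subgroup.pow_mem _ (Subgroup.mem_zpowers a) _
  have hg := F.conj_mem hq hf
  have h1 : q * f * q⁻¹ * (q * f * q⁻¹) = f * f := by
    rw [show q * f * q⁻¹ * (q * f * q⁻¹) = q * (f * f) * q⁻¹ by group, F.f_sq, F.z_fix hq]
  rcases F.sq_cases (mul_mem hg (inv_mem hf)) (by
      have hc := F.R_comm (inv_mem hf) hg
      rw [mul_assoc, ← mul_assoc f⁻¹, hc, mul_assoc _ f⁻¹ f⁻¹, ← mul_assoc, h1]
      group) with e | e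
  · exact Or.inl (mul_inv_eq_one.mp e)
  · right
    rw [mul_inv_eq_iff_eq_mul.mp e]
    refine eq_inv_of_mul_eq_one_left ?_
    rw [mul_assoc, F.f_sq, F.z_sq]

/-- The action of an involutive element of `P` on `⟨a⟩`. -/
theorem act_cases (F : Frame P T a z n) {q : G} (hq : q ∈ P) (hqq : q * q * a * (q * q)⁻¹ = a) :
    q * a * q⁻¹ = a ∨ q * a * q⁻¹ = a⁻¹ ∨ q * a * q⁻¹ = a * z ∨ q * a * q⁻¹ = a⁻¹ * z := by
  rw [F.hz]
  exact conj_gen_cases (n := n + 1) F.ord (F.conj_mem hq (Subgroup.mem_zpowers a)) hqq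

theorem n_zero (F : Frame P T a z n) (hn : n = 0) : a * z = a⁻¹ := by
  have h : a ^ (4 : ℕ) = 1 := by
    have := pow_orderOf_eq_one a
    rw [F.ord, hn] at this
    exact this
  refine eq_inv_of_mul_eq_one_left ?_
  rw [F.hz, hn, show a * a ^ 2 ^ (0 + 1) * a = a ^ (4 : ℕ) by
    simp only [zero_add, pow_one, pow_succ, pow_zero, one_mul, mul_assoc]]
  exact h

/-- An involutive element of `P` fixing the element of order four. -/
theorem fix_cases (F : Frame P T a z n) {q : G} (hq : q ∈ P) (hqq : q * q * a * (q * q)⁻¹ = a)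
    (hf : q * a ^ (2 ^ n) * q⁻¹ = a ^ (2 ^ n)) :
    q * a * q⁻¹ = a ∨ (q * a * q⁻¹ = a * z ∧ n ≠ 0) := by
  have hne : (a ^ (2 ^ n))⁻¹ ≠ a ^ (2 ^ n) := fun h => F.z_ne (by
    rw [← F.f_sq]; exact eq_inv_iff_mul_eq_one.mp h.symm)
  have hconj : q * a ^ (2 ^ n) * q⁻¹ = (q * a * q⁻¹) ^ (2 ^ n) := by rw [conj_pow]
  rcases F.act_cases hq hqq with e | e | e | e
  · exact Or.inl e
  · rw [hf, e, inv_pow] at hconj
    exact absurd hconj.symm hne
  · by_cases hn : n = 0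
    · rw [hf, e, F.n_zero hn, inv_pow] at hconj
      exact absurd hconj.symm hne
    · exact Or.inr ⟨e, hn⟩
  · by_cases hn : n = 0
    · left
      rw [e, ← F.n_zero hn, mul_assoc, F.z_sq, mul_one]
    · rw [hf, e, (show Commute a⁻¹ z from F.R_comm (inv_mem (Subgroup.mem_zpowers a)) F.z_mem).mul_pow,
        inv_pow] at hconj
      obtain ⟨m, rfl⟩ := Nat.exists_eq_succ_of_ne_zero hn
      have hp : z ^ (2 ^ (m + 1)) = 1 := by
        rw [pow_succ', pow_mul, pow_two, F.z_sq, one_pow]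
      rw [hp, mul_one] at hconj
      exact absurd hconj.symm hne

theorem outer_cases (F : Frame P T a z n) (hTP : T ≤ P) {t : G} (ht : t ∈ T)
    (htR : t ∉ Subgroup.zpowers a) (htt : t * t ∈ Subgroup.zpowers a) :
    t * a * t⁻¹ = a⁻¹ ∨ (t * a * t⁻¹ = a⁻¹ * z ∧ n ≠ 0) := by
  have hgg : t * t * a * (t * t)⁻¹ = a := by
    rw [F.R_comm htt (Subgroup.mem_zpowers a), mul_inv_cancel_right]
  have hne : t * a * t⁻¹ ≠ a := fun h => htR (F.outer t ht (by rw [← conj_pow, h]))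
  rcases F.act_cases (hTP ht) hgg with e | e | e | e
  · exact absurd e hne
  · exact Or.inl e
  · by_cases hn : n = 0
    · exact Or.inl (e.trans (F.n_zero hn))
    · exfalso
      refine htR (F.outer t ht ?_)
      rw [← conj_pow, e, (show Commute a z from F.R_comm (Subgroup.mem_zpowers a) F.z_mem).mul_pow]
      obtain ⟨m, rfl⟩ := Nat.exists_eq_succ_of_ne_zero hn
      rw [show z ^ (2 ^ (m + 1)) = 1 by rw [pow_succ', pow_mul, pow_two, F.z_sq, one_pow], mul_one]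
  · by_cases hn : n = 0
    · exact absurd (by rw [e, ← F.n_zero hn, mul_assoc, F.z_sq, mul_one]) hne
    · exact Or.inr ⟨e, hn⟩

theorem index_two (F : Frame P T a z n) (hTP : T ≤ P) {t₁ t₂ : G} (h₁ : t₁ ∈ T) (h₂ : t₂ ∈ T)
    (g₁ : t₁ ∉ Subgroup.zpowers a) (g₂ : t₂ ∉ Subgroup.zpowers a) :
    t₁ * t₂ ∈ Subgroup.zpowers a := by
  refine F.outer _ (T.mul_mem h₁ h₂) ?_
  have e₁ := (F.f_cases (hTP h₁)).resolve_left fun h => g₁ (F.outer t₁ h₁ h)
  have e₂ := (F.f_cases (hTP h₂)).resolve_left fun h => g₂ (F.outer t₂ h₂ h)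
  rw [show t₁ * t₂ * a ^ 2 ^ n * (t₁ * t₂)⁻¹ = t₁ * (t₂ * a ^ 2 ^ n * t₂⁻¹) * t₁⁻¹ by group, e₂,
    ← conj_inv, e₁, inv_inv]

theorem sq_of_eq (F : Frame P T a z n) (hn : n ≠ 0) {i : ℤ} (h : a ^ (2 * i) = z ^ i) :
    a ^ i * a ^ i = 1 := by
  rw [← zpow_add, ← two_mul]
  rcases Int.even_or_odd' i with ⟨r, hr | hr⟩
  · rw [h, hr, F.z_even]
  · exfalso
    rw [show z ^ i = z by rw [hr, F.z_odd], F.z_zpow, F.zpow_eq] at h
    obtain ⟨m, rfl⟩ := Nat.exists_eq_succ_of_ne_zero hn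
    obtain ⟨q, hq⟩ := h
    have e1 : (2 : ℤ) ^ (m + 1 + 1) = 4 * 2 ^ m := by ring
    have e2 : (2 : ℤ) ^ (m + 1 + 2) = 8 * 2 ^ m := by ring
    rw [e1, e2, hr, mul_assoc] at hq
    generalize (2 : ℤ) ^ m * q = w at hq
    generalize (2 : ℤ) ^ m = v at hq
    omega

theorem cent (F : Frame P T a z n) (hTP : T ≤ P) {t y : G} (ht : t ∈ T)
    (htR : t ∉ Subgroup.zpowers a) (hy : y ∈ Subgroup.zpowers a) (h : t * y * t⁻¹ = y) :
    y * y = 1 := by
  have htt := F.index_two hTP ht ht htR htR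
  obtain ⟨i, rfl⟩ := hy
  have h' : (t * a * t⁻¹) ^ i = a ^ i := conj_zpow.trans h
  rcases F.outer_cases hTP ht htR htt with e | ⟨e, hn⟩
  · rw [e, inv_zpow] at h'
    exact eq_inv_iff_mul_eq_one.mp h'.symm
  · rw [e, (show Commute a⁻¹ z from F.R_comm (inv_mem (Subgroup.mem_zpowers a)) F.z_mem).mul_zpow,
      inv_zpow] at h'
    refine F.sq_of_eq hn ?_
    rw [two_mul, zpow_add]
    calc a ^ i * a ^ i = a ^ i * ((a ^ i)⁻¹ * z ^ i) := by rw [h']
      _ = z ^ i := by group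

theorem cent_four (F : Frame P T a z n) (hTP : T ≤ P) {s : G} (hs : s ∈ T)
    (hsR : s ∉ Subgroup.zpowers a) (hss : s * s = 1) {t : G} (ht : t ∈ T) (hc : t * s = s * t) :
    t = 1 ∨ t = z ∨ t = s ∨ t = s * z := by
  have key : ∀ y ∈ Subgroup.zpowers a, s * y = y * s → y = 1 ∨ y = z := fun y hy h =>
    F.sq_cases hy (F.cent hTP hs hsR hy (mul_inv_eq_iff_eq_mul.mpr h))
  by_cases htR : t ∈ Subgroup.zpowers a
  · rcases key t htR hc.symm with e | e
    exacts [Or.inl e, Or.inr (Or.inl e)]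
  · have e0 : t = s * (s * t) := by rw [← mul_assoc, hss, one_mul]
    rcases key _ (F.index_two hTP hs ht hsR htR) (by rw [mul_assoc s t s, hc]) with e | e <;>
      rw [e] at e0
    exacts [Or.inr (Or.inr (Or.inl (e0.trans (mul_one s)))), Or.inr (Or.inr (Or.inr e0))]

theorem centralizer_two (F : Frame P T a z n) (hTP : T ≤ P) (hP : IsPGroup 2 ↥P) {K : Subgroup G}
    (hT : LocalEven.IsMaxP 2 T K) {s : G} (hs : s ∈ T) (hsR : s ∉ Subgroup.zpowers a)
    (hss : s * s = 1) {g : G} (hg : g ∈ K) {k : ℕ} (hgk : g ^ (2 ^ k) = 1)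
    (hgz : g * z = z * g) (hgs : g * s = s * g) :
    g = 1 ∨ g = z ∨ g = s ∨ g = s * z := by
  haveI : Fact (Nat.Prime 2) := ⟨Nat.prime_two⟩
  have hzT : z ∈ T := (Subgroup.zpowers_le.mpr F.mem) F.z_mem
  have hzs : z * s = s * z := (mul_inv_eq_iff_eq_mul.mp (F.z_fix (hTP hs))).symm
  set W := four z s F.z_sq hss hzs
  have hW : IsPGroup 2 ↥W := (hP.to_le hTP).to_le fun x hx => by
    rcases hx with rfl | rfl | rfl | rfl
    exacts [T.one_mem, hzT, hs, T.mul_mem hs hzT]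
  have hgW : Subgroup.zpowers g ≤ Subgroup.normalizer (W : Set G) := by
    rw [Subgroup.zpowers_le]
    refine Coprime.mem_normalizer_of_conj_mem fun x hx => ?_
    have hc : g * x = x * g := by
      rcases hx with rfl | rfl | rfl | rfl
      · simp
      · exact hgz
      · exact hgs
      · rw [← mul_assoc, hgs, mul_assoc, hgz, ← mul_assoc]
    rwa [hc, mul_inv_cancel_right]
  have hgp : IsPGroup 2 ↥(Subgroup.zpowers g) := by
    rintro ⟨x, i, rfl⟩
    refine ⟨k, Subtype.ext ?_⟩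
    show (g ^ i) ^ (2 ^ k) = 1
    rw [← zpow_natCast, ← zpow_mul, mul_comm, zpow_mul, zpow_natCast, hgk, one_zpow]
  set Cz := K ⊓ Subgroup.centralizer ({z} : Set G)
  have hTz : LocalEven.IsMaxP 2 T Cz :=
    hT.of_le (le_inf hT.1 fun x hx => Subgroup.mem_centralizer_singleton_iff.mpr
      (mul_inv_eq_iff_eq_mul.mp (F.z_fix (hTP hx)))) inf_le_left
  obtain ⟨l, hl, hlU⟩ := hTz.conj_le (hW.to_sup_of_normal_left' hgp hgW)
    (sup_le (fun x hx => by
      rcases hx with rfl | rfl | rfl | rfl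
      exacts [one_mem _, hTz.1 hzT, hTz.1 hs, mul_mem (hTz.1 hs) (hTz.1 hzT)])
      (Subgroup.zpowers_le.mpr
        (Subgroup.mem_inf.mpr ⟨hg, Subgroup.mem_centralizer_singleton_iff.mpr hgz⟩)))
  have hlz : l * z * l⁻¹ = z :=
    mul_inv_eq_iff_eq_mul.mpr (Subgroup.mem_centralizer_singleton_iff.mp (Subgroup.mem_inf.mp hl).2)
  have hs' : l * s * l⁻¹ ∈ T :=
    hlU (LocalEven.conj_mem_cj (Subgroup.mem_sup_left (Or.inr (Or.inr (Or.inl rfl)))))
  have hg' : l * g * l⁻¹ ∈ T :=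
    hlU (LocalEven.conj_mem_cj (Subgroup.mem_sup_right (Subgroup.mem_zpowers g)))
  have hss' : l * s * l⁻¹ * (l * s * l⁻¹) = 1 := by
    rw [show l * s * l⁻¹ * (l * s * l⁻¹) = l * (s * s) * l⁻¹ by group, hss]; group
  have hsR' : l * s * l⁻¹ ∉ Subgroup.zpowers a := by
    intro h
    rcases F.sq_cases h hss' with e | e
    · rw [mul_inv_eq_one, mul_eq_left] at e
      exact hsR (e ▸ one_mem _)
    · rw [← hlz] at e
      exact hsR (mul_left_cancel (mul_right_cancel e) ▸ F.z_mem)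
  have hcomm : l * g * l⁻¹ * (l * s * l⁻¹) = l * s * l⁻¹ * (l * g * l⁻¹) := by
    rw [show l * g * l⁻¹ * (l * s * l⁻¹) = l * (g * s) * l⁻¹ by group, hgs]; group
  have back : ∀ x y : G, l * x * l⁻¹ = l * y * l⁻¹ → x = y := fun x y h =>
    mul_left_cancel (mul_right_cancel h)
  rcases F.cent_four hTP hs' hsR' hss' hg' hcomm with e | e | e | e
  · rw [mul_inv_eq_one, mul_eq_left] at e
    exact Or.inl e
  · exact Or.inr (Or.inl (back _ _ (e.trans hlz.symm)))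
  · exact Or.inr (Or.inr (Or.inl (back _ _ e)))
  · refine Or.inr (Or.inr (Or.inr (back _ _ ?_)))
    rw [e]
    nth_rw 1 [← hlz]
    group

theorem relIndex_eq_two (F : Frame P T a z n) (hTP : T ≤ P) {s : G} (hs : s ∈ T)
    (hsR : s ∉ Subgroup.zpowers a) : (Subgroup.zpowers a).relIndex T = 2 := by
  rw [Subgroup.relIndex, Subgroup.index_eq_two_iff]
  refine ⟨⟨s, hs⟩, fun b => ?_⟩
  simp only [Subgroup.mem_subgroupOf, Subgroup.coe_mul]
  by_cases hb : (b : G) ∈ Subgroup.zpowers a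
  · refine Or.inr ⟨hb, fun h => hsR ?_⟩
    have := mul_mem (inv_mem hb) h
    rwa [inv_mul_cancel_left] at this
  · exact Or.inl ⟨F.index_two hTP b.2 hs hb hsR, hb⟩

/-- In a perfect group every involution of `T` outside `⟨a⟩` is conjugate to `z`. -/
theorem fusion (F : Frame P T a z n) (hTP : T ≤ P) {K : Subgroup G} (hT : LocalEven.IsMaxP 2 T K)
    (hK : ⁅K, K⁆ = K) {t : G} (ht : t ∈ T) (htR : t ∉ Subgroup.zpowers a) (htt : t * t = 1) :
    ∃ k ∈ K, k * t * k⁻¹ = z := by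
  haveI : Fact (Nat.Prime 2) := ⟨Nat.prime_two⟩
  obtain ⟨S, hS⟩ := hT.exists_sylow
  have hodd : Odd (T.relIndex K) := by
    rw [← hS, Subgroup.relIndex, show ((S : Subgroup ↥K).map K.subtype).subgroupOf K = (S : Subgroup ↥K)
      from Subgroup.comap_map_eq_self_of_injective K.subtype_injective _]
    exact Nat.not_even_iff_odd.mp fun h => S.not_dvd_index (even_iff_two_dvd.mp h)
  have hidx : ((Subgroup.zpowers a).subgroupOf K).index = 2 * T.relIndex K := by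
    rw [show ((Subgroup.zpowers a).subgroupOf K).index = (Subgroup.zpowers a).relIndex K from rfl,
      ← Subgroup.relIndex_mul_relIndex _ T K (Subgroup.zpowers_le.mpr F.mem) hT.1,
      F.relIndex_eq_two hTP ht htR]
  have htK : t ∈ K := hT.1 ht
  by_contra hcon
  obtain ⟨M, hM, hMi, -⟩ := Transfer.exists_index_two_of_forall_notMem
    ((Subgroup.zpowers a).subgroupOf K) hidx hodd (u := (⟨t, htK⟩ : ↥K))
    (Subtype.ext (by rw [pow_two]; exact htt)) (fun g hg => by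
      rcases F.sq_cases (Subgroup.mem_subgroupOf.mp hg) (by
          show (g : G) * t * (g : G)⁻¹ * ((g : G) * t * (g : G)⁻¹) = 1
          rw [show (g : G) * t * (g : G)⁻¹ * ((g : G) * t * (g : G)⁻¹) = g * (t * t) * (g : G)⁻¹ by group,
            htt]
          group) with e | e
      · have e' : (g : G) * t * (g : G)⁻¹ = 1 := e
        rw [mul_inv_eq_one, mul_eq_left] at e'
        exact htR (e' ▸ one_mem _)
      · exact hcon ⟨g, g.2, e⟩)
  have hperf : commutator ↥K = ⊤ := by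
    apply Subgroup.map_injective K.subtype_injective
    rw [commutator_def, Subgroup.map_commutator, ← MonoidHom.range_eq_map, Subgroup.range_subtype, hK]
  haveI := hM
  have hsub : IsMulCommutative (↥K ⧸ M) := by
    haveI : IsCyclic (↥K ⧸ M) := isCyclic_of_prime_card (p := 2) (by rw [← Subgroup.index_eq_card, hMi])
    exact ⟨⟨fun a b => (IsCyclic.commGroup (α := ↥K ⧸ M)).mul_comm a b⟩⟩
  have htop : (⊤ : Subgroup ↥K) ≤ M := by
    rw [← hperf, commutator_def, Subgroup.commutator_le]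
    intro x _ y _
    refine (QuotientGroup.eq_one_iff _).mp ?_
    show QuotientGroup.mk' M ⁅x, y⁆ = 1
    rw [map_commutatorElement, commutatorElement_eq_one_iff_mul_comm]
    exact hsub.is_comm.comm _ _
  rw [top_le_iff.mp htop, Subgroup.index_top] at hMi
  omega

/-- Some element of `K` centralizing `s` moves `z`. -/
theorem move (F : Frame P T a z n) (hTP : T ≤ P) (hP : IsPGroup 2 ↥P) {K : Subgroup G}
    (hT : LocalEven.IsMaxP 2 T K) (hK : ⁅K, K⁆ = K) {s : G} (hs : s ∈ T)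
    (hsR : s ∉ Subgroup.zpowers a) (hss : s * s = 1) :
    ∃ g ∈ K, g * s * g⁻¹ = s ∧ g * z * g⁻¹ = s * z := by
  haveI : Fact (Nat.Prime 2) := ⟨Nat.prime_two⟩
  have hzT : z ∈ T := (Subgroup.zpowers_le.mpr F.mem) F.z_mem
  obtain ⟨k₀, hk₀, e₀⟩ := F.fusion hTP hT hK hs hsR hss
  have hk : k₀⁻¹ * z * k₀⁻¹⁻¹ = s := by rw [← e₀]; group
  have hzs : z * s = s * z := (mul_inv_eq_iff_eq_mul.mp (F.z_fix (hTP hs))).symm
  set W := four z s F.z_sq hss hzs
  set Cs := K ⊓ Subgroup.centralizer ({s} : Set G)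
  have hWT : W ≤ T := fun x hx => by
    rcases hx with rfl | rfl | rfl | rfl
    exacts [T.one_mem, hzT, hs, T.mul_mem hs hzT]
  have hWCs : W ≤ Cs := le_inf (hWT.trans hT.1) fun x hx => Subgroup.mem_centralizer_singleton_iff.mpr (by
    rcases hx with rfl | rfl | rfl | rfl
    · simp
    · exact hzs
    · rfl
    · rw [mul_assoc, hzs])
  have hmax : LocalEven.IsMaxP 2 (LocalEven.cj k₀⁻¹ T) K := by
    have := hT.cj k₀⁻¹
    rwa [LocalEven.cj_eq_self_iff.mpr (Subgroup.le_normalizer (K.inv_mem hk₀))] at this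
  have hmaxC : LocalEven.IsMaxP 2 (LocalEven.cj k₀⁻¹ T) Cs :=
    hmax.of_le (le_inf hmax.1 (by
      rintro _ ⟨x, hx, rfl⟩
      refine Subgroup.mem_centralizer_singleton_iff.mpr ?_
      show k₀⁻¹ * x * k₀⁻¹⁻¹ * s = s * (k₀⁻¹ * x * k₀⁻¹⁻¹)
      conv_lhs => rw [← hk]
      conv_rhs => rw [← hk]
      have h1 : x * z = z * x := mul_inv_eq_iff_eq_mul.mp (F.z_fix (hTP hx))
      calc k₀⁻¹ * x * k₀⁻¹⁻¹ * (k₀⁻¹ * z * k₀⁻¹⁻¹) = k₀⁻¹ * (x * z) * k₀⁻¹⁻¹ := by group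
        _ = k₀⁻¹ * (z * x) * k₀⁻¹⁻¹ := by rw [h1]
        _ = _ := by group)) inf_le_left
  obtain ⟨l, hl, hlW⟩ := hmaxC.conj_le ((hP.to_le hTP).to_le hWT) hWCs
  set T₂ := LocalEven.cj l⁻¹ (LocalEven.cj k₀⁻¹ T)
  have hWT₂ : W ≤ T₂ := by
    have := LocalEven.cj_mono (g := l⁻¹) hlW
    rwa [LocalEven.cj_cj, inv_mul_cancel, LocalEven.cj_one] at this
  have hlt : W < T₂ := by
    refine lt_of_le_of_ne hWT₂ fun h => ?_
    have hWTeq : W = T := Subgroup.eq_of_le_of_card_ge hWT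
      (by rw [h, LocalEven.card_cj, LocalEven.card_cj])
    rcases (hWTeq ▸ F.mem : a ∈ W) with e | e | e | e
    · exact F.z_ne (by rw [F.hz, e, one_pow])
    · have h2 : a ^ (2 : ℕ) = 1 := by rw [pow_two, e, F.z_sq]
      exact F.z_ne (by rw [F.hz, pow_succ', pow_mul, h2, one_pow])
    · exact hsR (e ▸ Subgroup.mem_zpowers a)
    · exact hsR (by
        have h3 := mul_mem (Subgroup.mem_zpowers a) F.z_mem
        have e' : a * z = s := by rw [e, mul_assoc, F.z_sq, mul_one]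
        rwa [e'] at h3)
  have hT₂p : IsPGroup 2 ↥T₂ := LocalEven.isPGroup_cj (LocalEven.isPGroup_cj (hP.to_le hTP))
  have hlt' := Transfer.lt_inf_normalizer hT₂p hlt
  obtain ⟨g, hg, hgW⟩ := SetLike.exists_of_lt hlt'
  obtain ⟨hgT₂, hgN⟩ := Subgroup.mem_inf.mp hg
  have hgC : g ∈ Cs := by
    obtain ⟨y, hy, rfl⟩ := hgT₂
    exact mul_mem (mul_mem (inv_mem hl) (hmaxC.1 hy)) (inv_mem (inv_mem hl))
  obtain ⟨hgK, hgs⟩ := Subgroup.mem_inf.mp hgC
  have hgs' : g * s * g⁻¹ = s := mul_inv_eq_iff_eq_mul.mpr (Subgroup.mem_centralizer_singleton_iff.mp hgs)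
  refine ⟨g, hgK, hgs', ?_⟩
  have hmem : g * z * g⁻¹ ∈ W := (Subgroup.mem_normalizer_iff.mp hgN z).mp (Or.inr (Or.inl rfl))
  rcases hmem with e | e | e | e
  · rw [mul_inv_eq_one, mul_eq_left] at e
    exact absurd e F.z_ne
  · exfalso
    obtain ⟨k, hk⟩ := hT₂p ⟨g, hgT₂⟩
    exact hgW (F.centralizer_two hTP hP hT hs hsR hss hgK (congrArg Subtype.val hk)
      (mul_inv_eq_iff_eq_mul.mp e) (mul_inv_eq_iff_eq_mul.mp hgs'))
  · have h1 : g * z * g⁻¹ = g * s * g⁻¹ := e.trans hgs'.symm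
    exact absurd (mul_left_cancel (mul_right_cancel h1) ▸ F.z_mem) hsR
  · exact e

/-- No element outside acts on `{1, z, s, sz}` trivially and squares to `z`. -/
theorem no_root (F : Frame P T a z n) (hTP : T ≤ P) (hP : IsPGroup 2 ↥P) {K : Subgroup G}
    (hT : LocalEven.IsMaxP 2 T K) (hK : ⁅K, K⁆ = K) {s : G} (hs : s ∈ T)
    (hsR : s ∉ Subgroup.zpowers a) (hss : s * s = 1) {x : G}
    (hx : x ∈ Subgroup.normalizer (K : Set G)) (hxz : x * z = z * x) (hxs : x * s = s * x)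
    (hxx : x * x = z) : False := by
  haveI : Fact (Nat.Prime 2) := ⟨Nat.prime_two⟩
  have hzT : z ∈ T := (Subgroup.zpowers_le.mpr F.mem) F.z_mem
  obtain ⟨g, hg, hgs, hgz⟩ := F.move hTP hP hT hK hs hsR hss
  obtain ⟨y, hy⟩ : ∃ y, y = g * x * g⁻¹ := ⟨_, rfl⟩
  obtain ⟨c, hc⟩ : ∃ c, c = y * x⁻¹ := ⟨_, rfl⟩
  have hys : y * s = s * y := by
    conv_lhs => rw [← hgs]
    conv_rhs => rw [← hgs]
    rw [hy]
    calc g * x * g⁻¹ * (g * s * g⁻¹) = g * (x * s) * g⁻¹ := by group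
      _ = g * (s * x) * g⁻¹ := by rw [hxs]
      _ = _ := by group
  have hysz : y * (s * z) = s * z * y := by
    rw [← hgz, hy]
    calc g * x * g⁻¹ * (g * z * g⁻¹) = g * (x * z) * g⁻¹ := by group
      _ = g * (z * x) * g⁻¹ := by rw [hxz]
      _ = _ := by group
  have hyz : y * z = z * y := by
    calc y * z = y * (s * (s * z)) := by rw [← mul_assoc s, hss, one_mul]
      _ = s * (y * (s * z)) := by rw [← mul_assoc, hys, mul_assoc]
      _ = s * (s * z * y) := by rw [hysz]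
      _ = z * y := by rw [← mul_assoc, ← mul_assoc, hss, one_mul]
  have hcK : c ∈ K := by
    have h1 := (Subgroup.mem_normalizer_iff.mp hx g⁻¹).mp (K.inv_mem hg)
    have h2 := K.mul_mem hg h1
    rwa [show g * (x * g⁻¹ * x⁻¹) = c by rw [hc, hy]; group] at h2
  set Cw := K ⊓ (Subgroup.centralizer ({z} : Set G) ⊓ Subgroup.centralizer ({s} : Set G))
  have memCw : ∀ w, w ∈ Cw ↔ w ∈ K ∧ w * z = z * w ∧ w * s = s * w := fun w => by
    simp only [Cw, Subgroup.mem_inf, Subgroup.mem_centralizer_singleton_iff]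
  have hinv : ∀ w, w * x = x * w → w * x⁻¹ = x⁻¹ * w := fun w h =>
    ((show Commute w x from h).inv_right).eq
  have hcw : c ∈ Cw := by
    rw [memCw]
    refine ⟨hcK, ?_, ?_⟩ <;> rw [hc]
    · calc y * x⁻¹ * z = y * (z * x⁻¹) := by rw [mul_assoc, hinv z hxz.symm]
        _ = z * (y * x⁻¹) := by rw [← mul_assoc, hyz, mul_assoc]
    · calc y * x⁻¹ * s = y * (s * x⁻¹) := by rw [mul_assoc, hinv s hxs.symm]
        _ = s * (y * x⁻¹) := by rw [← mul_assoc, hys, mul_assoc]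
  have hdw : x * c * x⁻¹ ∈ Cw := by
    obtain ⟨-, h1, h2⟩ := (memCw c).mp hcw
    rw [memCw]
    refine ⟨(Subgroup.mem_normalizer_iff.mp hx c).mp hcK, ?_, ?_⟩
    · calc x * c * x⁻¹ * z = x * (c * z) * x⁻¹ := by rw [mul_assoc _ x⁻¹, ← hinv z hxz.symm]; group
        _ = x * z * c * x⁻¹ := by rw [h1]; group
        _ = z * (x * c * x⁻¹) := by rw [hxz]; group
    · calc x * c * x⁻¹ * s = x * (c * s) * x⁻¹ := by rw [mul_assoc _ x⁻¹, ← hinv s hxs.symm]; group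
        _ = x * s * c * x⁻¹ := by rw [h2]; group
        _ = s * (x * c * x⁻¹) := by rw [hxs]; group
  have hprod : c * (x * c * x⁻¹) = s := by
    have h1 : c * (x * c * x⁻¹) = y * y * (x * x)⁻¹ := by rw [hc]; group
    have h2 : y * y = g * z * g⁻¹ := by rw [hy, ← hxx]; group
    rw [h1, h2, hgz, hxx, mul_inv_cancel_right]
  have hzs : z * s = s * z := (mul_inv_eq_iff_eq_mul.mp (F.z_fix (hTP hs))).symm
  set W := four z s F.z_sq hss hzs
  have hWC : W ≤ Cw := fun w hw => by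
    rw [memCw]
    rcases hw with rfl | rfl | rfl | rfl
    · simp [K.one_mem]
    · exact ⟨hT.1 hzT, rfl, hzs⟩
    · exact ⟨hT.1 hs, hzs.symm, rfl⟩
    · exact ⟨K.mul_mem (hT.1 hs) (hT.1 hzT), by rw [← mul_assoc z, hzs], by
        rw [mul_assoc, hzs]⟩
  have hWmax : LocalEven.IsMaxP 2 W Cw := by
    refine ⟨hWC, (hP.to_le hTP).to_le (fun w hw => ?_), fun X hX hXC hWX => le_antisymm (fun w hw => ?_) hWX⟩
    · rcases hw with rfl | rfl | rfl | rfl
      exacts [T.one_mem, hzT, hs, T.mul_mem hs hzT]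
    · obtain ⟨h0, h1, h2⟩ := (memCw w).mp (hXC hw)
      obtain ⟨k, hk⟩ := hX ⟨w, hw⟩
      exact F.centralizer_two hTP hP hT hs hsR hss h0 (congrArg Subtype.val hk) h1 h2
  obtain ⟨S, hS⟩ := hWmax.exists_sylow
  have hWsub : W.subgroupOf Cw = (S : Subgroup ↥Cw) := by
    rw [← hS, Subgroup.subgroupOf]
    exact Subgroup.comap_map_eq_self_of_injective Cw.subtype_injective _
  have hWcen : W.subgroupOf Cw ≤ Subgroup.center ↥Cw := by
    intro w hw
    refine Subgroup.mem_center_iff.mpr fun d => Subtype.ext ?_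
    obtain ⟨-, h1, h2⟩ := (memCw d).mp d.2
    show (d : G) * w = w * d
    rcases Subgroup.mem_subgroupOf.mp hw with e | e | e | e <;> rw [e]
    · simp
    · exact h1
    · exact h2
    · rw [← mul_assoc, h2, mul_assoc, h1, ← mul_assoc]
  obtain ⟨r, hr⟩ := Subgroup.index_dvd_of_le hWcen
  set ci := (Subgroup.center ↥Cw).index
  have hhom : ∀ p q : ↥Cw, (p * q) ^ (ci * r) = p ^ (ci * r) * q ^ (ci * r) := fun p q => by
    have h1 := congrArg Subtype.val (map_mul (MonoidHom.transferCenterPow ↥Cw) p q)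
    simp only [MonoidHom.transferCenterPow_apply, Subgroup.coe_mul] at h1
    rw [pow_mul, h1, Commute.mul_pow, pow_mul, pow_mul]
    exact Subgroup.mem_center_iff.mp (Subgroup.pow_index_mem _ q) _
  set N := (W.subgroupOf Cw).index
  rw [← hr] at hhom
  have hodd : Odd N := by
    simp only [N, hWsub]
    exact Nat.not_even_iff_odd.mp fun h => S.not_dvd_index (even_iff_two_dvd.mp h)
  have hsq : ∀ p : ↥Cw, ((p ^ N : ↥Cw) : G) ∈ W := by
    intro p
    obtain ⟨m, hm⟩ := IsPGroup.iff_card.mp S.isPGroup'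
    have h1 : (p ^ N) ^ (2 ^ m) = 1 := by
      have h := (W.subgroupOf Cw).card_mul_index
      rw [hWsub, hm] at h
      rw [← pow_mul, mul_comm, show N = (S : Subgroup ↥Cw).index by simp only [N, hWsub], h]
      exact pow_card_eq_one'
    obtain ⟨h0, h2, h3⟩ := (memCw _).mp (p ^ N : ↥Cw).2
    exact F.centralizer_two hTP hP hT hs hsR hss h0
      (by rw [← Subgroup.coe_pow, h1, Subgroup.coe_one]) h2 h3
  have h1 := congrArg Subtype.val (hhom ⟨c, hcw⟩ ⟨x * c * x⁻¹, hdw⟩)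
  simp only [Subgroup.coe_mul, Subgroup.coe_pow] at h1
  rw [hprod, conj_pow] at h1
  have hsN : s ^ N = s := by
    obtain ⟨k, hk⟩ := hodd
    rw [hk, pow_succ, pow_mul, pow_two, hss, one_pow, one_mul]
  have hw := hsq ⟨c, hcw⟩
  simp only [Subgroup.coe_pow] at hw
  have hxw : x * c ^ N * x⁻¹ = c ^ N := by
    rcases hw with e | e | e | e <;> rw [e, mul_inv_eq_iff_eq_mul]
    · simp
    · exact hxz
    · exact hxs
    · rw [← mul_assoc, hxs, mul_assoc, hxz, ← mul_assoc]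
  have hww : c ^ N * c ^ N = 1 := by
    rcases hw with e | e | e | e <;> rw [e]
    · simp
    · exact F.z_sq
    · exact hss
    · rw [mul_assoc s z, ← mul_assoc z, hzs, mul_assoc s z z, F.z_sq, mul_one, hss]
  rw [hxw, hww, hsN] at h1
  exact hsR (h1 ▸ one_mem _)

/-- An involution of `P` with the good action centralizes a four-subgroup of `T`. -/
theorem good_element (F : Frame P T a z n) (hTP : T ≤ P) (hP : IsPGroup 2 ↥P) {K : Subgroup G}
    (hT : LocalEven.IsMaxP 2 T K) (hK : ⁅K, K⁆ = K) (hPK : P ≤ Subgroup.normalizer (K : Set G))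
    {s : G} (hs : s ∈ T) (hsR : s ∉ Subgroup.zpowers a) (hss : s * s = 1) {u : G} (hu : u ∈ P)
    (huu : u * u = 1) (hus : ∃ i : ℤ, u * s * u⁻¹ = s * a ^ (2 * i))
    (hua : s * a * s⁻¹ = a⁻¹ ∨ u * a * u⁻¹ = a ∨ u * a * u⁻¹ = s * a * s⁻¹) :
    ∃ e ∈ T, ∃ e' ∈ T, e ≠ 1 ∧ e' ≠ 1 ∧ e ≠ e' ∧ e * e = 1 ∧ e' * e' = 1 ∧ e * e' = e' * e ∧
      u * e = e * u ∧ u * e' = e' * u := by
  have hzT : z ∈ T := (Subgroup.zpowers_le.mpr F.mem) F.z_mem
  have hRT : Subgroup.zpowers a ≤ T := Subgroup.zpowers_le.mpr F.mem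
  have zcomm : ∀ q ∈ P, q * z = z * q := fun q hq => mul_inv_eq_iff_eq_mul.mp (F.z_fix hq)
  have hss' : s⁻¹ = s := inv_eq_of_mul_eq_one_right hss
  have houter := F.outer_cases hTP hs hsR (by rw [hss]; exact one_mem _)
  have hne1 : a⁻¹ ≠ a := fun h => F.z_ne (by
    rw [F.hz, pow_succ', pow_mul, pow_two]
    nth_rw 1 [← h]
    rw [inv_mul_cancel, one_pow])
  obtain ⟨i, hi⟩ := hus
  obtain ⟨j, hj⟩ : ∃ j : ℤ, a ^ j * (s * a ^ (2 * i)) * (a ^ j)⁻¹ = s := by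
    have hcz : Commute a⁻¹ z := F.R_comm (inv_mem (Subgroup.mem_zpowers a)) F.z_mem
    rcases houter with e | ⟨e, hn⟩
    · refine ⟨i, ?_⟩
      calc a ^ i * (s * a ^ (2 * i)) * (a ^ i)⁻¹ = s * ((s⁻¹ * a ^ i * s) * a ^ i) := by group
        _ = s := by
          rw [show s⁻¹ * a ^ i * s = s * a ^ i * s⁻¹ by rw [hss'], ← conj_zpow, e, inv_zpow]
          group
    · obtain ⟨m, rfl⟩ := Nat.exists_eq_succ_of_ne_zero hn
      have key : ∀ j : ℤ, a ^ (2 * i - 2 * j) * z ^ j = 1 →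
          a ^ j * (s * a ^ (2 * i)) * (a ^ j)⁻¹ = s := fun j hj => by
        calc a ^ j * (s * a ^ (2 * i)) * (a ^ j)⁻¹
            = s * ((s⁻¹ * a ^ j * s) * a ^ (2 * i - j)) := by group
          _ = s * ((a ^ (-j) * z ^ j) * a ^ (2 * i - j)) := by
            rw [show s⁻¹ * a ^ j * s = s * a ^ j * s⁻¹ by rw [hss'], ← conj_zpow, e, hcz.mul_zpow,
              inv_zpow, zpow_neg]
          _ = s * (a ^ (-j) * a ^ (2 * i - j) * z ^ j) := by
            rw [mul_assoc (a ^ (-j)), mul_assoc (a ^ (-j)), F.R_comm (Subgroup.zpow_mem _ F.z_mem j)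
              (Subgroup.zpow_mem _ (Subgroup.mem_zpowers a) _)]
          _ = s := by rw [← zpow_add, show -j + (2 * i - j) = 2 * i - 2 * j by ring, hj, mul_one]
      rcases Int.even_or_odd' i with ⟨r, hr | hr⟩
      · exact ⟨i, key i (by rw [sub_self, zpow_zero, one_mul, hr, F.z_even])⟩
      · refine ⟨i + (2 : ℤ) ^ (m + 1), key _ ?_⟩
        rw [show 2 * i - 2 * (i + (2 : ℤ) ^ (m + 1)) = -((2 : ℤ) ^ (m + 1 + 1)) by ring, zpow_neg,
          ← F.z_zpow, hr, show 2 * r + 1 + (2 : ℤ) ^ (m + 1) = 2 * (r + 2 ^ m) + 1 by ring, F.z_odd,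
          inv_mul_cancel]
  obtain ⟨y, hyR, hy⟩ : ∃ y ∈ Subgroup.zpowers a, y * (u * s * u⁻¹) * y⁻¹ = s :=
    ⟨a ^ j, ⟨j, rfl⟩, by rw [hi, hj]⟩
  obtain ⟨x₀, hx₀⟩ : ∃ x, x = y * u := ⟨_, rfl⟩
  have hx₀P : x₀ ∈ P := hx₀ ▸ P.mul_mem (hTP (hRT hyR)) hu
  have hx₀s : x₀ * s = s * x₀ := mul_inv_eq_iff_eq_mul.mp (by
    rw [hx₀, show y * u * s * (y * u)⁻¹ = y * (u * s * u⁻¹) * y⁻¹ by group, hy])
  have hx₀x₀ : x₀ * x₀ = 1 := by
    have hmem : x₀ * x₀ ∈ Subgroup.zpowers a := by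
      rw [hx₀, show y * u * (y * u) = y * (u * y * u⁻¹) * (u * u) by group, huu, mul_one]
      exact mul_mem hyR (F.conj_mem hu hyR)
    have hc : x₀ * x₀ * s = s * (x₀ * x₀) := by
      rw [mul_assoc, hx₀s, ← mul_assoc, hx₀s, mul_assoc]
    rcases F.sq_cases hmem (F.cent hTP hs hsR hmem (mul_inv_eq_iff_eq_mul.mpr hc.symm)) with e | e
    · exact e
    · exact (F.no_root hTP hP hT hK hs hsR hss (hPK hx₀P) (zcomm _ hx₀P) hx₀s e).elim
  obtain ⟨t, x, ht, hxP, hxs, hxx, hxf, hut⟩ : ∃ t x : G, t ∈ T ∧ x ∈ P ∧ x * s = s * x ∧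
      x * x = 1 ∧ x * a ^ (2 ^ n) * x⁻¹ = a ^ (2 ^ n) ∧ u = t * x := by
    rcases F.f_cases hx₀P with e | e
    · exact ⟨y⁻¹, x₀, T.inv_mem (hRT hyR), hx₀P, hx₀s, hx₀x₀, e, by rw [hx₀]; group⟩
    · refine ⟨y⁻¹ * s, x₀ * s, T.mul_mem (T.inv_mem (hRT hyR)) hs, P.mul_mem hx₀P (hTP hs), ?_, ?_,
        ?_, ?_⟩
      · rw [← mul_assoc s, ← hx₀s]
      · rw [mul_assoc x₀ s, ← mul_assoc s x₀, ← hx₀s, mul_assoc x₀ s s, hss, mul_one, hx₀x₀]
      · rw [show x₀ * s * a ^ 2 ^ n * (x₀ * s)⁻¹ = x₀ * (s * a ^ 2 ^ n * s⁻¹) * x₀⁻¹ by group,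
          (F.f_cases (hTP hs)).resolve_left (fun h => hsR (F.outer s hs h)), ← conj_inv, e, inv_inv]
      · rw [hx₀s, ← mul_assoc (y⁻¹ * s), mul_assoc y⁻¹ s s, hss, mul_one, hx₀]
        group
  have hx' : x⁻¹ = x := inv_eq_of_mul_eq_one_right hxx
  have hxt : x * t * x⁻¹ = t⁻¹ := by
    refine eq_inv_of_mul_eq_one_right ?_
    rw [hut] at huu
    rw [hx', ← mul_assoc, ← mul_assoc]
    rwa [← mul_assoc] at huu
  have hxa := F.fix_cases hxP (by rw [hxx]; group) hxf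
  by_cases htR : t ∈ Subgroup.zpowers a
  · have htt : t * t = 1 := by
      obtain ⟨k, rfl⟩ := htR
      have hk : (x * a * x⁻¹) ^ k = (a ^ k)⁻¹ := conj_zpow.trans hxt
      rcases hxa with e | ⟨e, hn⟩
      · rw [e] at hk
        exact eq_inv_iff_mul_eq_one.mp hk
      · rw [e, (show Commute a z from F.R_comm (Subgroup.mem_zpowers a) F.z_mem).mul_zpow] at hk
        refine F.sq_of_eq hn ?_
        have h2 : z ^ k * z ^ k = 1 := by rw [← zpow_add, ← two_mul, F.z_even]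
        calc a ^ (2 * k) = a ^ k * (a ^ k * z ^ k) * z ^ k := by
              rw [two_mul, zpow_add, mul_assoc (a ^ k) (a ^ k * z ^ k), mul_assoc (a ^ k) (z ^ k), h2,
                mul_one]
          _ = z ^ k := by rw [hk, mul_inv_cancel, one_mul]
    have hzs : z * s = s * z := (zcomm s (hTP hs)).symm
    refine ⟨z, hzT, s, hs, F.z_ne, fun h => hsR (h ▸ one_mem _), fun h => hsR (h ▸ F.z_mem), F.z_sq,
      hss, hzs, zcomm u hu, ?_⟩
    rcases F.sq_cases htR htt with e | e <;> rw [hut, e]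
    · rw [one_mul, hxs]
    · rw [mul_assoc, hxs, ← mul_assoc, hzs, mul_assoc]
  · have httR := F.index_two hTP ht ht htR htR
    have hsq : t * t * (t * t) = 1 := F.cent hTP ht htR httR (by group)
    rcases F.sq_cases httR hsq with htt | htt
    · have ht' : t⁻¹ = t := inv_eq_of_mul_eq_one_right htt
      have hxt' : x * t = t * x := mul_inv_eq_iff_eq_mul.mp (hxt.trans ht')
      refine ⟨z, hzT, t, ht, F.z_ne, fun h => htR (h ▸ one_mem _), fun h => htR (h ▸ F.z_mem), F.z_sq,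
        htt, (zcomm t (hTP ht)).symm, zcomm u hu, ?_⟩
      rw [hut, mul_assoc, hxt']
    · exfalso
      obtain ⟨r, hrR, rfl⟩ : ∃ r ∈ Subgroup.zpowers a, t = s * r :=
        ⟨s * t, F.index_two hTP hs ht hsR htR, by rw [← mul_assoc, hss, one_mul]⟩
      have htsq : s * r * (s * r) = s * r * s⁻¹ * r := by rw [hss']; group
      rcases houter with e | ⟨e, hn⟩
      · obtain ⟨k, rfl⟩ := hrR
        dsimp only at htt htsq
        rw [htsq, ← conj_zpow, e, inv_zpow, inv_mul_cancel] at htt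
        exact F.z_ne htt.symm
      · have hua' : u * a * u⁻¹ = a ∨ u * a * u⁻¹ = s * a * s⁻¹ := hua.resolve_left fun h => by
          rw [e] at h
          exact F.z_ne (mul_eq_left.mp h)
        have hconj : ∀ b ∈ Subgroup.zpowers a, (s * r)⁻¹ * b * (s * r) = s * b * s⁻¹ := fun b hb => by
          have hm : s⁻¹ * b * s ∈ Subgroup.zpowers a := by
            have := F.conj_mem (inv_mem (hTP hs)) hb
            rwa [inv_inv] at this
          calc (s * r)⁻¹ * b * (s * r) = r⁻¹ * (s⁻¹ * b * s) * r := by group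
            _ = s⁻¹ * b * s := by
              rw [F.R_comm (inv_mem hrR) hm, mul_assoc, inv_mul_cancel, mul_one]
            _ = _ := by rw [hss']
        have hxu : x * a * x⁻¹ = s * (u * a * u⁻¹) * s⁻¹ := by
          rw [← hconj _ (F.conj_mem hu (Subgroup.mem_zpowers a)), hut]
          group
        have hxa' : x * a * x⁻¹ = a := by
          rcases hxa with h | ⟨h, -⟩
          · exact h
          exfalso
          rcases hua' with h1 | h1 <;> rw [h1, h] at hxu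
          · rw [e] at hxu
            exact hne1 (mul_right_cancel hxu).symm
          · rw [show s * (s * a * s⁻¹) * s⁻¹ = s * s * a * (s * s)⁻¹ by group, hss] at hxu
            simp only [one_mul, inv_one, mul_one] at hxu
            exact F.z_ne (mul_eq_left.mp hxu)
        have hxr : x * r * x⁻¹ = r := by
          obtain ⟨k, rfl⟩ := hrR
          show x * a ^ k * x⁻¹ = a ^ k
          rw [← conj_zpow, hxa']
        have hfix : x * (s * r) * x⁻¹ = s * r := by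
          rw [show x * (s * r) * x⁻¹ = x * s * x⁻¹ * (x * r * x⁻¹) by group,
            mul_inv_eq_iff_eq_mul.mpr hxs, hxr]
        rw [hfix] at hxt
        rw [eq_inv_iff_mul_eq_one.mp hxt] at htt
        exact F.z_ne htt.symm

/-- One of the three involutions of a four-group acts well. -/
theorem pigeon (F : Frame P T a z n) (hTP : T ≤ P) (hTn : P ≤ Subgroup.normalizer (T : Set G))
    {s : G} (hs : s ∈ T) (hsR : s ∉ Subgroup.zpowers a) (hss : s * s = 1) {u₁ u₂ : G}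
    (h₁ : u₁ ∈ P) (h₂ : u₂ ∈ P) (hu₁ : u₁ * u₁ = 1) (hu₂ : u₂ * u₂ = 1) :
    ∃ u, (u = u₁ ∨ u = u₂ ∨ u = u₁ * u₂) ∧ (∃ i : ℤ, u * s * u⁻¹ = s * a ^ (2 * i)) ∧
      (s * a * s⁻¹ = a⁻¹ ∨ u * a * u⁻¹ = a ∨ u * a * u⁻¹ = s * a * s⁻¹) := by
  have hconj : ∀ q ∈ P, ∃ k : ℤ, q * s * q⁻¹ = s * a ^ k := by
    intro q hq
    have hqT : q * s * q⁻¹ ∈ T := (Subgroup.mem_normalizer_iff.mp (hTn hq) s).mp hs
    have hqR : q * s * q⁻¹ ∉ Subgroup.zpowers a := fun h =>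
      hsR ((Subgroup.mem_normalizer_iff.mp (F.norm hq) s).mpr h)
    obtain ⟨k, hk⟩ := F.index_two hTP hs hqT hsR hqR
    refine ⟨k, ?_⟩
    have hk' : a ^ k = s * (q * s * q⁻¹) := hk
    rw [hk', ← mul_assoc, hss, one_mul]
  have hact : ∀ q ∈ P, q * q = 1 →
      q * a * q⁻¹ = a ∨ q * a * q⁻¹ = a⁻¹ ∨ q * a * q⁻¹ = a * z ∨ q * a * q⁻¹ = a⁻¹ * z :=
    fun q hq hqq => F.act_cases hq (by rw [hqq]; group)
  rcases F.outer_cases hTP hs hsR (by rw [hss]; exact one_mem _) with e | ⟨e, hn⟩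
  · obtain ⟨k₁, hk₁⟩ := hconj u₁ h₁
    obtain ⟨k₂, hk₂⟩ := hconj u₂ h₂
    rcases Int.even_or_odd' k₁ with ⟨i₁, hi₁ | hi₁⟩
    · exact ⟨u₁, Or.inl rfl, ⟨i₁, hi₁ ▸ hk₁⟩, Or.inl e⟩
    rcases Int.even_or_odd' k₂ with ⟨i₂, hi₂ | hi₂⟩
    · exact ⟨u₂, Or.inr (Or.inl rfl), ⟨i₂, hi₂ ▸ hk₂⟩, Or.inl e⟩
    obtain ⟨m, hm⟩ : ∃ m : ℤ, u₁ * a * u₁⁻¹ = a ^ (2 * m + 1) := by
      rcases hact u₁ h₁ hu₁ with h | h | h | h
      · exact ⟨0, by rw [h]; simp⟩
      · exact ⟨-1, by rw [h]; norm_num⟩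
      · refine ⟨(2 : ℤ) ^ n, ?_⟩
        rw [h, ← pow_succ', zpow_add, zpow_one, ← F.z_zpow]
        exact F.R_comm (Subgroup.mem_zpowers a) F.z_mem
      · refine ⟨(2 : ℤ) ^ n - 1, ?_⟩
        rw [h, show 2 * ((2 : ℤ) ^ n - 1) + 1 = -1 + 2 ^ (n + 1) by ring, zpow_add, ← F.z_zpow,
          zpow_neg, zpow_one]
    refine ⟨u₁ * u₂, Or.inr (Or.inr rfl), ⟨i₁ + m * k₂ + i₂ + 1, ?_⟩, Or.inl e⟩
    calc u₁ * u₂ * s * (u₁ * u₂)⁻¹ = u₁ * (u₂ * s * u₂⁻¹) * u₁⁻¹ := by group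
      _ = u₁ * s * u₁⁻¹ * (u₁ * a * u₁⁻¹) ^ k₂ := by rw [hk₂, conj_zpow]; group
      _ = s * a ^ (k₁ + (2 * m + 1) * k₂) := by rw [hk₁, hm, ← zpow_mul, zpow_add, mul_assoc]
      _ = _ := by rw [hi₁, hi₂]; congr 2; ring
  · have hcz : Commute a⁻¹ z := F.R_comm (inv_mem (Subgroup.mem_zpowers a)) F.z_mem
    have heven : ∀ q ∈ P, ∃ i : ℤ, q * s * q⁻¹ = s * a ^ (2 * i) := by
      intro q hq
      obtain ⟨k, hk⟩ := hconj q hq
      rcases Int.even_or_odd' k with ⟨i, hi | hi⟩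
      · exact ⟨i, hi ▸ hk⟩
      exfalso
      have h1 : q * s * q⁻¹ * (q * s * q⁻¹) = 1 := by
        rw [show q * s * q⁻¹ * (q * s * q⁻¹) = q * (s * s) * q⁻¹ by group, hss]; group
      have h2 : s * a ^ k * (s * a ^ k) = z ^ k := by
        calc s * a ^ k * (s * a ^ k) = s * a ^ k * s⁻¹ * (s * s) * a ^ k := by group
          _ = (a ^ k)⁻¹ * z ^ k * a ^ k := by
            rw [← conj_zpow, e, hcz.mul_zpow, inv_zpow, hss, mul_one]
          _ = z ^ k := by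
            rw [mul_assoc, F.R_comm (Subgroup.zpow_mem _ F.z_mem k)
              (Subgroup.zpow_mem _ (Subgroup.mem_zpowers a) k), inv_mul_cancel_left]
      rw [hk, h2, hi, F.z_odd] at h1
      exact F.z_ne h1
    have hbad : ∀ q ∈ P, q * q = 1 → q * a * q⁻¹ = a⁻¹ ∨ q * a * q⁻¹ = a * z ∨
        ((∃ i : ℤ, q * s * q⁻¹ = s * a ^ (2 * i)) ∧
          (s * a * s⁻¹ = a⁻¹ ∨ q * a * q⁻¹ = a ∨ q * a * q⁻¹ = s * a * s⁻¹)) := by
      intro q hq hqq
      rcases hact q hq hqq with h | h | h | h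
      exacts [Or.inr (Or.inr ⟨heven q hq, Or.inr (Or.inl h)⟩), Or.inl h, Or.inr (Or.inl h),
        Or.inr (Or.inr ⟨heven q hq, Or.inr (Or.inr (h.trans e.symm))⟩)]
    have hz1' := F.z_fix h₁
    rcases hbad u₁ h₁ hu₁ with c₁ | c₁ | c₁
    · rcases hbad u₂ h₂ hu₂ with c₂ | c₂ | c₂
      · refine ⟨u₁ * u₂, Or.inr (Or.inr rfl), heven _ (P.mul_mem h₁ h₂), Or.inr (Or.inl ?_)⟩
        rw [show u₁ * u₂ * a * (u₁ * u₂)⁻¹ = u₁ * (u₂ * a * u₂⁻¹) * u₁⁻¹ by group, c₂, ← conj_inv,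
          c₁, inv_inv]
      · refine ⟨u₁ * u₂, Or.inr (Or.inr rfl), heven _ (P.mul_mem h₁ h₂), Or.inr (Or.inr ?_)⟩
        rw [show u₁ * u₂ * a * (u₁ * u₂)⁻¹ = u₁ * (u₂ * a * u₂⁻¹) * u₁⁻¹ by group, c₂,
          show u₁ * (a * z) * u₁⁻¹ = u₁ * a * u₁⁻¹ * (u₁ * z * u₁⁻¹) by group, c₁, hz1', e]
      · exact ⟨u₂, Or.inr (Or.inl rfl), c₂⟩
    · rcases hbad u₂ h₂ hu₂ with c₂ | c₂ | c₂
      · refine ⟨u₁ * u₂, Or.inr (Or.inr rfl), heven _ (P.mul_mem h₁ h₂), Or.inr (Or.inr ?_)⟩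
        rw [show u₁ * u₂ * a * (u₁ * u₂)⁻¹ = u₁ * (u₂ * a * u₂⁻¹) * u₁⁻¹ by group, c₂, ← conj_inv,
          c₁, mul_inv_rev, inv_eq_of_mul_eq_one_right F.z_sq, e]
        exact hcz.symm.eq
      · refine ⟨u₁ * u₂, Or.inr (Or.inr rfl), heven _ (P.mul_mem h₁ h₂), Or.inr (Or.inl ?_)⟩
        rw [show u₁ * u₂ * a * (u₁ * u₂)⁻¹ = u₁ * (u₂ * a * u₂⁻¹) * u₁⁻¹ by group, c₂,
          show u₁ * (a * z) * u₁⁻¹ = u₁ * a * u₁⁻¹ * (u₁ * z * u₁⁻¹) by group, c₁, hz1', mul_assoc,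
          F.z_sq, mul_one]
      · exact ⟨u₂, Or.inr (Or.inl rfl), c₂⟩
    · exact ⟨u₁, Or.inl rfl, c₁⟩

end Frame

/-- A perfect group with two commuting involutions, normalized by a four-group `U`, contains two
commuting involutions centralized by some involution of `U`. -/
theorem exists_four_centralized {K : Subgroup G} (hK : ⁅K, K⁆ = K) {u₁ u₂ : G}
    (hu₁ : u₁ * u₁ = 1) (hu₂ : u₂ * u₂ = 1) (hu : u₁ * u₂ = u₂ * u₁)
    (hn₁ : u₁ ∈ Subgroup.normalizer (K : Set G)) (hn₂ : u₂ ∈ Subgroup.normalizer (K : Set G))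
    {e₁ e₂ : G} (he₁ : e₁ ∈ K) (he₂ : e₂ ∈ K) (h₁ : e₁ ≠ 1) (h₂ : e₂ ≠ 1) (hne : e₁ ≠ e₂)
    (hs₁ : e₁ * e₁ = 1) (hs₂ : e₂ * e₂ = 1) (he : e₁ * e₂ = e₂ * e₁) :
    ∃ u, (u = u₁ ∨ u = u₂ ∨ u = u₁ * u₂) ∧ ∃ e ∈ K, ∃ e' ∈ K, e ≠ 1 ∧ e' ≠ 1 ∧ e ≠ e' ∧
      e * e = 1 ∧ e' * e' = 1 ∧ e * e' = e' * e ∧ u * e = e * u ∧ u * e' = e' * u := by
  haveI : Fact (Nat.Prime 2) := ⟨Nat.prime_two⟩
  have four_p : ∀ (b c : G) (hb : b * b = 1) (hc : c * c = 1) (h : b * c = c * b),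
      IsPGroup 2 ↥(four b c hb hc h) := by
    intro b c hb hc h
    rintro ⟨x, hx⟩
    refine ⟨1, Subtype.ext ?_⟩
    show x ^ (2 ^ 1) = 1
    rw [pow_one, pow_two]
    rcases hx with rfl | rfl | rfl | rfl
    · exact one_mul 1
    · exact hb
    · exact hc
    · rw [mul_assoc c b, ← mul_assoc b, h, mul_assoc c b b, hb, mul_one, hc]
  set U := four u₁ u₂ hu₁ hu₂ hu
  have hUK : U ≤ Subgroup.normalizer (K : Set G) := by
    rintro x (rfl | rfl | rfl | rfl)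
    exacts [one_mem _, hn₁, hn₂, mul_mem hn₂ hn₁]
  obtain ⟨P, hP, hUP⟩ := LocalEven.exists_isMaxP_le (K := K ⊔ U) (four_p _ _ hu₁ hu₂ hu) le_sup_right
  have hKn : K ⊔ U ≤ Subgroup.normalizer (K : Set G) := sup_le Subgroup.le_normalizer hUK
  have hT := hP.inf_normal le_sup_left hKn
  set T := P ⊓ K
  have hTP : T ≤ P := inf_le_left
  have hPK : P ≤ Subgroup.normalizer (K : Set G) := hP.1.trans hKn
  have hTn : P ≤ Subgroup.normalizer (T : Set G) :=
    (le_inf Subgroup.le_normalizer hPK).trans Subgroup.inf_normalizer_le_normalizer_inf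
  obtain ⟨l, hl, hlT⟩ := hT.conj_le (four_p _ _ hs₁ hs₂ he) (by
    rintro x (rfl | rfl | rfl | rfl)
    exacts [K.one_mem, he₁, he₂, K.mul_mem he₂ he₁])
  have hf₁ : l * e₁ * l⁻¹ ∈ T := hlT (LocalEven.conj_mem_cj (Or.inr (Or.inl rfl)))
  have hf₂ : l * e₂ * l⁻¹ ∈ T := hlT (LocalEven.conj_mem_cj (Or.inr (Or.inr (Or.inl rfl))))
  have hconj1 : ∀ {x : G}, x ≠ 1 → l * x * l⁻¹ ≠ 1 := fun hx h => hx (by
    rwa [mul_inv_eq_one, mul_eq_left] at h)
  have hsq : ∀ {x : G}, x * x = 1 → l * x * l⁻¹ * (l * x * l⁻¹) = 1 := fun {x} hx => by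
    rw [show l * x * l⁻¹ * (l * x * l⁻¹) = l * (x * x) * l⁻¹ by group, hx]; group
  have hne' : l * e₁ * l⁻¹ ≠ l * e₂ * l⁻¹ := fun h => hne (mul_left_cancel (mul_right_cancel h))
  have hu₁P : u₁ ∈ P := hUP (Or.inr (Or.inl rfl))
  have hu₂P : u₂ ∈ P := hUP (Or.inr (Or.inr (Or.inl rfl)))
  by_cases hno : ∀ N : Subgroup G, N ≤ T → P ≤ Subgroup.normalizer (N : Set G) →
      (∀ x ∈ N, x * x = 1) → ∀ a ∈ N, ∀ b ∈ N, a ≠ 1 → b ≠ 1 → a = b
  · obtain ⟨a, z, n, F⟩ := exists_frame hP.2.1 hTP hTn hno hf₁ hf₂ (hconj1 h₁) (hconj1 h₂) hne'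
      (hsq hs₁) (hsq hs₂)
    obtain ⟨s, hs, hsR, hss⟩ : ∃ s ∈ T, s ∉ Subgroup.zpowers a ∧ s * s = 1 := by
      by_contra hcon
      push Not at hcon
      have h1 : l * e₁ * l⁻¹ ∈ Subgroup.zpowers a :=
        by_contra fun h => hcon _ hf₁ h (hsq hs₁)
      have h2 : l * e₂ * l⁻¹ ∈ Subgroup.zpowers a :=
        by_contra fun h => hcon _ hf₂ h (hsq hs₂)
      exact hne' (((F.sq_cases h1 (hsq hs₁)).resolve_left (hconj1 h₁)).trans
        ((F.sq_cases h2 (hsq hs₂)).resolve_left (hconj1 h₂)).symm)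
    obtain ⟨u, hu', hi, ha⟩ := F.pigeon hTP hTn hs hsR hss hu₁P hu₂P hu₁ hu₂
    have huP : u ∈ P ∧ u * u = 1 := by
      rcases hu' with rfl | rfl | rfl
      exacts [⟨hu₁P, hu₁⟩, ⟨hu₂P, hu₂⟩, ⟨P.mul_mem hu₁P hu₂P, by
        rw [mul_assoc, ← mul_assoc u₂, ← hu, mul_assoc, hu₂, mul_one, hu₁]⟩]
    obtain ⟨e, heT, e', he'T, h⟩ := F.good_element hTP hP.2.1 hT hK hPK hs hsR hss huP.1 huP.2 hi ha
    exact ⟨u, hu', e, hT.1 heT, e', hT.1 he'T, h⟩
  · push Not at hno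
    obtain ⟨N, hNT, hNn, hN2, a, ha, b, hb, ha1, hb1, hab⟩ := hno
    obtain ⟨z, w, hz, hw, hz1, hw1, hzw, hzfix, hwc⟩ :=
      exists_normal_four hP.2.1 (hNT.trans hTP) hNn hN2 ha hb ha1 hb1 hab
    have hcomm : z * w = w * z := mul_inv_eq_iff_eq_mul.mp (hzfix w (hNT.trans hTP hw)) |>.symm
    have zc : ∀ q ∈ P, q * z = z * q := fun q hq => mul_inv_eq_iff_eq_mul.mp (hzfix q hq)
    rcases exists_fix hu₁P hu₂P hzfix (hN2 z hz) hwc with e | e | e
    · exact ⟨u₁, Or.inl rfl, z, hT.1 (hNT hz), w, hT.1 (hNT hw), hz1, hw1, hzw, hN2 z hz, hN2 w hw,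
        hcomm, zc _ hu₁P, mul_inv_eq_iff_eq_mul.mp e⟩
    · exact ⟨u₂, Or.inr (Or.inl rfl), z, hT.1 (hNT hz), w, hT.1 (hNT hw), hz1, hw1, hzw, hN2 z hz,
        hN2 w hw, hcomm, zc _ hu₂P, mul_inv_eq_iff_eq_mul.mp e⟩
    · exact ⟨u₁ * u₂, Or.inr (Or.inr rfl), z, hT.1 (hNT hz), w, hT.1 (hNT hw), hz1, hw1, hzw, hN2 z hz,
        hN2 w hw, hcomm, zc _ (P.mul_mem hu₁P hu₂P), mul_inv_eq_iff_eq_mul.mp e⟩

end Cfsg.Agent.Components.RankOneDescent
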